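import Cfsg.Agent.AltTwelveCentraliser.CaseLabels
import Cfsg.Agent.ExtraSymThree.Eight

/-!
The centraliser in `A₈` of `(45)(67)(89)(10 11)` inside the model.
-/

set_option autoImplicit false
set_option maxRecDepth 100000

namespace CfsgLib.AltTwelveCentraliser

open CfsgLib.ExtraSymThree (mulC invC codes eightTab sC)

/-- The permutation of the last eight points belonging to a code of kind two. -/
def code12 (a : ℕ) : ℕ :=
  let c := eightTab.getD a 0
  pack fun i => bif Nat.blt i 4 then i else
    Nat.add 4 (Nat.land (Nat.shiftRight c (Nat.mul 3 (Nat.sub i 4))) 7)

/-- The indices of the four group of the first block. -/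
def quadE : List ℕ := [0, 16, 32, 48]

theorem code12_ok : (codes.all fun a => okC (code12 a) && commC (code12 a) (aC 16) &&
    commC (code12 a) (aC 32)) = true := by
  decide +kernel

theorem code12_mul : (codes.all fun a => codes.all fun b =>
    Nat.beq (code12 (mulC 2 a b)) (mulP (code12 a) (code12 b))) = true := by
  decide +kernel

theorem code12_quad : (codes.all fun a => quadE.all fun e =>
    !(Nat.beq (code12 a) (aC e)) || Nat.beq a 0) = true := by
  decide +kernel

theorem code12_sC : code12 sC = aC 5 := by decide +kernel

theorem code12_zero : code12 0 = oneC := by decide +kernel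

/-- The centraliser of the first four group in the model. -/
theorem cent_quad_scan : scan (pruneBy fun k c i => notCommAt (aC 16) k c i || notCommAt (aC 32) k c i)
    (fun c => !(commC c (aC 16) && commC c (aC 32)) ||
      quadE.any fun e => codes.any fun a => Nat.beq (mulP (aC e) (code12 a)) c) 6 0 0 = true := by
  decide +kernel

/-- In each coset of the four group at most one element has the label one. -/
theorem label_one_unique : (codes.all fun a => Nat.beq a 0 || quadE.all fun e => quadE.all fun f =>
    Nat.beq e f || !(Nat.beq (labA (mulP (aC e) (code12 a))) 1 &&
      Nat.beq (labA (mulP (aC f) (code12 a))) 1)) = true := by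
  decide +kernel

end CfsgLib.AltTwelveCentraliser
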