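import Cfsg.Agent.AltTwelveCentraliser.AltQuotient
import Cfsg.Agent.ExtraSymThree.StdSimple

/-!
The embedded alternating group of degree eight in the quotient, and lifts to the centraliser.
-/

set_option autoImplicit false
set_option maxRecDepth 100000

namespace CfsgLib.AltTwelveCentraliser

attribute [local irreducible] mulP pack nib okC enc conjIdx code12 labA

open CfsgLib.ExtraSymThree (mulC sC mem_codes beta0 beta1 closedC_spec repC)

namespace Frame

variable {G : Type*} [Group G] [Finite G] {z : G} (F : Frame z)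

omit [Finite G] in
theorem el_idx (i : ℕ) : F.el (aC i) = F.a i := rfl

variable (S : Sylow 2 G)
  (hS : (S : Subgroup G) ≤ Subgroup.centralizer ({z} : Set G)) (hm : F.Marks mAlt)

include hS hm in
/-- The quotient is in standard position. -/
theorem exists_standard : ∃ (L : CfsgLib.ExtraSymThree.Frame 2 (F.quadPi F.zIn))
    (Q : Subgroup F.QuadQuot) (φ : alternatingGroup (Fin 8) →* F.QuadQuot),
    (∀ a, L.el a = F.quadPi (F.kEl a)) ∧ L.Std Q φ := by
  obtain ⟨L, hL⟩ := F.exists_quot_frame S hS hm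
  have hlab := F.isLabel_of_check S hS hm labA_aC labA_inv
  have hmov : ∀ k < 2, ∃ g : F.QuadQuot, g * g * g = 1 ∧
      L.Moves g (if k = 0 then beta0 else beta1) := by
    intro k hk
    obtain ⟨m, hm3, h16, h32, hmv⟩ := F.exists_rotation S hS hm hk
    obtain ⟨mk, hmk⟩ : ∃ mk : F.quadCen, (mk : G) = m := ⟨⟨m, F.mem_quadCen.2 ⟨h16, h32⟩⟩, rfl⟩
    refine ⟨F.quadPi mk, ?_, fun p hp => ?_⟩
    · rw [← map_mul, ← map_mul, show mk * mk * mk = 1 from Subtype.ext (by
        rw [Subgroup.coe_mul, Subgroup.coe_mul, hmk, ← pow_three', hm3, OneMemClass.coe_one]), map_one]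
    · have hc := List.all_eq_true.1 (List.all_eq_true.1 beta_index k (by interval_cases k <;> simp)) p hp
      simp only [Bool.and_eq_true, Nat.blt_eq, List.any_eq_true, List.mem_range, Nat.beq_eq] at hc
      obtain ⟨⟨h1, h2⟩, i, hi, e1, e2⟩ := hc
      refine ⟨h1, h2, ?_⟩
      rw [hL, hL, ← map_inv, ← map_mul, ← map_mul]
      refine congrArg _ (Subtype.ext ?_)
      simp only [Subgroup.coe_mul, Subgroup.coe_inv, hmk, F.kEl_coe h1, F.kEl_coe h2, e1, e2]
      exact (hmv i hi).2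
  obtain ⟨g, hg3, hg⟩ := hmov 0 (by norm_num)
  obtain ⟨h, hh3, hh⟩ := hmov 1 (by norm_num)
  simp only [if_true] at hg
  simp only [one_ne_zero, if_false] at hh
  obtain ⟨x, y, P⟩ := L.exists_pair (g := g) (h := h) hg3 hh3 hg hh
  obtain ⟨φ, hinj, hemb⟩ := P.exists_hom
  have hmem : ∀ t : List (ℕ × ℕ), t = beta0 ∨ t = beta1 → ∀ {w : F.QuadQuot}, L.Moves w t → ∀ a b,
      (a, b) ∈ t → (L.Fu a ↔ L.Fu b) := fun t _ w hw a b hab => by
    obtain ⟨-, -, e⟩ := hw (a, b) hab
    exact ⟨fun hf => IsConj.trans hf (isConj_iff.2 ⟨w, e⟩),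
      fun hf => IsConj.trans hf (isConj_iff.2 ⟨w, e⟩).symm⟩
  have f30 : L.Fu 30 := (hmem beta0 (Or.inl rfl) hg sC 30 (by decide +kernel)).1 L.fu_sC
  have f66 : L.Fu 66 := (hmem beta1 (Or.inr rfl) hh sC 66 (by decide +kernel)).1 L.fu_sC
  have f1 : L.Fu 1 := (hmem beta0 (Or.inl rfl) hg 66 1 (by decide +kernel)).1 f66
  have hnot : ∀ a ∈ [84, 97], ¬ L.Fu a := by
    intro a ha hf
    have ha' : a < 192 := by fin_cases ha <;> norm_num
    obtain ⟨l, hl⟩ := isConj_iff.1 hf
    obtain ⟨k, rfl⟩ := QuotientGroup.mk'_surjective _ l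
    rw [hL] at hl
    obtain ⟨e, he, hee⟩ := F.quadPi_eq.1 (show F.quadPi (F.kEl a) = F.quadPi (k * F.zIn * k⁻¹) by
      rw [← hl, map_mul, map_mul, map_inv]; rfl)
    rw [F.kEl_coe ha'] at hee
    obtain ⟨hok, -, -⟩ := code12_spec ha'
    have hok' := okC_mulP hok (okC_aC (quadE_lt e he))
    have hd : F.el (mulP (code12 a) (aC e)) = (k : G) * z * (k : G)⁻¹ := by
      rw [F.el_mul hok (okC_aC (quadE_lt e he)), F.el_idx, hee]
      rfl
    have h0 : labA (mulP (code12 a) (aC e)) = 0 := by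
      rw [← show labA alC = 0 from by decide +kernel]
      have hal : mulP alC alC = oneC := F.el_inj (okC_mulP okC_alC okC_alC) okC_oneC (by
        rw [F.el_mul okC_alC okC_alC, F.el_alC, F.z_sq, F.el_oneC])
      refine (hlab.conj _ _ okC_alC hal hok' (F.el_inj (okC_mulP hok' hok') okC_oneC ?_)
        (isConj_iff.2 ⟨k, ?_⟩)).symm
      · rw [F.el_mul hok' hok', hd, F.el_oneC, conj_mul, F.z_sq]; group
      · rw [F.el_alC, hd]
    have := List.all_eq_true.1 (List.all_eq_true.1 quad_unfused a ha) e he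
    simp [h0] at this
  refine ⟨L, L.subC qList qList_closed, φ, hL, ⟨⟨fun a ha => ?_, fun j hj => ?_⟩, hinj, hemb⟩⟩
  · rw [L.el_mem_subC ha]
    simp [qList, List.mem_filter, mem_codes, ha]
  · interval_cases j
    · exact iff_of_true f30 rfl
    · exact iff_of_true f66 rfl
    · exact iff_of_false (hnot 84 (by simp)) (by decide)
    · exact iff_of_true f1 rfl
    · exact iff_of_false (hnot 97 (by simp)) (by decide)

variable {F} {L : CfsgLib.ExtraSymThree.Frame 2 (F.quadPi F.zIn)}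
  (hL : ∀ a, L.el a = F.quadPi (F.kEl a))

include hL in
/-- An element squaring into the four group squares to one. -/
theorem lift_sq {y : F.quadCen} (h : F.quadPi y * F.quadPi y = 1) : y * y = 1 := by
  by_cases h1 : F.quadPi y = 1
  · exact F.quadIn_sq ((QuotientGroup.eq_one_iff y).1 h1)
  have h2 : orderOf (F.quadPi y) = 2 := orderOf_eq_prime (by rw [pow_two]; exact h) h1
  obtain ⟨a, ha, hconj⟩ := L.exists_conj_code h2
  have ha' := ((closedC_spec L.syl_closed.1).2 a ha).1
  obtain ⟨l, hl⟩ := isConj_iff.1 hconj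
  obtain ⟨k, rfl⟩ := QuotientGroup.mk'_surjective _ l
  have haa : mulC 2 a a = 0 := by
    refine (L.mul_self_iff ha').1 ?_
    rw [← hl, conj_mul, h]
    group
  have hk2 : F.kEl a * F.kEl a = 1 := by rw [← F.kEl_mul ha' ha', haa, F.kEl_zero]
  rw [hL] at hl
  have hmk : ∃ e ∈ F.quadIn, k * y * k⁻¹ = F.kEl a * e :=
    ⟨(F.kEl a)⁻¹ * (k * y * k⁻¹), (QuotientGroup.eq.1 (show F.quadPi (F.kEl a) = F.quadPi (k * y * k⁻¹) by
      rw [← hl, map_mul, map_mul, map_inv]; rfl)), by group⟩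
  obtain ⟨e, he, hee⟩ := hmk
  have : k * (y * y) * k⁻¹ = 1 := by
    rw [← conj_mul, hee, show F.kEl a * e * (F.kEl a * e) = F.kEl a * (e * F.kEl a) * e by group,
      ← F.quadIn_central he, ← mul_assoc, hk2, one_mul, F.quadIn_sq he]
  exact conj_eq_one_iff.1 this

/-- An element of order three has a lift of order three. -/
theorem exists_lift3 {l : F.QuadQuot} (h : l ^ 3 = 1) : ∃ y : F.quadCen, F.quadPi y = l ∧ y ^ 3 = 1 := by
  obtain ⟨k, rfl⟩ := QuotientGroup.mk'_surjective _ l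
  have hk : k ^ 3 ∈ F.quadIn := (QuotientGroup.eq_one_iff _).1 (by
    rw [← map_pow] at h; exact h)
  refine ⟨k ^ 4, ?_, ?_⟩
  · show F.quadPi (k ^ 4) = F.quadPi k
    rw [pow_succ, map_mul, show F.quadPi (k ^ 3) = 1 from (QuotientGroup.eq_one_iff _).2 hk, one_mul]
  · rw [show (k ^ 4) ^ 3 = (k ^ 3 * k ^ 3) ^ 2 by simp only [← pow_mul, ← pow_add], F.quadIn_sq hk, one_pow]

/-- Two lifts of order three agree. -/
theorem lift3_eq {x y : F.quadCen} (h : F.quadPi x = F.quadPi y) (hx : x ^ 3 = 1) (hy : y ^ 3 = 1) :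
    x = y := by
  obtain ⟨e, he, hy'⟩ : ∃ e ∈ F.quadIn, y = x * e := ⟨x⁻¹ * y, QuotientGroup.eq.1 h, by group⟩
  have he3 : e ^ 3 = 1 := by
    rw [hy', (show Commute x e from F.quadIn_central he x).mul_pow, hx, one_mul] at hy
    exact hy
  rw [pow_three', F.quadIn_sq he, one_mul] at he3
  rw [hy', he3, mul_one]

/-- An element conjugate to one of label one is determined by its image, if that is not trivial. -/
theorem label_one_eq (hlab : F.IsLabel labA) {y : F.quadCen} {a : ℕ} (ha : a < 192) (ha0 : a ≠ 0)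
    (haa : mulC 2 a a = 0) (h1 : labA (code12 a) = 1) (hπ : F.quadPi y = F.quadPi (F.kEl a))
    {c : ℕ} (hc : okC c = true) (hcc : mulP c c = oneC) (hc1 : labA c = 1)
    (hconj : IsConj (F.el c) (y : G)) : y = F.kEl a := by
  obtain ⟨e, he, hee⟩ := F.quadPi_eq.1 hπ.symm
  rw [F.kEl_coe ha] at hee
  obtain ⟨hok, -, -⟩ := code12_spec ha
  have hc' := okC_aC (quadE_lt e he)
  have hcomm : F.el (code12 a) * F.a e = F.a e * F.el (code12 a) :=
    F.quadCen_comm (F.el_code12_mem ha) he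
  have hy : F.el (mulP (aC e) (code12 a)) = y := by
    rw [F.el_mul hc' hok, F.el_idx, ← hcomm, hee]
  have hk2 : F.el (code12 a) * F.el (code12 a) = 1 := by
    rw [← F.kEl_coe ha, ← Subgroup.coe_mul, ← F.kEl_mul ha ha, haa, F.kEl_zero, OneMemClass.coe_one]
  have hsq : mulP (mulP (aC e) (code12 a)) (mulP (aC e) (code12 a)) = oneC := by
    refine F.el_inj (okC_mulP (okC_mulP hc' hok) (okC_mulP hc' hok)) okC_oneC ?_
    rw [F.el_mul (okC_mulP hc' hok) (okC_mulP hc' hok), F.el_mul hc' hok, F.el_idx, F.el_oneC,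
      show F.a e * F.el (code12 a) * (F.a e * F.el (code12 a)) =
        F.a e * (F.el (code12 a) * F.a e) * F.el (code12 a) by group, hcomm,
      ← mul_assoc, F.a_sq (quadE_lt e he), one_mul, hk2]
  have hlab1 : labA (mulP (aC e) (code12 a)) = 1 := by
    rw [← hc1]
    exact (hlab.conj _ _ hc hcc (okC_mulP hc' hok) hsq (hy ▸ hconj)).symm
  have hu := List.all_eq_true.1 label_one_unique a (mem_codes.2 ha)
  simp only [Bool.or_eq_true, Nat.beq_eq, ha0, false_or, List.all_eq_true] at hu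
  have h00 : mulP (aC 0) (code12 a) = code12 a := F.el_inj (okC_mulP (okC_aC (by norm_num)) hok) hok (by
    rw [F.el_mul (okC_aC (by norm_num)) hok, F.el_idx, F.a_zero, one_mul])
  have he0 : e = 0 := by
    rcases hu e he 0 (by decide) with h | h
    · exact h
    · simp only [hlab1, h00, h1, Bool.not_eq_true', Bool.and_eq_false_iff] at h
      simp at h
  refine Subtype.ext ?_
  rw [← hee, he0, F.a_zero, mul_one, F.kEl_coe ha]

end Frame

end CfsgLib.AltTwelveCentraliser
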