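import Cfsg.Agent.AltTwelveCentraliser.LabelChecks

/-!
The two movers of order three fixing the first block, on indices.
-/

set_option autoImplicit false
set_option maxRecDepth 100000

namespace CfsgLib.AltTwelveCentraliser

/-- The linear map fixing `16` and `32` with the given images of `4, 8, 1, 2`. -/
def linT (t : ℕ × ℕ × ℕ × ℕ) (i : ℕ) : ℕ :=
  let b (k v : ℕ) := bif Nat.beq (Nat.land i k) 0 then 0 else v
  Nat.xor (Nat.land i 48) (Nat.xor (Nat.xor (b 4 t.1) (b 8 t.2.1)) (Nat.xor (b 1 t.2.2.1) (b 2 t.2.2.2)))

/-- The index of a conjugate. -/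
def conjIdx (g : ℕ × ℕ) (i : ℕ) : ℕ :=
  (List.range 64).findIdx fun j => Nat.beq (mulP (mulP g.1 (aC i)) g.2) (aC j)

/-- The normalising elements fixing the four group of the first block. -/
def stabQ : List (ℕ × ℕ) :=
  normList.filter fun g => Nat.beq (conjIdx g 16) 16 && Nat.beq (conjIdx g 32) 32

/-- The indices of label one in the last two blocks. -/
def sixI : List ℕ := [4, 8, 12, 1, 2, 3]

/-- The possible actions of an element fixing the four group and moving `w` to the involution. -/
def candT (w : ℕ) : List (ℕ × ℕ × ℕ × ℕ) :=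
  (sixI.flatMap fun p => sixI.flatMap fun q => sixI.flatMap fun r => sixI.map fun u => (p, q, r, u)).filter
    fun t => Nat.beq (linT t w) 21 &&
      (List.range 64).all fun i => Nat.beq (labI mAlt i) (labI mAlt (linT t i))

/-- The two rotations. -/
def rotT (k : ℕ) : ℕ × ℕ × ℕ × ℕ := bif Nat.beq k 0 then (8, 12, 2, 3) else (8, 12, 3, 1)

/-- Whether the composed maps give the rotation. -/
def isRot (k : ℕ) (f : ℕ → ℕ) : Bool :=
  [4, 8, 1, 2].all fun i => Nat.beq (f i) (linT (rotT k) i)

theorem movers_check : ([0, 1].all fun k => (candT 25).all fun s => (candT 29).all fun t =>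
    stabQ.any fun g => stabQ.any fun g' => stabQ.any fun h => stabQ.any fun h' =>
      let f := fun i => conjIdx g (conjIdx g' i)
      let e := fun i => conjIdx h (conjIdx h' i)
      isRot k (fun i => f (linT s i)) ||
      isRot k (fun i => f (linT t i)) ||
      isRot k (fun i => f (linT s (e (linT t i)))) ||
      isRot k (fun i => f (linT t (e (linT s i)))) ||
      isRot k (fun i => f (linT s (e (linT s i)))) ||
      isRot k (fun i => f (linT t (e (linT t i))))) = true := by
  decide +kernel

theorem rot_cube : ([0, 1].all fun k => (List.range 64).all fun i =>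
    Nat.beq (linT (rotT k) (linT (rotT k) (linT (rotT k) i))) i) = true := by
  decide +kernel

end CfsgLib.AltTwelveCentraliser
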