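import Cfsg.Agent.AltTwelveCentraliser.AltMoveData

/-!
The two movers of order three centralising the four group of the first block.
-/

set_option autoImplicit false
set_option maxRecDepth 100000

namespace CfsgLib.AltTwelveCentraliser

theorem conjIdx_checks : (normList.all fun g => Nat.beq (conjIdx g 21) 21 &&
    (List.range 64).all fun i => Nat.blt (conjIdx g i) 64) = true := by
  decide +kernel

theorem fix_quad_check : ((List.range 64).all fun p => (List.range 64).all fun q =>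
    !(Nat.beq (labI mAlt p) 1 && Nat.beq (labI mAlt q) 1 && Nat.beq (labI mAlt (Nat.xor p q)) 1 &&
      Nat.beq (labI mAlt (Nat.xor p 21)) 2 && Nat.beq (labI mAlt (Nat.xor q 21)) 0) ||
    normList.any fun g => normList.any fun g' =>
      Nat.beq (conjIdx g (conjIdx g' p)) 16 && Nat.beq (conjIdx g (conjIdx g' q)) 32) = true := by
  decide +kernel

theorem label_one_list : ((List.range 64).all fun p => !(Nat.beq (labI mAlt p) 1) ||
    memN p sixI || memN p [16, 32, 48]) = true := by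
  decide +kernel

theorem mover_targets : ([25, 29].all fun w => bitOn mAlt w &&
    Nat.beq (labI mAlt (Nat.xor 16 w)) 2 && Nat.beq (labI mAlt (Nat.xor 32 w)) 0) = true := by
  decide +kernel

theorem linT_lt : ∀ p ∈ sixI, ∀ q ∈ sixI, ∀ r ∈ sixI, ∀ u ∈ sixI, ∀ i < 64,
    linT (p, q, r, u) i < 64 := by
  intro p hp q hq r hr u hu i hi
  have hb : ∀ k v, v ∈ sixI → (bif Nat.beq (Nat.land i k) 0 then 0 else v) < 64 := fun k v hv => by
    cases Nat.beq (Nat.land i k) 0
    · fin_cases hv <;> decide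
    · norm_num
  exact xor_lt (lt_of_le_of_lt Nat.and_le_left hi)
    (xor_lt (xor_lt (hb _ _ hp) (hb _ _ hq)) (xor_lt (hb _ _ hr) (hb _ _ hu)))

theorem lin_std : ∀ i < 64, linT (4, 8, 1, 2) i = i := by decide +kernel

theorem linT_fix (t : ℕ × ℕ × ℕ × ℕ) : linT t 16 = 16 ∧ linT t 32 = 32 := by
  have h : Nat.land 16 48 = 16 ∧ Nat.land 16 4 = 0 ∧ Nat.land 16 8 = 0 ∧ Nat.land 16 1 = 0 ∧
      Nat.land 16 2 = 0 ∧ Nat.land 32 48 = 32 ∧ Nat.land 32 4 = 0 ∧ Nat.land 32 8 = 0 ∧
      Nat.land 32 1 = 0 ∧ Nat.land 32 2 = 0 := by decide +kernel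
  obtain ⟨a, b, c, d, e, f, g, i, j, k⟩ := h
  unfold linT
  simp only [a, b, c, d, e, f, g, i, j, k, show Nat.beq 0 0 = true from rfl, cond_true]
  decide +kernel

theorem land48_cases : ∀ i < 64, Nat.land i 48 = 0 ∨ Nat.land i 48 = 16 ∨ Nat.land i 48 = 32 ∨
    Nat.land i 48 = 48 := by decide +kernel

attribute [local irreducible] mulP pack nib okC enc conjIdx

namespace Frame

variable {G : Type*} [Group G] {z : G} (F : Frame z)

/-- Conjugation by the element acts on the indices by the map. -/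
def Moves (m : G) (f : ℕ → ℕ) : Prop :=
  ∀ i < 64, f i < 64 ∧ m * F.a i * m⁻¹ = F.a (f i)

variable {F}

theorem Moves.mul {m n : G} {f g : ℕ → ℕ} (hm : F.Moves m f) (hn : F.Moves n g) :
    F.Moves (m * n) (fun i => f (g i)) := fun i hi => by
  obtain ⟨h1, e1⟩ := hn i hi
  obtain ⟨h2, e2⟩ := hm _ h1
  refine ⟨h2, ?_⟩
  rw [← e2, ← e1]
  group

theorem moves_conjIdx {g : ℕ × ℕ} (hg : g ∈ normList) : F.Moves (F.el g.1) (conjIdx g) := by
  intro i hi
  have ho := List.all_eq_true.1 normList_ok g hg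
  simp only [Bool.and_eq_true, Nat.beq_eq] at ho
  have hc := List.all_eq_true.1 conjIdx_checks g hg
  simp only [Bool.and_eq_true, Nat.beq_eq, List.all_eq_true, List.mem_range, Nat.blt_eq] at hc
  have hlt := hc.2 i hi
  refine ⟨hlt, ?_⟩
  have h : Nat.beq (mulP (mulP g.1 (aC i)) g.2) (aC (conjIdx g i)) = true := by
    have h0 : (List.range 64).findIdx (fun j => Nat.beq (mulP (mulP g.1 (aC i)) g.2) (aC j)) =
        conjIdx g i := by unfold conjIdx; rfl
    have hl : (List.range 64).findIdx (fun j => Nat.beq (mulP (mulP g.1 (aC i)) g.2) (aC j)) <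
        (List.range 64).length := by rw [h0, List.length_range]; exact hlt
    have := List.findIdx_getElem (w := hl)
    rw [List.getElem_range, h0] at this
    exact this
  rw [a, a, ← Nat.beq_eq.mp h, F.el_conj ho.1.1.1 ho.1.1.2 (okC_aC hi) ho.1.2]

theorem Moves.lab {lab : ℕ → ℕ} (hlab : F.IsLabel lab) {m : G} {f : ℕ → ℕ} (hm : F.Moves m f)
    {i : ℕ} (hi : i < 64) : lab (aC (f i)) = lab (aC i) := by
  obtain ⟨hfi, he⟩ := hm i hi
  have hsq : ∀ k < 64, okC (aC k) = true ∧ mulP (aC k) (aC k) = oneC := fun k hk =>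
    ⟨okC_aC hk, by rw [mulP_aC hk hk, show Nat.xor k k = 0 from Nat.xor_self k, aC_zero]⟩
  exact (hlab.conj _ _ (hsq i hi).1 (hsq i hi).2 (hsq _ hfi).1 (hsq _ hfi).2
    (isConj_iff.2 ⟨m, he⟩)).symm

/-- An element fixing the four group acts linearly. -/
theorem Moves.linT {m : G} {f : ℕ → ℕ} (hm : F.Moves m f) (h16 : f 16 = 16) (h32 : f 32 = 32)
    {p q r u : ℕ} (h4 : f 4 = p) (h8 : f 8 = q) (h1 : f 1 = r) (h2 : f 2 = u)
    (hp : p ∈ sixI) (hq : q ∈ sixI) (hr : r ∈ sixI) (hu : u ∈ sixI) :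
    F.Moves m (linT (p, q, r, u)) := by
  intro i hi
  refine ⟨linT_lt p hp q hq r hr u hu i hi, ?_⟩
  have hone : ∀ {k v : ℕ}, k < 64 → f k = v → m * F.a k * m⁻¹ = F.a v := fun hk e =>
    e ▸ (hm _ hk).2
  have hb : ∀ k v, k < 64 → v < 64 → f k = v →
      m * F.a (bif Nat.beq (Nat.land i k) 0 then 0 else k) * m⁻¹ =
        F.a (bif Nat.beq (Nat.land i k) 0 then 0 else v) := fun k v hk hv e => by
    cases Nat.beq (Nat.land i k) 0
    · exact hone hk e
    · show m * F.a 0 * m⁻¹ = F.a 0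
      rw [F.a_zero]
      group
  have hl : ∀ k v, v < 64 → (bif Nat.beq (Nat.land i k) 0 then 0 else v) < 64 := fun k v hv => by
    cases Nat.beq (Nat.land i k) 0
    · exact hv
    · norm_num
  have hsix : ∀ x ∈ sixI, x < 64 := by decide
  have hE : m * F.a (Nat.land i 48) * m⁻¹ = F.a (Nat.land i 48) := by
    rcases land48_cases i hi with h | h | h | h <;> rw [h]
    · rw [F.a_zero]; group
    · exact hone (by norm_num) h16
    · exact hone (by norm_num) h32
    · rw [show (48 : ℕ) = Nat.xor 16 32 from rfl, F.a_mul (by norm_num) (by norm_num), ← conj_mul,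
        hone (by norm_num) h16, hone (by norm_num) h32]
  have h64 : Nat.land i 48 < 64 := lt_of_le_of_lt Nat.and_le_left hi
  conv_lhs => rw [← lin_std i hi]
  simp only [AltTwelveCentraliser.linT]
  rw [F.a_mul h64 (xor_lt (xor_lt (hl 4 _ (by norm_num)) (hl 8 _ (by norm_num)))
      (xor_lt (hl 1 _ (by norm_num)) (hl 2 _ (by norm_num)))),
    F.a_mul (xor_lt (hl 4 _ (by norm_num)) (hl 8 _ (by norm_num)))
      (xor_lt (hl 1 _ (by norm_num)) (hl 2 _ (by norm_num))),
    F.a_mul (hl 4 _ (by norm_num)) (hl 8 _ (by norm_num)),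
    F.a_mul (hl 1 _ (by norm_num)) (hl 2 _ (by norm_num)),
    F.a_mul h64 (xor_lt (xor_lt (hl 4 _ (hsix p hp)) (hl 8 _ (hsix q hq)))
      (xor_lt (hl 1 _ (hsix r hr)) (hl 2 _ (hsix u hu)))),
    F.a_mul (xor_lt (hl 4 _ (hsix p hp)) (hl 8 _ (hsix q hq)))
      (xor_lt (hl 1 _ (hsix r hr)) (hl 2 _ (hsix u hu))),
    F.a_mul (hl 4 _ (hsix p hp)) (hl 8 _ (hsix q hq)),
    F.a_mul (hl 1 _ (hsix r hr)) (hl 2 _ (hsix u hu))]
  conv_rhs => rw [← hE, ← hb 4 p (by norm_num) (hsix p hp) h4, ← hb 8 q (by norm_num) (hsix q hq) h8,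
    ← hb 1 r (by norm_num) (hsix r hr) h1, ← hb 2 u (by norm_num) (hsix u hu) h2]
  simp only [conj_mul]

variable [Finite G] (S : Sylow 2 G) (hS : (S : Subgroup G) ≤ Subgroup.centralizer ({z} : Set G))

include hS in
/-- An element fixing the four group and moving a target to the involution. -/
theorem exists_cand (hm : F.Marks mAlt) {w : ℕ} (hw : w ∈ [25, 29]) :
    ∃ m : G, ∃ t ∈ candT w, F.Moves m (linT t) := by
  have hlab := F.isLabel_of_check S hS hm labA_aC labA_inv
  have hI : ∀ i < 64, labA (aC i) = labI mAlt i := fun i hi =>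
    Nat.beq_eq.mp (List.all_eq_true.1 labA_aC i (List.mem_range.2 hi))
  have hT := List.all_eq_true.1 mover_targets w hw
  simp only [Bool.and_eq_true, Nat.beq_eq] at hT
  obtain ⟨⟨hb, hw16⟩, hw32⟩ := hT
  have hw64 : w < 64 := by fin_cases hw <;> norm_num
  obtain ⟨n, hn, hne⟩ := F.exists_normalising S hS ⟨w, hw64, rfl⟩ F.z_mem_elA ((hm w hw64).1 hb).symm
  obtain ⟨σ, hσ, hlin⟩ := F.exists_index_perm hn
  let f : ℕ → ℕ := fun i => if h : i < 64 then σ ⟨i, h⟩ else 0
  have hf : F.Moves n f := fun i hi => by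
    simp only [f, dif_pos hi]
    exact ⟨Fin.is_lt _, (hσ ⟨i, hi⟩).symm⟩
  have hfx : ∀ i j, i < 64 → j < 64 → f (Nat.xor i j) = Nat.xor (f i) (f j) := fun i j hi hj => by
    simp only [f, dif_pos hi, dif_pos hj, dif_pos (xor_lt hi hj)]
    exact hlin ⟨i, hi⟩ ⟨j, hj⟩
  have hfw : f w = 21 := F.a_inj (hf w hw64).1 (by norm_num) (by
    rw [← (hf w hw64).2, hne]; exact F.a_alI.symm)
  have hlf : ∀ i < 64, labI mAlt (f i) = labI mAlt i := fun i hi => by
    rw [← hI _ (hf i hi).1, ← hI i hi]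
    exact hf.lab hlab hi
  have hq := List.all_eq_true.1 (List.all_eq_true.1 fix_quad_check (f 16)
    (List.mem_range.2 (hf 16 (by norm_num)).1)) (f 32) (List.mem_range.2 (hf 32 (by norm_num)).1)
  have e16 : labI mAlt (f 16) = 1 := by rw [hlf 16 (by norm_num)]; decide +kernel
  have e32 : labI mAlt (f 32) = 1 := by rw [hlf 32 (by norm_num)]; decide +kernel
  have e48 : labI mAlt (Nat.xor (f 16) (f 32)) = 1 := by
    rw [← hfx 16 32 (by norm_num) (by norm_num), hlf _ (by decide)]; decide +kernel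
  have e1 : labI mAlt (Nat.xor (f 16) 21) = 2 := by
    rw [← hfw, ← hfx 16 w (by norm_num) hw64, hlf _ (xor_lt (by norm_num) hw64), hw16]
  have e0 : labI mAlt (Nat.xor (f 32) 21) = 0 := by
    rw [← hfw, ← hfx 32 w (by norm_num) hw64, hlf _ (xor_lt (by norm_num) hw64), hw32]
  simp only [e16, e32, e48, e1, e0, Bool.or_eq_true, List.any_eq_true, Bool.and_eq_true,
    Nat.beq_eq, Bool.not_eq_true', Bool.and_eq_false_iff] at hq
  rcases hq with h | ⟨g, hg, g', hg', h16, h32⟩
  · simp at h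
  have hM := (F.moves_conjIdx hg).mul ((F.moves_conjIdx hg').mul hf)
  obtain ⟨h, hh⟩ : ∃ h : ℕ → ℕ, h = fun i => conjIdx g (conjIdx g' (f i)) := ⟨_, rfl⟩
  have hM' : F.Moves (F.el g.1 * (F.el g'.1 * n)) h := hh ▸ hM
  have hh16 : h 16 = 16 := by rw [hh]; exact h16
  have hh32 : h 32 = 32 := by rw [hh]; exact h32
  have h21 : ∀ k ∈ normList, conjIdx k 21 = 21 := fun k hk => by
    have := List.all_eq_true.1 conjIdx_checks k hk
    simp only [Bool.and_eq_true, Nat.beq_eq] at this
    exact this.1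
  have hhw : h w = 21 := by rw [hh]; show conjIdx g (conjIdx g' (f w)) = 21; rw [hfw, h21 g' hg', h21 g hg]
  have hinj : ∀ i j, i < 64 → j < 64 → h i = h j → i = j := fun i j hi hj e => by
    refine F.a_inj hi hj (mul_left_cancel (a := F.el g.1 * (F.el g'.1 * n)) (mul_right_cancel (b := (F.el g.1 * (F.el g'.1 * n))⁻¹) ?_))
    rw [(hM' i hi).2, (hM' j hj).2, e]
  have hlh : ∀ i < 64, labI mAlt (h i) = labI mAlt i := fun i hi => by
    rw [← hI _ (hM' i hi).1, ← hI i hi]
    exact hM'.lab hlab hi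
  have hsix : ∀ i ∈ [4, 8, 1, 2], h i ∈ sixI := by
    intro i hi
    have hi64 : i < 64 := by fin_cases hi <;> norm_num
    have hl := List.all_eq_true.1 label_one_list (h i) (List.mem_range.2 (hM' i hi64).1)
    have h1 : labI mAlt (h i) = 1 := by
      rw [hlh i hi64]; fin_cases hi <;> decide +kernel
    simp only [h1, Bool.or_eq_true, Bool.not_eq_true', memN_iff] at hl
    rcases hl with (hl | hl) | hl
    · simp at hl
    · exact hl
    · exfalso
      have h48 : h 48 = 48 := by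
        have hab := hM' 48 (by norm_num)
        refine F.a_inj hab.1 (by norm_num) ?_
        rw [← hab.2, show (48 : ℕ) = Nat.xor 16 32 from rfl, F.a_mul (by norm_num) (by norm_num),
          ← conj_mul, (hM' 16 (by norm_num)).2, (hM' 32 (by norm_num)).2, hh16, hh32]
      simp only [List.mem_cons, List.not_mem_nil, or_false] at hl
      rcases hl with e | e | e
      · have := hinj i 16 hi64 (by norm_num) (e.trans hh16.symm); fin_cases hi <;> simp at this
      · have := hinj i 32 hi64 (by norm_num) (e.trans hh32.symm); fin_cases hi <;> simp at this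
      · have := hinj i 48 hi64 (by norm_num) (e.trans h48.symm); fin_cases hi <;> simp at this
  have hmem4 := hsix 4 (by simp)
  have hmem8 := hsix 8 (by simp)
  have hmem1 := hsix 1 (by simp)
  have hmem2 := hsix 2 (by simp)
  have hlinT := hM'.linT hh16 hh32 rfl rfl rfl rfl hmem4 hmem8 hmem1 hmem2
  refine ⟨_, (h 4, h 8, h 1, h 2), ?_, hlinT⟩
  unfold candT
  refine List.mem_filter.2 ⟨?_, ?_⟩
  · simp only [List.mem_flatMap, List.mem_map]
    exact ⟨_, hmem4, _, hmem8, _, hmem1, _, hmem2, rfl⟩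
  · simp only [Bool.and_eq_true, Nat.beq_eq, List.all_eq_true, List.mem_range]
    refine ⟨?_, fun i hi => ?_⟩
    · refine F.a_inj (hlinT w hw64).1 (by norm_num) ?_
      rw [← (hlinT w hw64).2, (hM' w hw64).2, hhw]
    · rw [← hI _ (hlinT i hi).1, ← hI i hi]
      exact (hlinT.lab hlab hi).symm

include hS in
/-- The rotations are induced by elements of order three centralising the four group. -/
theorem exists_rotation (hm : F.Marks mAlt) {k : ℕ} (hk : k < 2) :
    ∃ m : G, m ^ 3 = 1 ∧ m * F.a 16 = F.a 16 * m ∧ m * F.a 32 = F.a 32 * m ∧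
      F.Moves m (linT (rotT k)) := by
  obtain ⟨x, s, hs, hx⟩ := F.exists_cand S hS hm (w := 25) (by simp)
  obtain ⟨y, t, ht, hy⟩ := F.exists_cand S hS hm (w := 29) (by simp)
  have hc := List.all_eq_true.1 (List.all_eq_true.1 (List.all_eq_true.1 movers_check k
    (by interval_cases k <;> simp)) s hs) t ht
  simp only [List.any_eq_true, Bool.or_eq_true] at hc
  obtain ⟨g, hg, g', hg', h, hh, h', hh', hrot⟩ := hc
  have hmem : ∀ e ∈ stabQ, e ∈ normList ∧ conjIdx e 16 = 16 ∧ conjIdx e 32 = 32 := fun e he => by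
    unfold stabQ at he
    simp only [List.mem_filter, Bool.and_eq_true, Nat.beq_eq] at he
    exact ⟨he.1, he.2.1, he.2.2⟩
  have hE : ∀ e ∈ stabQ, F.Moves (F.el e.1) (conjIdx e) ∧ conjIdx e 16 = 16 ∧ conjIdx e 32 = 32 :=
    fun e he => ⟨F.moves_conjIdx (hmem e he).1, (hmem e he).2⟩
  have hlt := linT_fix
  have key : ∀ {m : G} {f : ℕ → ℕ}, F.Moves m f → f 16 = 16 → f 32 = 32 → isRot k f = true →
      F.Moves m (linT (rotT k)) := by
    intro m f hmf h16 h32 hr
    simp only [isRot, List.all_eq_true, Nat.beq_eq] at hr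
    interval_cases k
    · exact hmf.linT (p := 8) (q := 12) (r := 2) (u := 3) h16 h32 ((hr 4 (by simp)).trans rfl)
        ((hr 8 (by simp)).trans rfl) ((hr 1 (by simp)).trans rfl) ((hr 2 (by simp)).trans rfl)
        (by decide) (by decide) (by decide) (by decide)
    · exact hmf.linT (p := 8) (q := 12) (r := 3) (u := 1) h16 h32 ((hr 4 (by simp)).trans rfl)
        ((hr 8 (by simp)).trans rfl) ((hr 1 (by simp)).trans rfl) ((hr 2 (by simp)).trans rfl)
        (by decide) (by decide) (by decide) (by decide)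
  obtain ⟨hG, g6, g3⟩ := hE g hg
  obtain ⟨hG', g6', g3'⟩ := hE g' hg'
  obtain ⟨hH, h6, h3⟩ := hE h hh
  obtain ⟨hH', h6', h3'⟩ := hE h' hh'
  obtain ⟨m, hm'⟩ : ∃ m, F.Moves m (linT (rotT k)) := by
    rcases hrot with ((((hr | hr) | hr) | hr) | hr) | hr
    · exact ⟨_, key (hG.mul (hG'.mul hx)) (by simp only [(hlt _).1, g6', g6])
        (by simp only [(hlt _).2, g3', g3]) hr⟩
    · exact ⟨_, key (hG.mul (hG'.mul hy)) (by simp only [(hlt _).1, g6', g6])
        (by simp only [(hlt _).2, g3', g3]) hr⟩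
    · exact ⟨_, key (hG.mul (hG'.mul (hx.mul (hH.mul (hH'.mul hy)))))
        (by simp only [(hlt _).1, g6', g6, h6', h6]) (by simp only [(hlt _).2, g3', g3, h3', h3]) hr⟩
    · exact ⟨_, key (hG.mul (hG'.mul (hy.mul (hH.mul (hH'.mul hx)))))
        (by simp only [(hlt _).1, g6', g6, h6', h6]) (by simp only [(hlt _).2, g3', g3, h3', h3]) hr⟩
    · exact ⟨_, key (hG.mul (hG'.mul (hx.mul (hH.mul (hH'.mul hx)))))
        (by simp only [(hlt _).1, g6', g6, h6', h6]) (by simp only [(hlt _).2, g3', g3, h3', h3]) hr⟩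
    · exact ⟨_, key (hG.mul (hG'.mul (hy.mul (hH.mul (hH'.mul hy)))))
        (by simp only [(hlt _).1, g6', g6, h6', h6]) (by simp only [(hlt _).2, g3', g3, h3', h3]) hr⟩
  have hcube : ∀ i < 64, linT (rotT k) (linT (rotT k) (linT (rotT k) i)) = i := fun i hi => by
    have := List.all_eq_true.1 (List.all_eq_true.1 rot_cube k (by interval_cases k <;> simp)) i
      (List.mem_range.2 hi)
    exact Nat.beq_eq.mp this
  have h3m : m * m * m ∈ F.elA := by
    refine F.elA_self_centralising ?_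
    rintro _ ⟨i, hi, rfl⟩
    have := ((hm'.mul hm').mul hm') i hi
    simp only [hcube i hi] at this
    exact mul_inv_eq_iff_eq_mul.1 this.2
  obtain ⟨j, hj, hje⟩ := h3m
  refine ⟨m * m * m * m, ?_, ?_, ?_, ?_⟩
  · rw [← hje]
    have hc : Commute (F.a j) m := by
      rw [hje]; exact ((Commute.refl m).mul_left (Commute.refl m)).mul_left (Commute.refl m)
    rw [hc.mul_pow, pow_three' m, ← hje, pow_three', F.a_sq hj, one_mul, F.a_sq hj]
  · have h4 : F.Moves (m * m * m * m) (linT (rotT k)) := fun i hi => by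
      have := (((hm'.mul hm').mul hm').mul hm') i hi
      simp only [hcube _ (hm' i hi).1] at this
      exact this
    have := (h4 16 (by norm_num)).2
    rw [(hlt _).1] at this
    exact mul_inv_eq_iff_eq_mul.1 this
  · have h4 : F.Moves (m * m * m * m) (linT (rotT k)) := fun i hi => by
      have := (((hm'.mul hm').mul hm').mul hm') i hi
      simp only [hcube _ (hm' i hi).1] at this
      exact this
    have := (h4 32 (by norm_num)).2
    rw [(hlt _).2] at this
    exact mul_inv_eq_iff_eq_mul.1 this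
  · intro i hi
    have := (((hm'.mul hm').mul hm').mul hm') i hi
    simp only [hcube _ (hm' i hi).1] at this
    exact this

end Frame

end CfsgLib.AltTwelveCentraliser
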