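import Cfsg.Agent.AltTwelveCentraliser.AltData
import Cfsg.Agent.AltTwelveCentraliser.AltMoveData
import Cfsg.Agent.ExtraSymThree.Top

/-!
Computed facts linking the codes of kind two to the indices.
-/

set_option autoImplicit false
set_option maxRecDepth 100000

namespace CfsgLib.AltTwelveCentraliser

open CfsgLib.ExtraSymThree (mulC codes sC closedC beta0 beta1)

theorem code12_inj : (codes.all fun a => codes.all fun b =>
    !(Nat.beq (code12 a) (code12 b)) || Nat.beq a b) = true := by
  decide +kernel

theorem quad_coset_check : (quadE.all fun e =>
    !(Nat.beq (labI mAlt (Nat.xor 21 e)) 0 && Nat.beq (labI mAlt (Nat.xor 5 e)) 2) || Nat.beq e 0) = true := by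
  decide +kernel

theorem quad_unfused : ([84, 97].all fun a => quadE.all fun e =>
    !(Nat.beq (labA (mulP (code12 a) (aC e))) 0)) = true := by
  decide +kernel

theorem beta_index : ([0, 1].all fun k => (if k = 0 then beta0 else beta1).all fun p =>
    Nat.blt p.1 192 && Nat.blt p.2 192 && (List.range 64).any fun i =>
      Nat.beq (code12 p.1) (aC i) && Nat.beq (code12 p.2) (aC (linT (rotT k) i))) = true := by
  decide +kernel

/-- The codes of the normal subgroup of order 32. -/
def qList : List ℕ := codes.filter fun a => Nat.beq (a % 6) 0

theorem qList_closed : closedC 2 qList = true := by decide +kernel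

end CfsgLib.AltTwelveCentraliser
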