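import Cfsg.Agent.AltTwelveCentraliser.AltQuotChecks
import Cfsg.Agent.AltTwelveCentraliser.AltMovers

/-!
The quotient of the centraliser of the four group of the first block, coded by kind two.
-/

set_option autoImplicit false
set_option maxRecDepth 100000

namespace CfsgLib.AltTwelveCentraliser

attribute [local irreducible] mulP pack nib okC enc conjIdx code12 labA

open CfsgLib.ExtraSymThree (mulC invC codes sC mem_codes)

theorem code12_spec {a : ℕ} (ha : a < 192) : okC (code12 a) = true ∧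
    commC (code12 a) (aC 16) = true ∧ commC (code12 a) (aC 32) = true := by
  have h := List.all_eq_true.1 code12_ok a (mem_codes.2 ha)
  simp only [Bool.and_eq_true] at h
  exact ⟨h.1.1, h.1.2, h.2⟩

theorem code12_hom {a b : ℕ} (ha : a < 192) (hb : b < 192) :
    code12 (mulC 2 a b) = mulP (code12 a) (code12 b) :=
  Nat.beq_eq.mp (List.all_eq_true.1 (List.all_eq_true.1 code12_mul a (mem_codes.2 ha)) b
    (mem_codes.2 hb))

theorem quadE_lt : ∀ e ∈ quadE, e < 64 := by decide

theorem invC_spec {a : ℕ} (ha : a < 192) : mulC 2 a (invC 2 a) = 0 ∧ invC 2 a < 192 := by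
  have h := List.all_eq_true.1 (List.all_eq_true.1 CfsgLib.ExtraSymThree.inv_checks 2 (by simp)) a
    (mem_codes.2 ha)
  simp only [Bool.and_eq_true, decide_eq_true_eq, beq_iff_eq] at h
  exact h.1

namespace Frame

variable {G : Type*} [Group G] {z : G} (F : Frame z)

/-- The four group of the first block. -/
noncomputable def quadSub : Subgroup G where
  carrier := {g | ∃ e ∈ quadE, F.a e = g}
  one_mem' := ⟨0, by decide, F.a_zero⟩
  mul_mem' := by
    rintro _ _ ⟨e, he, rfl⟩ ⟨f, hf, rfl⟩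
    exact ⟨Nat.xor e f, (by decide +kernel : ∀ x ∈ quadE, ∀ y ∈ quadE, Nat.xor x y ∈ quadE) e he f hf,
      F.a_mul (quadE_lt e he) (quadE_lt f hf)⟩
  inv_mem' := by
    rintro _ ⟨e, he, rfl⟩
    exact ⟨e, he, (F.a_inv (quadE_lt e he)).symm⟩

/-- Its centraliser. -/
noncomputable def quadCen : Subgroup G := Subgroup.centralizer ({F.a 16, F.a 32} : Set G)

theorem mem_quadCen {g : G} :
    g ∈ F.quadCen ↔ g * F.a 16 = F.a 16 * g ∧ g * F.a 32 = F.a 32 * g := by
  rw [quadCen, Subgroup.mem_centralizer_iff]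
  simp [eq_comm]

theorem quadCen_comm {g : G} (hg : g ∈ F.quadCen) {e : ℕ} (he : e ∈ quadE) :
    g * F.a e = F.a e * g := by
  obtain ⟨h16, h32⟩ := F.mem_quadCen.1 hg
  fin_cases he
  · rw [F.a_zero, mul_one, one_mul]
  · exact h16
  · exact h32
  · rw [show (48 : ℕ) = Nat.xor 16 32 from rfl, F.a_mul (by norm_num) (by norm_num)]
    exact (Commute.mul_right h16 h32).eq

theorem a_mem_quadCen {i : ℕ} (hi : i < 64) : F.a i ∈ F.quadCen :=
  F.mem_quadCen.2 ⟨F.a_comm hi (by norm_num), F.a_comm hi (by norm_num)⟩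

theorem el_code12_mem {a : ℕ} (ha : a < 192) : F.el (code12 a) ∈ F.quadCen := by
  obtain ⟨h, h16, h32⟩ := code12_spec ha
  exact F.mem_quadCen.2 ⟨(F.el_comm_iff h (okC_aC (by norm_num))).1 h16,
    (F.el_comm_iff h (okC_aC (by norm_num))).1 h32⟩

/-- The four group inside its centraliser. -/
noncomputable abbrev quadIn : Subgroup F.quadCen := F.quadSub.subgroupOf F.quadCen

theorem mem_quadIn {y : F.quadCen} : y ∈ F.quadIn ↔ ∃ e ∈ quadE, F.a e = y := Iff.rfl

theorem quadIn_central {y : F.quadCen} (hy : y ∈ F.quadIn) (k : F.quadCen) : k * y = y * k := by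
  obtain ⟨e, he, hee⟩ := F.mem_quadIn.1 hy
  refine Subtype.ext ?_
  rw [Subgroup.coe_mul, Subgroup.coe_mul, ← hee]
  exact F.quadCen_comm k.2 he

theorem quadIn_sq {y : F.quadCen} (hy : y ∈ F.quadIn) : y * y = 1 := by
  obtain ⟨e, he, hee⟩ := F.mem_quadIn.1 hy
  refine Subtype.ext ?_
  rw [Subgroup.coe_mul, ← hee]
  exact F.a_sq (quadE_lt e he)

instance quadIn_normal : F.quadIn.Normal :=
  ⟨fun y hy k => by rwa [F.quadIn_central hy k, mul_inv_cancel_right]⟩

/-- The quotient. -/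
abbrev QuadQuot : Type _ := F.quadCen ⧸ F.quadIn

/-- The projection. -/
noncomputable def quadPi : F.quadCen →* F.QuadQuot := QuotientGroup.mk' F.quadIn

theorem quadPi_eq_one {y : F.quadCen} : F.quadPi y = 1 ↔ ∃ e ∈ quadE, F.a e = y :=
  (QuotientGroup.eq_one_iff y).trans F.mem_quadIn

theorem quadPi_eq {x y : F.quadCen} :
    F.quadPi x = F.quadPi y ↔ ∃ e ∈ quadE, (x : G) * F.a e = y := by
  refine QuotientGroup.eq.trans (F.mem_quadIn.trans ?_)
  constructor <;> rintro ⟨e, he, h⟩ <;> refine ⟨e, he, ?_⟩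
  · rw [h]; simp
  · simp [← h]

/-- The involution in the centraliser. -/
noncomputable def zIn : F.quadCen :=
  ⟨z, by
    have h := F.a_mem_quadCen (i := alI) (by norm_num)
    rwa [F.a_alI] at h⟩

/-- The element of a code in the centraliser. -/
noncomputable def kEl (a : ℕ) : F.quadCen :=
  if h : a < 192 then ⟨F.el (code12 a), F.el_code12_mem h⟩ else 1

theorem kEl_coe {a : ℕ} (ha : a < 192) : (F.kEl a : G) = F.el (code12 a) := by
  rw [kEl, dif_pos ha]

theorem kEl_mul {a b : ℕ} (ha : a < 192) (hb : b < 192) :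
    F.kEl (mulC 2 a b) = F.kEl a * F.kEl b := Subtype.ext (by
  rw [Subgroup.coe_mul, F.kEl_coe ha, F.kEl_coe hb, F.kEl_coe (CfsgLib.ExtraSymThree.mulC_lt _ _ _),
    code12_hom ha hb, F.el_mul (code12_spec ha).1 (code12_spec hb).1])

theorem kEl_zero : F.kEl 0 = 1 := Subtype.ext (by
  rw [F.kEl_coe (by norm_num), code12_zero, F.el_oneC, OneMemClass.coe_one])

theorem mem_cent_quad {g : G} (hz : g * z = z * g) (hg : g ∈ F.quadCen) :
    ∃ e ∈ quadE, ∃ a < 192, g = F.a e * F.el (code12 a) := by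
  obtain ⟨c, hc, rfl⟩ := F.exists_code (Subgroup.mem_centralizer_singleton_iff.2 hz)
  obtain ⟨h16, h32⟩ := F.mem_quadCen.1 hg
  have k16 : commC c (aC 16) = true := (F.el_comm_iff hc (okC_aC (by norm_num))).2 h16
  have k32 : commC c (aC 32) = true := (F.el_comm_iff hc (okC_aC (by norm_num))).2 h32
  obtain ⟨σ, hσ, rfl⟩ := exists_perm hc
  have hs := scan_sound hσ ?_ cent_quad_scan
  · simp only [k16, k32, Bool.and_self, Bool.not_true, Bool.false_or, List.any_eq_true,
      Nat.beq_eq] at hs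
    obtain ⟨e, he, a, ha, hea⟩ := hs
    refine ⟨e, he, a, mem_codes.1 ha, ?_⟩
    rw [← hea, F.el_mul (okC_aC (quadE_lt e he)) (code12_spec (mem_codes.1 ha)).1]
    rfl
  · intro k hk
    refine pruneBy_false fun i hi => ?_
    obtain ⟨τ, -, hτe⟩ := exists_perm (okC_aC (i := 16) (by norm_num))
    obtain ⟨υ, -, hυe⟩ := exists_perm (okC_aC (i := 32) (by norm_num))
    rw [← hτe, ← hυe, notCommAt_false ?_ hk hi, notCommAt_false ?_ hk hi]
    · rfl
    · exact enc_injective (by rw [enc_mul, enc_mul, hυe]; exact commC_iff.1 k32)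
    · exact enc_injective (by rw [enc_mul, enc_mul, hτe]; exact commC_iff.1 k16)

theorem quad_shift {k : G} (hk : k ∈ F.quadCen) {lab : ℕ → ℕ} (hlab : F.IsLabel lab) {i e : ℕ}
    (hi : i < 64) (he : e < 64) (h : k * F.a i * k⁻¹ = F.a i * F.a e) :
    lab (aC (Nat.xor i e)) = lab (aC i) ∧ k * F.a (Nat.xor i 16) * k⁻¹ = F.a (Nat.xor (Nat.xor i e) 16) := by
  have hsq : ∀ t < 64, okC (aC t) = true ∧ mulP (aC t) (aC t) = oneC := fun t ht =>
    ⟨okC_aC ht, by rw [mulP_aC ht ht, show Nat.xor t t = 0 from Nat.xor_self t, aC_zero]⟩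
  refine ⟨(hlab.conj _ _ (hsq i hi).1 (hsq i hi).2 (hsq _ (xor_lt hi he)).1 (hsq _ (xor_lt hi he)).2
    (isConj_iff.2 ⟨k, ?_⟩)).symm, ?_⟩
  · show k * F.a i * k⁻¹ = F.a (Nat.xor i e)
    rw [h, F.a_mul hi he]
  · rw [F.a_mul hi (by norm_num : (16 : ℕ) < 64), ← conj_mul, h, (F.mem_quadCen.1 hk).1,
      mul_inv_cancel_right, F.a_mul (xor_lt hi he) (by norm_num : (16 : ℕ) < 64), F.a_mul hi he]

variable [Finite G] (S : Sylow 2 G) (hS : (S : Subgroup G) ≤ Subgroup.centralizer ({z} : Set G))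
  (hm : F.Marks mAlt)

include hS hm in
/-- The quotient with the image of `z` is coded by kind two. -/
theorem exists_quot_frame : ∃ L : CfsgLib.ExtraSymThree.Frame 2
    (F.quadPi F.zIn), ∀ a, L.el a = F.quadPi (F.kEl a) := by
  have hlab := F.isLabel_of_check S hS hm labA_aC labA_inv
  have hI : ∀ i < 64, labA (aC i) = labI mAlt i := fun i hi =>
    Nat.beq_eq.mp (List.all_eq_true.1 labA_aC i (List.mem_range.2 hi))
  refine ⟨⟨fun a => F.quadPi (F.kEl a), fun l => ⟨fun hl => ?_, ?_⟩, fun a ha b hb h => ?_,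
    fun a ha b hb => ?_, ?_, by norm_num⟩, fun a => rfl⟩
  · obtain ⟨k, rfl⟩ := QuotientGroup.mk'_surjective _ l
    obtain ⟨e, he, hee⟩ := F.quadPi_eq.1 (show F.quadPi (F.zIn * k) =
      F.quadPi (k * F.zIn) by
        rw [map_mul, map_mul]; exact hl.symm)
    simp only [Subgroup.coe_mul, zIn] at hee
    have h21 : (k : G) * F.a 21 * (k : G)⁻¹ = F.a 21 * F.a e := by
      rw [show F.a 21 = z from F.a_alI, ← hee, mul_assoc z, mul_assoc z, mul_assoc (k : G),
        ← F.quadCen_comm (inv_mem k.2) he, mul_inv_cancel_left]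
    obtain ⟨hl21, h5⟩ := F.quad_shift k.2 hlab (by norm_num) (quadE_lt e he) h21
    have h5' : (k : G) * F.a 5 * (k : G)⁻¹ = F.a 5 * F.a e := by
      rw [show (5 : ℕ) = Nat.xor 21 16 from rfl]
      rw [h5, F.a_mul (xor_lt (by norm_num) (quadE_lt e he)) (by norm_num : (16 : ℕ) < 64),
        F.a_mul (by norm_num : (21 : ℕ) < 64) (quadE_lt e he),
        F.a_mul (by norm_num : (21 : ℕ) < 64) (by norm_num : (16 : ℕ) < 64),
        mul_assoc, F.a_comm (quadE_lt e he) (by norm_num : (16 : ℕ) < 64), mul_assoc]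
    obtain ⟨hl5, -⟩ := F.quad_shift k.2 hlab (by norm_num) (quadE_lt e he) h5'
    rw [hI _ (xor_lt (by norm_num) (quadE_lt e he)), hI _ (by norm_num)] at hl21 hl5
    have hq := List.all_eq_true.1 quad_coset_check e he
    rw [hl21, hl5] at hq
    have he0 : e = 0 := by
      revert hq
      rw [show labI mAlt 21 = 0 from by decide +kernel, show labI mAlt 5 = 2 from by decide +kernel]
      simp
    rw [he0, F.a_zero, mul_one] at hee
    obtain ⟨f, hf, a, ha, hka⟩ := F.mem_cent_quad hee.symm k.2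
    refine ⟨a, ha, F.quadPi_eq.2 ⟨f, hf, ?_⟩⟩
    rw [F.kEl_coe ha, hka, F.quadCen_comm (F.el_code12_mem ha) hf]
  · rintro ⟨a, ha, rfl⟩
    rw [← map_mul, ← map_mul]
    refine congrArg _ (Subtype.ext ?_)
    simp only [Subgroup.coe_mul, F.kEl_coe ha, zIn]
    exact Subgroup.mem_centralizer_singleton_iff.1 (F.el_mem _)
  · have hia := invC_spec ha
    have h1 : F.quadPi (F.kEl (mulC 2 (invC 2 a) b)) = 1 := by
      have e : F.quadPi (F.kEl a) * F.quadPi (F.kEl (invC 2 a)) = 1 := by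
        rw [← map_mul, ← F.kEl_mul ha hia.2, hia.1, F.kEl_zero, map_one]
      rw [F.kEl_mul hia.2 hb, map_mul, ← h, ← inv_eq_of_mul_eq_one_right e, inv_mul_cancel]
    obtain ⟨e, he, hee⟩ := F.quadPi_eq_one.1 h1
    rw [F.kEl_coe (CfsgLib.ExtraSymThree.mulC_lt _ _ _)] at hee
    have h0 : mulC 2 (invC 2 a) b = 0 := by
      have := List.all_eq_true.1 (List.all_eq_true.1 code12_quad _
        (mem_codes.2 (CfsgLib.ExtraSymThree.mulC_lt 2 (invC 2 a) b))) e he
      have hc : code12 (mulC 2 (invC 2 a) b) = aC e :=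
        F.el_inj (code12_spec (CfsgLib.ExtraSymThree.mulC_lt _ _ _)).1 (okC_aC (quadE_lt e he)) hee.symm
      simp only [hc, Nat.beq_eq, Bool.or_eq_true, Bool.not_eq_true'] at this
      rcases this with h' | h'
      · rw [← Bool.not_eq_true, Nat.beq_eq] at h'; exact absurd rfl h'
      · exact h'
    have hk : F.kEl b = F.kEl a := by
      have e1 := F.kEl_mul hia.2 hb
      rw [h0, F.kEl_zero] at e1
      have e2 : F.kEl a * F.kEl (invC 2 a) = 1 := by rw [← F.kEl_mul ha hia.2, hia.1, F.kEl_zero]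
      calc F.kEl b = F.kEl a * F.kEl (invC 2 a) * F.kEl b := by rw [e2, one_mul]
        _ = F.kEl a := by rw [mul_assoc, ← e1, mul_one]
    have hc : code12 a = code12 b := F.el_inj (code12_spec ha).1 (code12_spec hb).1 (by
      rw [← F.kEl_coe ha, ← F.kEl_coe hb, hk])
    have := List.all_eq_true.1 (List.all_eq_true.1 code12_inj a (mem_codes.2 ha)) b (mem_codes.2 hb)
    simp only [hc, Bool.or_eq_true, Bool.not_eq_true', Nat.beq_eq] at this
    rcases this with h' | h'
    · rw [← Bool.not_eq_true, Nat.beq_eq] at h'; exact absurd rfl h'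
    · exact h'
  · show F.quadPi (F.kEl (mulC 2 a b)) = _
    rw [F.kEl_mul ha hb, map_mul]
  · show F.quadPi (F.kEl sC) = _
    refine F.quadPi_eq.2 ⟨16, by decide, ?_⟩
    rw [F.kEl_coe (by norm_num), code12_sC]
    show F.el (aC 5) * F.a 16 = z
    rw [show F.el (aC 5) = F.a 5 from rfl, ← F.a_mul (by norm_num) (by norm_num)]
    exact F.a_alI

end Frame

end CfsgLib.AltTwelveCentraliser
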