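import Cfsg.Agent.AltTwelveCentraliser.AltLift

/-!
An element of order three normalising the four group of the first block and fixing the others
commutes with the involutions of label one.
-/

set_option autoImplicit false
set_option maxRecDepth 100000

namespace CfsgLib.AltTwelveCentraliser

open CfsgLib.ExtraSymThree (mulC conC codes sC mem_codes sixW)

/-- The codes normalising the subgroup of order 16. -/
def midList : List ℕ := codes.filter fun a => sixW.all fun z => sixW.contains (conC 2 a z)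

theorem fix_checks : (codes.all fun d =>
    (!(sixW.all fun z => Nat.beq (conC 2 d z) z) || (sixW.contains d && Nat.beq (mulC 2 d d) 0)) &&
    (!(qList.all fun z => Nat.beq (conC 2 d z) z) || (qList.contains d && Nat.beq (mulC 2 d d) 0)) &&
    qList.all fun z => qList.contains (conC 2 d z)) = true := by
  decide +kernel

theorem qList_mid : ∀ z ∈ qList, z ∈ midList := by decide +kernel

theorem six_index : (sixW.all fun z => (List.range 16).any fun i => Nat.beq (code12 z) (aC i)) = true := by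
  decide +kernel

theorem xor_basis : ∀ i < 16, Nat.xor
    (Nat.xor (bif Nat.beq (Nat.land i 4) 0 then 0 else 4) (bif Nat.beq (Nat.land i 8) 0 then 0 else 8))
    (Nat.xor (bif Nat.beq (Nat.land i 1) 0 then 0 else 1) (bif Nat.beq (Nat.land i 2) 0 then 0 else 2)) = i := by
  decide +kernel

end CfsgLib.AltTwelveCentraliser

namespace CfsgLib.ExtraSymThree.Frame

variable {H : Type*} [Group H] {s : H} (L : CfsgLib.ExtraSymThree.Frame 2 s)

/-- One step of the extension of the fixed codes. -/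
theorem fix_step {θ : H →* H} (h3 : ∀ x, θ (θ (θ x)) = x) {l l' : List ℕ} (hsl : sC ∈ l)
    (hl : ∀ z ∈ l, z < 192 ∧ θ (L.el z) = L.el z) (hl' : ∀ a ∈ l', a < 192 ∧ ∀ z ∈ l, conC 2 a z ∈ l)
    (hcen : ∀ d < 192, (∀ z ∈ l, conC 2 d z = z) → d ∈ l ∧ mulC 2 d d = 0) :
    ∀ a ∈ l', θ (L.el a) = L.el a := by
  intro a ha
  obtain ⟨ha', hla⟩ := hl' a ha
  obtain ⟨d, hd⟩ : ∃ d, d = (L.el a)⁻¹ * θ (L.el a) := ⟨_, rfl⟩
  have hcom : ∀ z ∈ l, d * L.el z * d⁻¹ = L.el z := by
    intro z hz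
    have e : θ (L.el a * L.el z * (L.el a)⁻¹) = L.el a * L.el z * (L.el a)⁻¹ := by
      rw [← L.el_conC ha' (hl z hz).1]
      exact (hl _ (hla z hz)).2
    rw [map_mul, map_mul, map_inv, (hl z hz).2] at e
    calc d * L.el z * d⁻¹ = (L.el a)⁻¹ * (θ (L.el a) * L.el z * (θ (L.el a))⁻¹) * L.el a := by
          rw [hd]; group
      _ = L.el z := by rw [e]; group
  have hds := hcom sC hsl
  rw [L.el_sC] at hds
  obtain ⟨c, hc, hce⟩ := L.exists_code (mul_inv_eq_iff_eq_mul.1 hds)
  obtain ⟨hcl, hcc⟩ := hcen c hc fun z hz => L.inj _ (conC_lt _ _ _) z (hl z hz).1 (by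
    rw [L.el_conC hc (hl z hz).1, hce]; exact hcom z hz)
  have hfix : θ d = d := hce ▸ (hl c hcl).2
  have hdd : d * d = 1 := hce ▸ (L.mul_self_iff hc).2 hcc
  have hθ : θ (L.el a) = L.el a * d := by rw [hd]; group
  have e3 := h3 (L.el a)
  rw [hθ, map_mul, hθ, hfix, map_mul, map_mul, hθ, hfix, mul_assoc, mul_assoc, hdd, mul_one] at e3
  rw [hθ]
  exact e3

open CfsgLib.AltTwelveCentraliser in
/-- An automorphism of order three fixing the subgroup of order 16 fixes all codes. -/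
theorem fix_codes {θ : H →* H} (h3 : ∀ x, θ (θ (θ x)) = x)
    (hsix : ∀ z ∈ sixW, θ (L.el z) = L.el z) : ∀ a < 192, θ (L.el a) = L.el a := by
  have hchk : ∀ d < 192, ((∀ z ∈ sixW, conC 2 d z = z) → d ∈ sixW ∧ mulC 2 d d = 0) ∧
      ((∀ z ∈ qList, conC 2 d z = z) → d ∈ qList ∧ mulC 2 d d = 0) ∧
      ∀ z ∈ qList, conC 2 d z ∈ qList := by
    intro d hd
    have h := List.all_eq_true.1 fix_checks d (mem_codes.2 hd)
    simp only [Bool.and_eq_true, Bool.or_eq_true, Bool.not_eq_true', List.all_eq_true,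
      List.contains_iff_mem, Nat.beq_eq] at h
    refine ⟨fun hz => h.1.1.resolve_left ?_, fun hz => h.1.2.resolve_left ?_, h.2⟩
    all_goals
      intro hf
      rw [List.all_eq_false] at hf
      obtain ⟨z, hzm, hne⟩ := hf
      exact hne (by simpa [Nat.beq_eq] using hz z hzm)
  have hmid : ∀ a ∈ midList, θ (L.el a) = L.el a := by
    refine L.fix_step h3 sC_mem_sixW (fun z hz => ⟨sixW_lt z hz, hsix z hz⟩) (fun a ha => ?_)
      fun d hd => (hchk d hd).1
    obtain ⟨ha1, ha2⟩ := List.mem_filter.1 ha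
    exact ⟨mem_codes.1 ha1, fun z hz => List.contains_iff_mem.1 (List.all_eq_true.1 ha2 z hz)⟩
  have hq : ∀ z ∈ qList, z < 192 := fun z hz => mem_codes.1 (List.mem_filter.1 hz).1
  exact fun a ha => L.fix_step h3 (l := qList) (l' := codes) (by decide +kernel)
    (fun z hz => ⟨hq z hz, hmid z (qList_mid z hz)⟩)
    (fun b hb => ⟨mem_codes.1 hb, (hchk b (mem_codes.1 hb)).2.2⟩)
    (fun d hd => (hchk d hd).2.1) a (mem_codes.2 ha)

end CfsgLib.ExtraSymThree.Frame

namespace CfsgLib.AltTwelveCentraliser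

attribute [local irreducible] mulP pack nib okC enc conjIdx code12 labA

open CfsgLib.ExtraSymThree (mulC sC mem_codes sixW)

namespace Frame

variable {G : Type*} [Group G] [Finite G] {z : G} {F : Frame z}
  {L : CfsgLib.ExtraSymThree.Frame 2 (F.quadPi F.zIn)} (hL : ∀ a, L.el a = F.quadPi (F.kEl a))

include hL in
/-- A rotation of the first block commutes with the involutions of label one. -/
theorem rotation_comm (hlab : F.IsLabel labA) {y : G} (hy3 : y ^ 3 = 1)
    (hE : ∀ e ∈ quadE, ∃ f ∈ quadE, y * F.a e * y⁻¹ = F.a f)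
    (hfix : ∀ i ∈ [4, 8, 1, 2], y * F.a i = F.a i * y) {a : ℕ} (ha : a < 192) (ha0 : a ≠ 0)
    (haa : mulC 2 a a = 0) (h1 : labA (code12 a) = 1) :
    y * F.el (code12 a) = F.el (code12 a) * y := by
  have hyi : y⁻¹ = y * y := inv_eq_of_mul_eq_one_right (by rw [← mul_assoc, ← pow_three', hy3])
  have hE' : ∀ e ∈ quadE, ∃ f ∈ quadE, y⁻¹ * F.a e * y = F.a f := fun e he => by
    obtain ⟨f, hf, h⟩ := hE e he
    obtain ⟨g, hg, h'⟩ := hE f hf
    refine ⟨g, hg, ?_⟩
    rw [← h', ← h, show y * (y * F.a e * y⁻¹) * y⁻¹ = y * y * F.a e * (y * y)⁻¹ by group, ← hyi,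
      inv_inv]
  have hK : ∀ g ∈ F.quadCen, y * g * y⁻¹ ∈ F.quadCen := by
    intro g hg
    have hc : ∀ e ∈ quadE, y * g * y⁻¹ * F.a e = F.a e * (y * g * y⁻¹) := fun e he => by
      obtain ⟨f, hf, h⟩ := hE' e he
      calc y * g * y⁻¹ * F.a e = y * (g * (y⁻¹ * F.a e * y)) * y⁻¹ := by group
        _ = y * (F.a f * g) * y⁻¹ := by rw [h, F.quadCen_comm hg hf]
        _ = F.a e * (y * g * y⁻¹) := by rw [← h]; group
    exact F.mem_quadCen.2 ⟨hc 16 (by decide), hc 32 (by decide)⟩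
  obtain ⟨c, hc⟩ : ∃ c : F.quadCen →* F.quadCen, ∀ k, (c k : G) = y * k * y⁻¹ :=
    ⟨((MulAut.conj y).toMonoidHom.comp F.quadCen.subtype).codRestrict _ (fun k => hK k k.2), fun k => rfl⟩
  let θ : F.QuadQuot →* F.QuadQuot := QuotientGroup.map F.quadIn F.quadIn c (fun k hk => by
    obtain ⟨e, he, hee⟩ := F.mem_quadIn.1 hk
    obtain ⟨f, hf, h⟩ := hE e he
    exact ⟨f, hf, by rw [Subgroup.coe_subtype, hc, ← hee, h]⟩)
  have hθ : ∀ k, θ (F.quadPi k) = F.quadPi (c k) := fun k => rfl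
  have h3 : ∀ x, θ (θ (θ x)) = x := fun x => by
    obtain ⟨k, rfl⟩ := QuotientGroup.mk'_surjective _ x
    show θ (θ (θ (F.quadPi k))) = F.quadPi k
    rw [hθ, hθ, hθ]
    refine congrArg _ (Subtype.ext ?_)
    rw [hc, hc, hc, show y * (y * (y * (k : G) * y⁻¹) * y⁻¹) * y⁻¹ = (y * y * y) * k * (y * y * y)⁻¹ by group,
      ← pow_three', hy3]
    group
  have hlow : ∀ i < 16, y * F.a i = F.a i * y := by
    intro i hi
    have hb : ∀ k ∈ [4, 8, 1, 2], Commute y (F.a (bif Nat.beq (Nat.land i k) 0 then 0 else k)) := fun k hk => by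
      cases Nat.beq (Nat.land i k) 0
      · exact hfix k hk
      · show Commute y (F.a 0)
        rw [F.a_zero]
        exact Commute.one_right y
    have hl : ∀ k < 16, (bif Nat.beq (Nat.land i k) 0 then 0 else k) < 64 := fun k hk => by
      cases Nat.beq (Nat.land i k) 0 <;> simp <;> omega
    rw [← xor_basis i hi, F.a_mul (xor_lt (hl 4 (by norm_num)) (hl 8 (by norm_num)))
      (xor_lt (hl 1 (by norm_num)) (hl 2 (by norm_num))), F.a_mul (hl 4 (by norm_num)) (hl 8 (by norm_num)),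
      F.a_mul (hl 1 (by norm_num)) (hl 2 (by norm_num))]
    exact (((hb 4 (by simp)).mul_right (hb 8 (by simp))).mul_right
      ((hb 1 (by simp)).mul_right (hb 2 (by simp)))).eq
  have hsix : ∀ w ∈ sixW, θ (L.el w) = L.el w := by
    intro w hw
    have hw' := CfsgLib.ExtraSymThree.Frame.sixW_lt w hw
    obtain ⟨i, hi, he⟩ := List.any_eq_true.1 (List.all_eq_true.1 six_index w hw)
    rw [Nat.beq_eq] at he
    rw [hL, hθ]
    refine congrArg _ (Subtype.ext ?_)
    rw [hc, F.kEl_coe hw', he, F.el_idx, hlow i (List.mem_range.1 hi), mul_inv_cancel_right]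
  have hfa := L.fix_codes h3 hsix a ha
  rw [hL, hθ] at hfa
  obtain ⟨hok, -, -⟩ := code12_spec ha
  have hk2 : F.el (code12 a) * F.el (code12 a) = 1 := by
    rw [← F.kEl_coe ha, ← Subgroup.coe_mul, ← F.kEl_mul ha ha, haa, F.kEl_zero, OneMemClass.coe_one]
  have := label_one_eq hlab ha ha0 haa h1 hfa hok
    (F.el_inj (okC_mulP hok hok) okC_oneC (by rw [F.el_mul hok hok, hk2, F.el_oneC])) h1
    (isConj_iff.2 ⟨y, by rw [hc, F.kEl_coe ha]⟩)
  have := congrArg Subtype.val this
  rw [hc, F.kEl_coe ha] at this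
  exact mul_inv_eq_iff_eq_mul.1 this

end Frame

end CfsgLib.AltTwelveCentraliser
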