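import Cfsg.Agent.AltTwelveCentraliser.Frame

/-!
The automorphism of the model multiplying by the involution the elements inducing odd
permutations of the six pairs.
-/

set_option autoImplicit false

namespace CfsgLib.AltTwelveCentraliser

open Equiv

theorem pair_eq (σ : ↥Cen) {x y : Fin 12} (h : (x : ℕ) / 2 = (y : ℕ) / 2) :
    ((σ : Perm (Fin 12)) x : ℕ) / 2 = ((σ : Perm (Fin 12)) y : ℕ) / 2 := by
  have hc := mem_centralizer_alP.1 σ.2.2
  by_cases hxy : x = y
  · rw [hxy]
  have hy : y = alP x := Fin.ext (by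
    rw [val_alP]; have := Fin.val_ne_of_ne hxy; split_ifs <;> omega)
  have h2 : (σ : Perm (Fin 12)) y = alP ((σ : Perm (Fin 12)) x) := by
    rw [hy]; exact DFunLike.congr_fun hc x
  rw [h2, val_alP]
  split_ifs <;> omega

/-- The action on the pairs. -/
def pairFun (σ : ↥Cen) (i : Fin 6) : Fin 6 :=
  ⟨((σ : Perm (Fin 12)) ⟨2 * i, by omega⟩ : ℕ) / 2, by omega⟩

theorem pairFun_mul (σ τ : ↥Cen) (i : Fin 6) :
    pairFun (σ * τ) i = pairFun σ (pairFun τ i) :=
  Fin.ext (pair_eq σ (by simp only [pairFun]; omega))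

theorem pairFun_one (i : Fin 6) : pairFun 1 i = i :=
  Fin.ext (by simp [pairFun])

/-- The permutation of the six pairs. -/
def pairPerm : ↥Cen →* Perm (Fin 6) where
  toFun σ :=
    { toFun := pairFun σ
      invFun := pairFun σ⁻¹
      left_inv := fun i => by rw [← pairFun_mul, inv_mul_cancel, pairFun_one]
      right_inv := fun i => by rw [← pairFun_mul, mul_inv_cancel, pairFun_one] }
  map_one' := Equiv.ext pairFun_one
  map_mul' σ τ := Equiv.ext (pairFun_mul σ τ)

/-- The sign on the pairs. -/
def pairSign : ↥Cen →* ℤˣ := Perm.sign.comp pairPerm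

theorem alP_central (σ : ↥Cen) :
    (⟨alP, alP_mem⟩ : ↥Cen) * σ = σ * ⟨alP, alP_mem⟩ :=
  Subtype.ext (mem_centralizer_alP.1 σ.2.2).symm

theorem alP_mul_self : (⟨alP, alP_mem⟩ : ↥Cen) * ⟨alP, alP_mem⟩ = 1 :=
  Subtype.ext (show alP * alP = 1 by decide +kernel)

/-- A sign as an element of the centre. -/
def zeta : ℤˣ →* ↥Cen where
  toFun u := if u = 1 then 1 else ⟨alP, alP_mem⟩
  map_one' := by simp
  map_mul' u v := by
    rcases Int.units_eq_one_or u with rfl | rfl <;>
      rcases Int.units_eq_one_or v with rfl | rfl <;> simp [alP_mul_self]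

theorem zeta_comm (u : ℤˣ) (σ : ↥Cen) : zeta u * σ = σ * zeta u := by
  rcases Int.units_eq_one_or u with rfl | rfl
  · simp
  · exact alP_central σ

/-- The automorphism. -/
def beta : ↥Cen →* ↥Cen where
  toFun σ := σ * zeta (pairSign σ)
  map_one' := by simp
  map_mul' σ τ := by
    rw [map_mul, map_mul, mul_assoc σ (zeta (pairSign σ)), ← mul_assoc (zeta (pairSign σ)) τ,
      zeta_comm _ τ, mul_assoc, mul_assoc]

theorem pairSign_alP : pairSign ⟨alP, alP_mem⟩ = 1 := by
  have : pairPerm ⟨alP, alP_mem⟩ = 1 := Equiv.ext fun i => Fin.ext (by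
    show (alP ⟨2 * i, _⟩ : ℕ) / 2 = i
    rw [val_alP]; simp only; split_ifs <;> omega)
  rw [pairSign, MonoidHom.comp_apply, this, map_one]

theorem pairSign_zeta (u : ℤˣ) : pairSign (zeta u) = 1 := by
  rcases Int.units_eq_one_or u with rfl | rfl
  · simp
  · exact pairSign_alP

theorem beta_beta (σ : ↥Cen) : beta (beta σ) = σ := by
  show σ * zeta (pairSign σ) * zeta (pairSign (σ * zeta (pairSign σ))) = σ
  rw [map_mul pairSign, pairSign_zeta, mul_one, mul_assoc, ← map_mul zeta,
    Int.units_mul_self, map_one, mul_one]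

theorem beta_alP : beta ⟨alP, alP_mem⟩ = ⟨alP, alP_mem⟩ := by
  show _ * zeta (pairSign _) = _
  rw [pairSign_alP, map_one, mul_one]

/-- The index of the image of an element of the subgroup of order 64. -/
def betaI (i : ℕ) : ℕ :=
  bif Nat.beq (Nat.mod (Nat.div i 2 + Nat.div i 8 + Nat.div i 32) 2) 1 then Nat.xor i 21 else i

theorem betaI_check : ((List.range 64).all fun i => Nat.blt (betaI i) 64 &&
    (List.range 64).all fun j => Nat.beq (betaI (Nat.xor i j)) (Nat.xor (betaI i) (betaI j))) =
      true := by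
  decide +kernel

theorem beta_of_pairs {c : ℕ} (hc : okC c = true) {p : Perm (Fin 6)}
    (hp : ∀ i : Fin 6, nib c (2 * i) / 2 = p i) :
    beta (permC c) = permC c * zeta (Perm.sign p) := by
  have : pairPerm (permC c) = p := Equiv.ext fun i => Fin.ext (by
    show ((permC c : Perm (Fin 12)) ⟨2 * i, _⟩ : ℕ) / 2 = _
    rw [← hp i, ← nib_enc, enc_permC hc])
  show _ * zeta (pairSign _) = _
  rw [pairSign, MonoidHom.comp_apply, this]

theorem beta_permC_aC : ∀ i < 64, beta (permC (aC i)) = permC (aC (betaI i)) := by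
  have h21 : permC (aC 21) = ⟨alP, alP_mem⟩ := Subtype.ext (enc_injective
    (by rw [enc_permC (okC_aC (by norm_num)), show aC 21 = alC from aC_alI, enc_alP]))
  have hz : zeta (-1) = permC (aC 21) := by rw [h21]; simp [zeta]
  have even : ∀ i < 64, betaI i = i → (∀ j : Fin 6, nib (aC i) (2 * j) / 2 = j) →
      beta (permC (aC i)) = permC (aC (betaI i)) := fun i hi hb hp => by
    rw [beta_of_pairs (okC_aC hi) (p := 1) hp, map_one, map_one, mul_one, hb]
  have odd : ∀ i < 64, ∀ a b : Fin 6, a ≠ b → betaI i = Nat.xor i 21 →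
      (∀ j : Fin 6, nib (aC i) (2 * j) / 2 = Equiv.swap a b j) →
      beta (permC (aC i)) = permC (aC (betaI i)) := fun i hi a b hab hb hp => by
    rw [beta_of_pairs (okC_aC hi) hp, Perm.sign_swap hab, hz, hb, ← mulP_aC hi (by norm_num),
      permC_mul (okC_aC hi) (okC_aC (by norm_num))]
  have basis : ∀ k < 6, beta (permC (aC (2 ^ k))) = permC (aC (betaI (2 ^ k))) := by
    intro k hk
    interval_cases k
    · exact even _ (by norm_num) rfl (by decide +kernel)
    · exact odd _ (by norm_num) 4 5 (by decide) rfl (by decide +kernel)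
    · exact even _ (by norm_num) rfl (by decide +kernel)
    · exact odd _ (by norm_num) 2 3 (by decide) rfl (by decide +kernel)
    · exact even _ (by norm_num) rfl (by decide +kernel)
    · exact odd _ (by norm_num) 0 1 (by decide) rfl (by decide +kernel)
  suffices ∀ k ≤ 6, ∀ i < 2 ^ k, beta (permC (aC i)) = permC (aC (betaI i)) from this 6 le_rfl
  intro k
  induction k with
  | zero =>
    intro _ i hi
    obtain rfl : i = 0 := by simpa using hi
    rw [show betaI 0 = 0 from rfl, aC_zero, permC_oneC, map_one]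
  | succ k ih =>
    intro hk i hi
    by_cases hlt : i < 2 ^ k
    · exact ih (by omega) i hlt
    have h64 : (2 : ℕ) ^ k < 64 := (Nat.pow_lt_pow_right (by norm_num) (show k < 6 by omega))
    have h64' : i < 64 := lt_of_lt_of_le hi (Nat.pow_le_pow_right (by norm_num) hk)
    have hx : Nat.xor (2 ^ k) (Nat.xor (2 ^ k) i) = i := by
      show 2 ^ k ^^^ (2 ^ k ^^^ i) = i
      rw [← Nat.xor_assoc, Nat.xor_self, Nat.zero_xor]
    have hlt' : Nat.xor (2 ^ k) i < 2 ^ k := by
      have : ∀ k < 6, ∀ i < 64, i < 2 ^ (k + 1) → ¬ i < 2 ^ k → Nat.xor (2 ^ k) i < 2 ^ k := by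
        decide +kernel
      exact this k (by omega) i h64' hi hlt
    have hb := List.all_eq_true.1 betaI_check
    have hxor : ∀ a b, a < 64 → b < 64 → betaI (Nat.xor a b) = Nat.xor (betaI a) (betaI b) :=
      fun a b ha hb' => by
        have := hb a (List.mem_range.2 ha)
        simp only [Bool.and_eq_true, List.all_eq_true, List.mem_range, Nat.beq_eq] at this
        exact this.2 b hb'
    have hblt : ∀ a, a < 64 → betaI a < 64 := fun a ha => by
      have := hb a (List.mem_range.2 ha)
      simp only [Bool.and_eq_true, Nat.blt_eq] at this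
      exact this.1
    conv_lhs => rw [← hx, ← mulP_aC h64 (hlt'.trans h64),
      permC_mul (okC_aC h64) (okC_aC (hlt'.trans h64)), map_mul, basis k (by omega),
      ih (by omega) _ hlt']
    rw [← permC_mul (okC_aC (hblt _ h64)) (okC_aC (hblt _ (hlt'.trans h64))),
      mulP_aC (hblt _ h64) (hblt _ (hlt'.trans h64)), ← hxor _ _ h64 (hlt'.trans h64), hx]

variable {G : Type*} [Group G] {z : G}

/-- The frame twisted by the automorphism. -/
noncomputable def Frame.twist (F : Frame z) : Frame z where
  φ := F.φ.comp beta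
  inj := F.inj.comp fun a b h => by rw [← beta_beta a, h, beta_beta]
  range_eq := by
    rw [MonoidHom.range_comp,
      MonoidHom.range_eq_top.2 (fun σ => ⟨beta σ, beta_beta σ⟩), ← MonoidHom.range_eq_map,
      F.range_eq]
  map_al := by rw [MonoidHom.comp_apply, beta_alP, F.map_al]

theorem Frame.twist_a (F : Frame z) {i : ℕ} (hi : i < 64) : F.twist.a i = F.a (betaI i) :=
  congrArg F.φ (beta_permC_aC i hi)

end CfsgLib.AltTwelveCentraliser
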