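import Cfsg.Agent.AltTwelveCentraliser.Control

/-!
The labels of the two fusion patterns.
-/

set_option autoImplicit false

namespace CfsgLib.AltTwelveCentraliser

/-- The labels with twenty-seven conjugates: the number of points moved decides. -/
def labA (c : ℕ) : ℕ :=
  let k := movedC c
  bif Nat.beq k 0 then 9 else bif Nat.beq k 12 then 0 else bif Nat.beq k 4 then 1 else 2

/-- The labels with seven conjugates. -/
def labT (c : ℕ) : ℕ :=
  let k := movedC c
  let q := fixPairs c
  bif Nat.beq k 0 then 9
  else bif Nat.beq k 4 then (bif Nat.beq q 4 then 0 else 1)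
  else bif Nat.beq k 8 then (bif Nat.beq q 2 then 1 else 2)
  else bif Nat.beq q 6 then 0 else bif Nat.beq q 4 then 1 else 2

/-- The four-groups on two pairs, by two generators. -/
def quadList : List (ℕ × ℕ) :=
  [(0xba9876542301, 0xba9876541032), (0xba9876453201, 0xba9876103254), (0xba9867543201, 0xba9810543276),
   (0xba8976543201, 0xba1076543298), (0xab9876543201, 0x1098765432ba), (0xba9876452310, 0xba9876325410),
   (0xba9867542310, 0xba9832547610), (0xba8976542310, 0xba3276549810), (0xab9876542310, 0x32987654ba10),
   (0xba9867453210, 0xba9854763210), (0xba8976453210, 0xba5476983210), (0xab9876453210, 0x549876ba3210),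
   (0xba8967543210, 0xba7698543210), (0xab9867543210, 0x7698ba543210), (0xab8976543210, 0x98ba76543210)]

/-- The starting subgroups in the case of twenty-seven conjugates. -/
def baseA (bs : List ℕ) : Bool :=
  bs.any (fun b => Nat.beq (labA b) 0) || quadList.any fun q => memN q.1 bs && memN q.2 bs

/-- The starting subgroups in the case of seven conjugates. -/
def baseT (bs : List ℕ) : Bool :=
  bs.any fun b => Nat.ble (labT b) 1

end CfsgLib.AltTwelveCentraliser
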