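import Mathlib.Data.List.Basic

/-!
The orbits, on the elementary abelian subgroup of order 64, of its normaliser in the centraliser,
and elements realising them.
-/

set_option autoImplicit false

namespace CfsgLib.AltTwelveCentraliser

/-- Elements normalising the elementary abelian subgroup, each with its inverse. -/
def normList : List (ℕ × ℕ) :=
  [(0xba9876543210, 0xba9876543210),
   (0x3210ba897645, 0x76453201ba98),
   (0x76453201ba98, 0x3210ba897645),
   (0xba8976543201, 0xba8976543201),
   (0x3201ba987645, 0x76543201ba89),
   (0x76543210ba98, 0x3210ba987654),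
   (0x7645ba983201, 0x7654ba893201),
   (0xba9832107654, 0xba9832107654),
   (0xba8932017654, 0xba8932107645),
   (0x32107645ba89, 0x32017645ba98),
   (0x32017654ba89, 0x32017654ba89),
   (0xba8976453210, 0xba8976453210),
   (0x7654ba983210, 0x7654ba983210)]

/-- The seven orbits which can contain conjugates of the involution. -/
def orbList : List (List ℕ) :=
  [[2, 3, 8, 12, 32, 48],
   [6, 7, 9, 13, 18, 19, 24, 28, 33, 36, 49, 52],
   [10, 11, 14, 15, 34, 35, 40, 44, 50, 51, 56, 60],
   [22, 23, 25, 29, 37, 53],
   [26, 27, 30, 31, 38, 39, 41, 45, 54, 55, 57, 61],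
   [42, 47, 59, 62],
   [43, 46, 58, 63]]

/-- Two orbits with a representative which is a central square in the Sylow subgroup. -/
def rootList : List (List ℕ × ℕ × ℕ) :=
  [([1, 4, 16], 1, 0x98ab76543201),
   ([5, 17, 20], 20, 0xba9854671023)]

end CfsgLib.AltTwelveCentraliser
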