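import Mathlib.Data.List.Basic

/-!
The elementary abelian subgroup of order 64 in one number, 48 bits for each element.
-/

set_option autoImplicit false

namespace CfsgLib.AltTwelveCentraliser

/-- The 64 elements in one number. -/
def aTab : ℕ :=
  0x89ab4567012398ba45670123ab8945670123ba984567012389ab5476012398ba54760123ab8954760123ba985476012389ab6745012398ba67450123ab8967450123ba986745012389ab7654012398ba76540123ab8976540123ba987654012389ab4567103298ba45671032ab8945671032ba984567103289ab5476103298ba54761032ab8954761032ba985476103289ab6745103298ba67451032ab8967451032ba986745103289ab7654103298ba76541032ab8976541032ba987654103289ab4567230198ba45672301ab8945672301ba984567230189ab5476230198ba54762301ab8954762301ba985476230189ab6745230198ba67452301ab8967452301ba986745230189ab7654230198ba76542301ab8976542301ba987654230189ab4567321098ba45673210ab8945673210ba984567321089ab5476321098ba54763210ab8954763210ba985476321089ab6745321098ba67453210ab8967453210ba986745321089ab7654321098ba76543210ab8976543210ba9876543210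

end CfsgLib.AltTwelveCentraliser
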