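import Cfsg.Agent.AltTwelveCentraliser.Code
import Cfsg.Agent.AltTwelveCentraliser.DataOrbits
import Cfsg.Agent.AltTwelveCentraliser.DataTable

/-!
Computed facts about the codes.
-/

set_option autoImplicit false
set_option maxRecDepth 100000

namespace CfsgLib.AltTwelveCentraliser

/-- The `i`-th element of the elementary abelian subgroup. -/
def aC (i : ℕ) : ℕ :=
  Nat.land (Nat.shiftRight aTab (Nat.mul 48 i)) 0xffffffffffff

/-- The index of the involution. -/
abbrev alI : ℕ := 21

/-- Whether two codes commute. -/
def commC (a b : ℕ) : Bool := Nat.beq (mulP a b) (mulP b a)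

/-- Whether a list contains a number. -/
def memN (x : ℕ) : List ℕ → Bool
  | [] => false
  | y :: l => Nat.beq x y || memN x l

theorem memN_iff {x : ℕ} : ∀ {l : List ℕ}, memN x l = true ↔ x ∈ l
  | [] => by simp [memN]
  | y :: l => by
    simp only [memN, Bool.or_eq_true, Nat.beq_eq, List.mem_cons, memN_iff (l := l)]

theorem commC_iff {a b : ℕ} : commC a b = true ↔ mulP a b = mulP b a := by simp [commC, Nat.beq_eq]

theorem aC_alI : aC alI = alC := by decide +kernel

theorem aC_zero : aC 0 = oneC := by decide +kernel

theorem aList_eq : aList = (List.range 64).map aC := by decide +kernel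

theorem aList_nodup : aList.Nodup := by decide +kernel

theorem aC_ok : ((List.range 64).all fun i => okC (aC i)) = true := by decide +kernel

theorem aC_mul : ((List.range 64).all fun i => (List.range 64).all fun j =>
    Nat.beq (mulP (aC i) (aC j)) (aC (Nat.xor i j))) = true := by decide +kernel

/-- Pruning for the centraliser of the elementary abelian subgroup. -/
def pruneA : ℕ → ℕ → Bool :=
  pruneBy fun k c i => [1, 2, 4, 8, 16, 32].any fun b => notCommAt (aC b) k c i

theorem aC_self_centralising : scan pruneA (fun c =>
    !([1, 2, 4, 8, 16, 32].all fun i => commC c (aC i)) || memN c aList) 6 0 0 = true := by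
  decide +kernel

theorem invList_complete : scan (pruneBy notInvAt) (fun c =>
    !(Nat.beq (mulP c c) oneC) || Nat.beq c oneC || memN c invList) 6 0 0 = true := by
  decide +kernel

theorem invList_ok : (invList.all fun c => okC c && Nat.beq (mulP c c) oneC &&
    !(Nat.beq c oneC)) = true := by
  decide +kernel

theorem conjList_ok : (conjList.all fun g =>
    okC g.1 && okC g.2 && Nat.beq (mulP g.1 g.2) oneC && Nat.beq (mulP g.2 g.1) oneC) = true := by
  decide +kernel

theorem conjList_cover : (invList.all fun x =>
    conjList.any fun g => memN (mulP (mulP g.1 x) g.2) aList) = true := by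
  decide +kernel

theorem center_only : ((List.range 64).all fun i =>
    !(conjList.all fun g => commC (aC i) g.1) || Nat.beq i 0 || Nat.beq i alI) = true := by
  decide +kernel

theorem normList_ok : (normList.all fun g =>
    okC g.1 && okC g.2 && Nat.beq (mulP g.1 g.2) oneC && Nat.beq (mulP g.2 g.1) oneC) = true := by
  decide +kernel

end CfsgLib.AltTwelveCentraliser
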