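import Cfsg.Agent.AltTwelveCentraliser.Data
import Mathlib

/-!
The centraliser of a fixed-point-free involution in `A₁₂`, on packed codes.
-/

set_option autoImplicit false

namespace CfsgLib.AltTwelveCentraliser

open Equiv

/-- The entry at the place `i`. -/
def nib (c i : ℕ) : ℕ := Nat.land (Nat.shiftRight c (Nat.mul 4 i)) 15

/-- The code with the entries `f 0, …, f 11`. -/
def pack (f : ℕ → ℕ) : ℕ :=
  f 0 + 16 * (f 1 + 16 * (f 2 + 16 * (f 3 + 16 * (f 4 + 16 * (f 5 + 16 * (f 6 + 16 * (f 7 +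
    16 * (f 8 + 16 * (f 9 + 16 * (f 10 + 16 * f 11))))))))))

/-- The product of two codes. -/
def mulP (a b : ℕ) : ℕ := pack fun i => nib a (nib b i)

theorem mulP_eq (a b : ℕ) : mulP a b = pack fun i => nib a (nib b i) := rfl

theorem nib_pack (f : ℕ → ℕ) (hf : ∀ i < 12, f i < 16) {i : ℕ} (hi : i < 12) :
    nib (pack f) i = f i := by
  have h : ∀ n, nib (pack f) n = pack f / 2 ^ (4 * n) % 16 := fun n => by
    rw [← Nat.shiftRight_eq_div_pow]; exact Nat.and_two_pow_sub_one_eq_mod _ 4
  rw [h]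
  have h0 := hf 0 (by norm_num); have h1 := hf 1 (by norm_num); have h2 := hf 2 (by norm_num)
  have h3 := hf 3 (by norm_num); have h4 := hf 4 (by norm_num); have h5 := hf 5 (by norm_num)
  have h6 := hf 6 (by norm_num); have h7 := hf 7 (by norm_num); have h8 := hf 8 (by norm_num)
  have h9 := hf 9 (by norm_num); have h10 := hf 10 (by norm_num); have h11 := hf 11 (by norm_num)
  interval_cases i <;> (unfold pack; norm_num; omega)

theorem pack_congr {f g : ℕ → ℕ} (h : ∀ i < 12, f i = g i) : pack f = pack g := by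
  unfold pack
  rw [h 0 (by omega), h 1 (by omega), h 2 (by omega), h 3 (by omega), h 4 (by omega), h 5 (by omega),
    h 6 (by omega), h 7 (by omega), h 8 (by omega), h 9 (by omega), h 10 (by omega),
    h 11 (by omega)]

/-- The code of a permutation. -/
def enc (σ : Perm (Fin 12)) : ℕ := pack fun i => if h : i < 12 then (σ ⟨i, h⟩ : ℕ) else 0

theorem nib_enc (σ : Perm (Fin 12)) (i : Fin 12) : nib (enc σ) i = σ i := by
  unfold enc
  rw [nib_pack _ _ i.2, dif_pos i.2]
  intro j hj
  rw [dif_pos hj]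
  omega

theorem enc_injective : Function.Injective enc := fun σ τ h =>
  Equiv.ext fun i => Fin.ext (by rw [← nib_enc, ← nib_enc, h])

theorem enc_mul (σ τ : Perm (Fin 12)) : enc (σ * τ) = mulP (enc σ) (enc τ) := by
  rw [mulP_eq]
  refine pack_congr fun i hi => ?_
  rw [dif_pos hi, nib_enc τ ⟨i, hi⟩, nib_enc]
  rfl

/-- The code of the identity. -/
abbrev oneC : ℕ := 0xba9876543210

/-- The code of the involution `(0 1)(2 3)(4 5)(6 7)(8 9)(10 11)`. -/
abbrev alC : ℕ := 0xab8967452301

theorem enc_one : enc 1 = oneC := by decide +kernel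

/-- The involution. -/
def alP : Perm (Fin 12) :=
  Equiv.swap (0 : Fin 12) 1 * Equiv.swap (2 : Fin 12) 3 * Equiv.swap (4 : Fin 12) 5 *
    Equiv.swap (6 : Fin 12) 7 * Equiv.swap (8 : Fin 12) 9 * Equiv.swap (10 : Fin 12) 11

theorem enc_alP : enc alP = alC := by decide +kernel

/-- The centraliser of the involution in `A₁₂`. -/
abbrev Cen : Subgroup (Perm (Fin 12)) :=
  alternatingGroup (Fin 12) ⊓ Subgroup.centralizer ({alP} : Set (Perm (Fin 12)))

/-- The number of pairs exchanged inside, modulo 2. -/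
def flipC (c : ℕ) : ℕ :=
  Nat.mod (Nat.add (nib c 0) (Nat.add (nib c 2) (Nat.add (nib c 4)
    (Nat.add (nib c 6) (Nat.add (nib c 8) (nib c 10)))))) 2

theorem mem_centralizer_alP {σ : Perm (Fin 12)} :
    σ ∈ Subgroup.centralizer ({alP} : Set (Perm (Fin 12))) ↔ σ * alP = alP * σ := by
  rw [Subgroup.mem_centralizer_singleton_iff]

theorem val_alP (i : Fin 12) : (alP i : ℕ) = if (i : ℕ) % 2 = 0 then (i : ℕ) + 1 else (i : ℕ) - 1 := by
  revert i; decide +kernel

/-- The sign of an element commuting with the involution counts the exchanged pairs. -/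
theorem sign_eq_one_iff {σ : Perm (Fin 12)} (h : σ * alP = alP * σ) :
    Perm.sign σ = 1 ↔ flipC (enc σ) = 0 := by
  obtain ⟨e, he⟩ : ∃ e : Fin 6 × Fin 2 ≃ Fin 12, ∀ a b, (e (a, b) : ℕ) = b + 2 * a :=
    ⟨⟨fun x => ⟨(x.2 : ℕ) + 2 * x.1, by omega⟩,
      fun y => (⟨(y : ℕ) / 2, by omega⟩, ⟨(y : ℕ) % 2, by omega⟩),
      fun x => Prod.ext (Fin.ext (by simp only; omega)) (Fin.ext (by simp only; omega)),
      fun y => Fin.ext (by simp only; omega)⟩, fun _ _ => rfl⟩
  have hcomm : ∀ x, ((σ (alP x)) : ℕ) = (alP (σ x) : ℕ) := fun x =>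
    congrArg Fin.val (DFunLike.congr_fun h x)
  let f : Fin 6 → Fin 6 := fun a => ⟨(σ (e (a, 0)) : ℕ) / 2, by omega⟩
  let fl : Fin 6 → Fin 2 := fun a => ⟨(σ (e (a, 0)) : ℕ) % 2, by omega⟩
  have hone : ∀ a, alP (e (a, 0)) = e (a, 1) := fun a => Fin.ext (by
    rw [val_alP, he, he]; simp only [Fin.val_zero, Fin.val_one]; split_ifs <;> omega)
  have hσ0 : ∀ a, σ (e (a, 0)) = e (f a, fl a) := fun a => Fin.ext (by
    rw [he]; simp only [f, fl]; omega)
  have hσ : ∀ a b, σ (e (a, b)) = e (f a, fl a + b) := by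
    intro a b
    fin_cases b
    · simpa using hσ0 a
    · show σ (e (a, 1)) = e (f a, fl a + 1)
      rw [← hone]
      refine Fin.ext ?_
      rw [hcomm, hσ0, val_alP, he, he]
      generalize fl a = v
      fin_cases v <;> simp <;> omega
  have hinj : Function.Injective f := by
    intro a a' haa
    have h1 : σ (e (a, fl a)) = σ (e (a', fl a')) := by
      rw [hσ, hσ, haa]; congr 2; generalize fl a = v; generalize fl a' = w
      revert v w; decide
    exact (Prod.ext_iff.1 (e.injective (σ.injective h1))).1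
  let π : Perm (Fin 6) := Equiv.ofBijective f ⟨hinj, Finite.surjective_of_injective hinj⟩
  let g : Fin 6 → Perm (Fin 2) := fun a => if fl a = 0 then 1 else Equiv.swap 0 1
  have hfac : σ = e.permCongr
      (Equiv.prodCongrLeft (fun _ : Fin 2 => π) * Equiv.prodCongrRight g) := by
    refine Equiv.ext fun x => ?_
    obtain ⟨⟨a, b⟩, rfl⟩ := e.surjective x
    rw [hσ, Equiv.permCongr_apply, Equiv.symm_apply_apply]
    refine congrArg e (Prod.ext rfl ?_)
    show fl a + b = g a b
    simp only [g]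
    generalize fl a = v
    fin_cases v <;> fin_cases b <;> rfl
  have hsign : ∀ a, Perm.sign (g a) = (-1) ^ (fl a : ℕ) := fun a => by
    simp only [g]
    generalize fl a = v
    fin_cases v <;> simp
  have hsq : (Perm.sign π) ^ (Fintype.card (Fin 2)) = 1 := by
    rw [Fintype.card_fin]; exact Int.units_sq _
  rw [hfac, Perm.sign_permCongr, map_mul, Perm.sign_prodCongrLeft, Perm.sign_prodCongrRight,
    Finset.prod_const, Finset.card_univ, hsq, one_mul, Finset.prod_congr rfl fun a _ => hsign a,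
    Finset.prod_pow_eq_pow_sum, neg_one_pow_eq_one_iff_even (by decide), ← hfac]
  have hn : ∀ a : Fin 6, (fl a : ℕ) = nib (enc σ) (2 * a) % 2 := fun a => by
    have := nib_enc σ (e (a, 0))
    rw [he] at this
    simp only [Fin.val_zero, zero_add] at this
    rw [this]
  rw [Fin.sum_univ_six]
  simp only [hn, flipC, Nat.add_eq]
  rw [Nat.even_iff]
  show _ ↔ Nat.mod _ 2 = 0
  simp only [Fin.val_zero, Fin.val_one, Fin.coe_ofNat_eq_mod] 
  norm_num
  show _ ↔ _ % 2 = 0
  omega

/-- The code is a code of an element of the centraliser. -/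
def okC (c : ℕ) : Bool :=
  (List.range 12).all (fun i => Nat.blt (nib c i) 12) &&
    ((List.range 12).map (nib c)).Nodup &&
    Nat.beq (mulP c alC) (mulP alC c) && Nat.beq (flipC c) 0 &&
    Nat.beq (pack (nib c)) c

theorem okC_enc {σ : Perm (Fin 12)} (hσ : σ ∈ Cen) : okC (enc σ) = true := by
  have hs : Perm.sign σ = 1 := hσ.1
  have hc : σ * alP = alP * σ := mem_centralizer_alP.1 hσ.2
  have hnib : ∀ i (hi : i < 12), nib (enc σ) i = σ ⟨i, hi⟩ := fun i hi => nib_enc σ ⟨i, hi⟩
  simp only [okC, Bool.and_eq_true, List.all_eq_true, List.mem_range, decide_eq_true_iff,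
    Nat.beq_eq]
  refine ⟨⟨⟨⟨fun i hi => ?_, ?_⟩, ?_⟩, (sign_eq_one_iff hc).1 hs⟩, ?_⟩
  · rw [hnib i hi, Nat.blt_eq]; exact (σ ⟨i, hi⟩).2
  · refine List.Nodup.map_on (fun i hi j hj h => ?_) List.nodup_range
    rw [hnib i (List.mem_range.1 hi), hnib j (List.mem_range.1 hj)] at h
    exact congrArg Fin.val (σ.injective (Fin.ext h))
  · rw [← enc_alP, ← enc_mul, ← enc_mul, hc]
  · refine pack_congr fun i hi => ?_
    rw [hnib i hi, dif_pos hi]

theorem exists_perm {c : ℕ} (hc : okC c = true) : ∃ σ ∈ Cen, enc σ = c := by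
  simp only [okC, Bool.and_eq_true, List.all_eq_true, List.mem_range, decide_eq_true_iff,
    Nat.beq_eq, Nat.blt_eq] at hc
  obtain ⟨⟨⟨⟨hlt, hnd⟩, hcomm⟩, hflip⟩, hpack⟩ := hc
  let f : Fin 12 → Fin 12 := fun i => ⟨nib c i, hlt i i.2⟩
  have hf : Function.Injective f := fun i j h =>
    Fin.ext (List.inj_on_of_nodup_map hnd (List.mem_range.2 i.2) (List.mem_range.2 j.2)
      (congrArg Fin.val h))
  let σ : Perm (Fin 12) := Equiv.ofBijective f ⟨hf, Finite.surjective_of_injective hf⟩
  have he : enc σ = c := by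
    conv_rhs => rw [← hpack]
    exact pack_congr fun i hi => by rw [dif_pos hi]; rfl
  have hcc : σ * alP = alP * σ := enc_injective (by
    rw [enc_mul σ alP, enc_mul alP σ, he, enc_alP, hcomm])
  refine ⟨σ, ⟨?_, mem_centralizer_alP.2 hcc⟩, he⟩
  exact (sign_eq_one_iff hcc).2 (by rw [he, hflip])

theorem okC_iff {c : ℕ} : okC c = true ↔ ∃ σ ∈ Cen, enc σ = c :=
  ⟨exists_perm, fun ⟨_, hσ, h⟩ => h ▸ okC_enc hσ⟩

theorem okC_mulP {a b : ℕ} (ha : okC a = true) (hb : okC b = true) :
    okC (mulP a b) = true := by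
  obtain ⟨σ, hσ, rfl⟩ := exists_perm ha
  obtain ⟨τ, hτ, rfl⟩ := exists_perm hb
  rw [← enc_mul]
  exact okC_enc (mul_mem hσ hτ)

/-- Whether the image `j` may follow the first `k` chosen pairs. -/
def freshP : ℕ → ℕ → ℕ → Bool
  | 0, _, _ => true
  | k + 1, c, j => !(Nat.beq (Nat.div (nib c (2 * k)) 2) (Nat.div j 2)) && freshP k c j

/-- Whether `leaf` holds at all completions of the partial code `c`, except those pruned. -/
def scan (prune : ℕ → ℕ → Bool) (leaf : ℕ → Bool) : ℕ → ℕ → ℕ → Bool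
  | 0, k, c => prune k c || !(Nat.beq (flipC c) 0) || leaf c
  | r + 1, k, c => prune k c || (List.range 12).all fun j => !(freshP k c j) ||
      scan prune leaf r (Nat.add k 1)
        (Nat.add c (Nat.mul (Nat.add j (Nat.mul 16 (Nat.xor j 1))) (Nat.pow 256 k)))

theorem freshP_true {c j : ℕ} :
    ∀ k, (∀ i < k, nib c (2 * i) / 2 ≠ j / 2) → freshP k c j = true
  | 0, _ => rfl
  | k + 1, h => by
    simp only [freshP, Bool.and_eq_true, Bool.not_eq_true']
    refine ⟨?_, freshP_true k fun i hi => h i (by omega)⟩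
    rw [← Bool.not_eq_true, Nat.beq_eq]
    exact h k (by omega)

/-- The image of `i`, as a number. -/
def img (σ : Perm (Fin 12)) (i : ℕ) : ℕ := if h : i < 12 then (σ ⟨i, h⟩ : ℕ) else 0

/-- The code of the first `k` pairs of a permutation. -/
def preC (σ : Perm (Fin 12)) (k : ℕ) : ℕ := pack fun i => if i < 2 * k then img σ i else 0

theorem img_lt (σ : Perm (Fin 12)) (i : ℕ) : img σ i < 12 := by
  unfold img; split <;> omega

theorem nib_preC (σ : Perm (Fin 12)) {k i : ℕ} (hi : i < 12) :
    nib (preC σ k) i = if i < 2 * k then img σ i else 0 := by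
  unfold preC
  rw [nib_pack _ _ hi]
  intro j _
  split <;> first | exact (img_lt σ j).trans (by norm_num) | norm_num

theorem preC_six (σ : Perm (Fin 12)) : preC σ 6 = enc σ :=
  pack_congr fun i hi => by rw [if_pos hi, img]

theorem preC_zero (σ : Perm (Fin 12)) : preC σ 0 = 0 :=
  (pack_congr (g := fun _ => 0) fun i _ => by rw [if_neg (by omega)]).trans rfl

theorem img_succ {σ : Perm (Fin 12)} (hc : σ * alP = alP * σ) {k : ℕ} (hk : k < 6) :
    img σ (2 * k + 1) = Nat.xor (img σ (2 * k)) 1 := by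
  simp only [img, dif_pos (show 2 * k + 1 < 12 by omega), dif_pos (show 2 * k < 12 by omega)]
  have hal : alP (⟨2 * k, by omega⟩ : Fin 12) = ⟨2 * k + 1, by omega⟩ := Fin.ext (by
    rw [val_alP]; simp)
  rw [← hal]
  have := congrArg Fin.val (DFunLike.congr_fun hc (⟨2 * k, by omega⟩ : Fin 12))
  simp only [Perm.mul_apply] at this
  rw [this]
  generalize σ ⟨2 * k, _⟩ = y
  revert y; decide +kernel

theorem fresh_preC {σ : Perm (Fin 12)} (hc : σ * alP = alP * σ) {k : ℕ} (hk : k < 6) :
    freshP k (preC σ k) (img σ (2 * k)) = true := by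
  refine freshP_true k fun i hi heq => ?_
  rw [nib_preC σ (by omega), if_pos (by omega)] at heq
  have inj : ∀ a b, a < 12 → b < 12 → img σ a = img σ b → a = b := fun a b ha hb h => by
    simp only [img, dif_pos ha, dif_pos hb] at h
    exact congrArg Fin.val (σ.injective (Fin.ext h))
  by_cases h2 : img σ (2 * k) = img σ (2 * i)
  · have := inj _ _ (by omega) (by omega) h2; omega
  · have h3 : Nat.xor (img σ (2 * i)) 1 = img σ (2 * k) := by
      have h1 := img_lt σ (2 * i)
      have h4 := img_lt σ (2 * k)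
      revert h1 h4 heq h2
      generalize img σ (2 * k) = y
      generalize img σ (2 * i) = z
      intro heq h2 h1 h4
      have : ∀ z < 12, ∀ y < 12, z / 2 = y / 2 → ¬ y = z → Nat.xor z 1 = y := by decide +kernel
      exact this z h1 y h4 heq h2
    rw [← img_succ hc (by omega : i < 6)] at h3
    have := inj _ _ (by omega) (by omega) h3; omega

theorem preC_succ {σ : Perm (Fin 12)} (hc : σ * alP = alP * σ) {k : ℕ} (hk : k < 6) :
    Nat.add (preC σ k) (Nat.mul (Nat.add (img σ (2 * k)) (Nat.mul 16 (Nat.xor (img σ (2 * k)) 1)))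
      (Nat.pow 256 k)) = preC σ (k + 1) := by
  simp only [Nat.add_eq, Nat.mul_eq]
  rw [← img_succ hc hk]
  interval_cases k <;>
    (unfold preC pack
     simp only [Nat.reduceMul, Nat.reduceAdd, Nat.reduceLT, if_true, if_false, Nat.pow_eq,
       Nat.reducePow, mul_zero, add_zero, zero_add]
     ring)

theorem scan_sound {σ : Perm (Fin 12)} (hσ : σ ∈ Cen) {prune : ℕ → ℕ → Bool} {leaf : ℕ → Bool}
    (hp : ∀ k ≤ 6, prune k (preC σ k) = false) (h : scan prune leaf 6 0 0 = true) :
    leaf (enc σ) = true := by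
  have hc : σ * alP = alP * σ := mem_centralizer_alP.1 hσ.2
  suffices ∀ r k, k + r = 6 → scan prune leaf r k (preC σ k) = true → leaf (enc σ) = true from
    this 6 0 rfl (by rw [preC_zero]; exact h)
  intro r
  induction r with
  | zero =>
    intro k hk hs
    obtain rfl : k = 6 := by omega
    simp only [scan, hp 6 le_rfl, Bool.false_or, Bool.or_eq_true] at hs
    rw [preC_six] at hs
    rcases hs with hs | hs
    · rw [(sign_eq_one_iff hc).1 hσ.1] at hs; simp at hs
    · exact hs
  | succ r ih =>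
    intro k hk hs
    simp only [scan, hp k (by omega), Bool.false_or, List.all_eq_true, List.mem_range] at hs
    have hs' := hs _ (img_lt σ (2 * k))
    rw [fresh_preC hc (by omega)] at hs'
    simp only [Bool.not_true, Bool.false_or] at hs'
    rw [preC_succ hc (by omega : k < 6)] at hs'
    exact ih (k + 1) (by omega) hs'

/-- Pruning by a test on the places filled so far. -/
def pruneBy (test : ℕ → ℕ → ℕ → Bool) (k c : ℕ) : Bool :=
  (List.range (2 * k)).any (test k c)

theorem pruneBy_false {test : ℕ → ℕ → ℕ → Bool} {k c : ℕ}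
    (h : ∀ i < 2 * k, test k c i = false) : pruneBy test k c = false :=
  List.any_eq_false.2 fun i hi => by simp [h i (List.mem_range.1 hi)]

/-- Whether the place `i` shows that the code is not an involution. -/
def notInvAt (k c i : ℕ) : Bool :=
  Nat.blt (nib c i) (2 * k) && !(Nat.beq (nib c (nib c i)) i)

/-- Whether the place `i` shows that the code does not commute with `a`. -/
def notCommAt (a k c i : ℕ) : Bool :=
  Nat.blt (nib a i) (2 * k) && !(Nat.beq (nib c (nib a i)) (nib a (nib c i)))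

theorem notInvAt_false {σ : Perm (Fin 12)} (h : σ * σ = 1) {k i : ℕ} (hk : k ≤ 6)
    (hi : i < 2 * k) : notInvAt k (preC σ k) i = false := by
  unfold notInvAt
  rw [nib_preC σ (by omega : i < 12), if_pos hi]
  by_cases hb : img σ i < 2 * k
  · rw [nib_preC σ (img_lt σ i), if_pos hb]
    have : img σ (img σ i) = i := by
      simp only [img, dif_pos (show i < 12 by omega), Fin.is_lt, dite_true, Fin.eta]
      exact congrArg Fin.val (DFunLike.congr_fun h (⟨i, by omega⟩ : Fin 12))
    simp [this]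
  · simp [Nat.blt_eq, hb]

theorem notCommAt_false {σ a : Perm (Fin 12)} (h : σ * a = a * σ) {k i : ℕ} (hk : k ≤ 6)
    (hi : i < 2 * k) : notCommAt (enc a) k (preC σ k) i = false := by
  unfold notCommAt
  have ha : nib (enc a) i = (a ⟨i, by omega⟩ : ℕ) := nib_enc a ⟨i, by omega⟩
  rw [ha, nib_preC σ (by omega : i < 12), if_pos hi]
  by_cases hb : (a ⟨i, by omega⟩ : ℕ) < 2 * k
  · rw [nib_preC σ (Fin.is_lt _), if_pos hb]
    have : img σ (a ⟨i, by omega⟩ : ℕ) = nib (enc a) (img σ i) := by
      simp only [img, dif_pos (show i < 12 by omega), Fin.is_lt, dite_true, Fin.eta]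
      rw [nib_enc]
      exact congrArg Fin.val (DFunLike.congr_fun h (⟨i, by omega⟩ : Fin 12))
    simp [this]
  · simp [Nat.blt_eq, hb]

end CfsgLib.AltTwelveCentraliser
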