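import Cfsg.Agent.AltTwelveCentraliser.Good

/-!
A subgroup containing `C(z)` in which the conjugates of `z` in the subgroup of order 64 are already
conjugate controls the conjugates of `z`; if it contains the centralisers of all the involutions
of that subgroup it is the whole group.
-/

set_option autoImplicit false

namespace CfsgLib.AltTwelveCentraliser

attribute [local irreducible] mulP pack nib okC enc

variable {G : Type*} [Group G] [Finite G] {z : G}

namespace Frame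

variable (F : Frame z) (S : Sylow 2 G) (hS : (S : Subgroup G) ≤ Subgroup.centralizer ({z} : Set G))

include S hS in
/-- An involution of a subgroup containing `C(z)` is conjugate there into the subgroup of order 64. -/
theorem exists_conj_mem {X : Subgroup G} (hle : Subgroup.centralizer ({z} : Set G) ≤ X) {y : G}
    (hy : y ∈ X) (hy2 : y * y = 1) : ∃ x ∈ X, x * y * x⁻¹ ∈ F.elA := by
  obtain ⟨P, hP⟩ := F.exists_sylow_eq S hS
  have hPX : (P : Subgroup G) ≤ X := hP ▸ F.sylS_le.trans hle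
  have hp : IsPGroup 2 (Subgroup.zpowers (⟨y, hy⟩ : X)) := by
    refine IsPGroup.iff_orderOf.2 fun ⟨x, hx⟩ => ?_
    obtain ⟨k, rfl⟩ := Subgroup.mem_zpowers_iff.1 hx
    rw [Subgroup.orderOf_mk]
    have h2 : ((⟨y, hy⟩ : X) ^ k) ^ 2 = 1 := by
      rw [← zpow_natCast, ← zpow_mul, mul_comm, zpow_mul, zpow_natCast, pow_two,
        show (⟨y, hy⟩ : X) * ⟨y, hy⟩ = 1 from Subtype.ext hy2, one_zpow]
    rcases (Nat.dvd_prime Nat.prime_two).1 (orderOf_dvd_of_pow_eq_one h2) with h | h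
    · exact ⟨0, h⟩
    · exact ⟨1, h⟩
  obtain ⟨Q, hQ⟩ := hp.exists_le_sylow
  obtain ⟨x, hx⟩ := MulAction.exists_smul_eq X Q (P.subtype hPX)
  have hm : (x : G) * y * (x : G)⁻¹ ∈ F.sylS := by
    have h : x * (⟨y, hy⟩ : X) * x⁻¹ ∈ ((P.subtype hPX : Sylow 2 X) : Subgroup X) := by
      rw [← hx]
      exact ⟨_, hQ (Subgroup.mem_zpowers _), rfl⟩
    rw [← hP]
    exact h
  obtain ⟨h, hh, hh'⟩ := F.exists_conj_elA (F.sylS_le hm)
    (by rw [conj_mul, hy2]; group)
  exact ⟨h * x, mul_mem (hle hh) x.2, by simpa [mul_assoc] using hh'⟩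

include S hS in
theorem isControl_of_marks {X : Subgroup G} (hle : Subgroup.centralizer ({z} : Set G) ≤ X) {m : ℕ}
    (hm : F.Marks m) (hX : ∀ i < 64, bitOn m i = true → ∃ y ∈ X, y * z * y⁻¹ = F.a i) :
    F.IsControl X := by
  refine ⟨hle, fun g hg => ?_⟩
  obtain ⟨x, hx, i, hi, he⟩ := F.exists_conj_mem S hS hle hg
    (by rw [conj_mul, F.z_sq]; group)
  obtain ⟨y, hy, hye⟩ := hX i hi ((hm i hi).2 (isConj_iff.2 ⟨x * g, by rw [he]; group⟩))
  have hc : y⁻¹ * x * g ∈ Subgroup.centralizer ({z} : Set G) := by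
    rw [Subgroup.mem_centralizer_singleton_iff, ← mul_inv_eq_iff_eq_mul,
      show y⁻¹ * x * g * z * (y⁻¹ * x * g)⁻¹ = y⁻¹ * (x * (g * z * g⁻¹) * x⁻¹) * y by group,
      ← he, ← hye]
    group
  have h : x⁻¹ * y * (y⁻¹ * x * g) ∈ X := mul_mem (mul_mem (inv_mem hx) hy) (hle hc)
  rwa [show x⁻¹ * y * (y⁻¹ * x * g) = g by group] at h

variable {F}

theorem IsControl.centralizer_le {X : Subgroup G} (hX : F.IsControl X) {u : G} (hu : u ∈ X)
    (h : IsConj z u) : Subgroup.centralizer ({u} : Set G) ≤ X := by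
  obtain ⟨g, rfl⟩ := isConj_iff.1 h
  have hg := hX.key g hu
  intro k hk
  rw [Subgroup.mem_centralizer_singleton_iff] at hk
  have hc : g⁻¹ * k * g ∈ Subgroup.centralizer ({z} : Set G) := by
    rw [Subgroup.mem_centralizer_singleton_iff,
      show g⁻¹ * k * g * z = g⁻¹ * (k * (g * z * g⁻¹)) * g by group, hk]
    group
  have h : g * (g⁻¹ * k * g) * g⁻¹ ∈ X := mul_mem (mul_mem hg (hX.le hc)) (inv_mem hg)
  rwa [show g * (g⁻¹ * k * g) * g⁻¹ = k by group] at h

theorem centralizer_conj_le {X : Subgroup G} {u x : G} (hx : x ∈ X)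
    (h : Subgroup.centralizer ({u} : Set G) ≤ X) :
    Subgroup.centralizer ({x * u * x⁻¹} : Set G) ≤ X := by
  intro k hk
  rw [Subgroup.mem_centralizer_singleton_iff] at hk
  have hc : x⁻¹ * k * x ∈ X := h (by
    rw [Subgroup.mem_centralizer_singleton_iff,
      show x⁻¹ * k * x * u = x⁻¹ * (k * (x * u * x⁻¹)) * x by group, hk]
    group)
  have h' : x * (x⁻¹ * k * x) * x⁻¹ ∈ X := mul_mem (mul_mem hx hc) (inv_mem hx)
  rwa [show x * (x⁻¹ * k * x) * x⁻¹ = k by group] at h'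

include S hS in
/-- If `X` contains the centralisers of all the involutions of the subgroup, it is everything. -/
theorem IsControl.eq_top {X : Subgroup G} (hX : F.IsControl X)
    (hall : ∀ i < 64, i ≠ 0 → Subgroup.centralizer ({F.a i} : Set G) ≤ X) {j : ℕ} (hj : j < 64)
    (hj0 : j ≠ 0) (hjm : ¬ IsConj z (F.a j)) : X = ⊤ := by
  have hinv : ∀ w ∈ X, w * w = 1 → w ≠ 1 → Subgroup.centralizer ({w} : Set G) ≤ X := by
    intro w hw hw2 hw1
    obtain ⟨x, hx, i, hi, he⟩ := F.exists_conj_mem S hS hX.le hw hw2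
    have hi0 : i ≠ 0 := fun h => hw1 (by
      rw [h, F.a_zero] at he
      exact conj_eq_one_iff.1 he.symm)
    have := centralizer_conj_le (inv_mem hx) (hall i hi hi0)
    rwa [show x⁻¹ * F.a i * x⁻¹⁻¹ = w by rw [he]; group] at this
  refine eq_top_iff.2 fun g _ => ?_
  by_contra hg
  obtain ⟨v, hv⟩ : ∃ v, v = g * z * g⁻¹ := ⟨_, rfl⟩
  have hvX : v ∉ X := fun h => hg (hX.key g (hv ▸ h))
  have hv2 : v * v = 1 := by rw [hv, conj_mul, F.z_sq]; group
  have hwX : F.a j ∈ X := hX.le (F.elA_le ⟨j, hj, rfl⟩)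
  rcases dihedral_cases (F.a_sq hj) hv2 with ⟨t, ht⟩ | ⟨u, hu1, hu2, huw, huv, -, -⟩
  · refine hjm (IsConj.trans (b := v) (isConj_iff.2 ⟨g, hv.symm⟩) (IsConj.symm ?_))
    exact isConj_iff.2 ⟨_, ht⟩
  · have huX : u ∈ X := hinv _ hwX (F.a_sq hj) (fun h => hj0 (F.a_inj hj (by norm_num)
      (h.trans F.a_zero.symm))) (Subgroup.mem_centralizer_singleton_iff.2 huw)
    exact hvX (hinv u huX hu2 hu1 (Subgroup.mem_centralizer_singleton_iff.2 huv.symm))

/-- Conjugation by the listed elements of the normaliser takes `r` to `i`. -/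
def normConj (r i : ℕ) : Bool :=
  normList.any fun g => Nat.beq (mulP (mulP g.1 (aC r)) g.2) (aC i)

/-- Up to the normaliser of the subgroup, every index is marked or one of the representatives. -/
def covers (lab : ℕ → ℕ) (m : ℕ) (reps : List ℕ) (i : ℕ) : Bool :=
  Nat.beq (lab (aC i)) 0 || (List.range 64).any fun w => bitOn m w &&
    (List.range 64).all fun j => !(Nat.beq (lab (aC j)) (lab (aC i))) ||
      !(Nat.beq (lab (aC (Nat.xor j 21))) (lab (aC (Nat.xor i w)))) ||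
      reps.any fun r => normConj r j

theorem centralizer_a_le_of_covers {X : Subgroup G} (hX : F.IsControl X) {lab : ℕ → ℕ}
    (hlab : F.IsLabel lab) {m : ℕ} (hm : F.Marks m) {reps : List ℕ}
    (hreps : ∀ r ∈ reps, r < 64 ∧ Subgroup.centralizer ({F.a r} : Set G) ≤ X)
    (S : Sylow 2 G) (hS : (S : Subgroup G) ≤ Subgroup.centralizer ({z} : Set G))
    {i : ℕ} (hi : i < 64) (hcov : covers lab m reps i = true) :
    Subgroup.centralizer ({F.a i} : Set G) ≤ X := by
  have haX : ∀ k < 64, F.a k ∈ X := fun k hk => hX.le (F.elA_le ⟨k, hk, rfl⟩)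
  have hsq : ∀ k < 64, okC (aC k) = true ∧ mulP (aC k) (aC k) = oneC := fun k hk =>
    ⟨okC_aC hk, by rw [mulP_aC hk hk, show Nat.xor k k = 0 from Nat.xor_self k, aC_zero]⟩
  simp only [covers, Bool.or_eq_true, Nat.beq_eq, List.any_eq_true, Bool.and_eq_true,
    List.mem_range, List.all_eq_true, Bool.not_eq_true'] at hcov
  rcases hcov with h0 | ⟨w, hw, hwm, hcov⟩
  · exact hX.centralizer_le (haX i hi) (hlab.zero _ (hsq i hi).1 (hsq i hi).2 h0)
  obtain ⟨n, hn, hne⟩ := F.exists_normalising S hS ⟨w, hw, rfl⟩ F.z_mem_elA ((hm w hw).1 hwm).symm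
  have hnX : n⁻¹ ∈ X := hX.key n⁻¹ (by
    rw [show n⁻¹ * z * n⁻¹⁻¹ = F.a w from (congrArg (fun y => n⁻¹ * y * n⁻¹⁻¹) hne).symm.trans (by group)]
    exact haX w hw)
  obtain ⟨σ, hσ, hlin⟩ := F.exists_index_perm hn
  have hσw : σ ⟨w, hw⟩ = ⟨21, by norm_num⟩ :=
    Fin.ext (F.a_inj (Fin.is_lt _) (by norm_num) (by rw [hσ]; exact hne.trans F.a_alI.symm))
  obtain ⟨j, hj⟩ : ∃ j : Fin 64, σ ⟨i, hi⟩ = j := ⟨_, rfl⟩
  have hl : ∀ k : Fin 64, lab (aC (σ k)) = lab (aC k) := fun k =>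
    (hlab.conj _ _ (hsq k k.2).1 (hsq k k.2).2 (hsq _ (σ k).2).1 (hsq _ (σ k).2).2
      (isConj_iff.2 ⟨n, (hσ k).symm⟩)).symm
  have h1 := hl ⟨i, hi⟩
  have h2 := hl ⟨Nat.xor i w, xor_lt hi hw⟩
  have h3 := hlin ⟨i, hi⟩ ⟨w, hw⟩
  rw [hj, hσw] at h3
  rw [hj] at h1
  rw [h3] at h2
  rcases hcov j j.2 with (h | h) | ⟨r, hr, hrj⟩
  · rw [← Bool.not_eq_true, Nat.beq_eq] at h; exact absurd h1 h
  · rw [← Bool.not_eq_true, Nat.beq_eq] at h; exact absurd h2 h
  obtain ⟨hr64, hrX⟩ := hreps r hr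
  obtain ⟨g, hg⟩ : ∃ g ∈ Subgroup.centralizer ({z} : Set G), g * F.a r * g⁻¹ = F.a j := by
    obtain ⟨g, hg, he⟩ := List.any_eq_true.1 hrj
    have ho := List.all_eq_true.1 normList_ok g hg
    simp only [Bool.and_eq_true, Nat.beq_eq] at ho
    exact ⟨F.el g.1, F.el_mem _, by
      rw [a, a, ← Nat.beq_eq.mp he, F.el_conj ho.1.1.1 ho.1.1.2 (okC_aC hr64) ho.1.2]⟩
  have hai : n⁻¹ * g * F.a r * (n⁻¹ * g)⁻¹ = F.a i := by
    rw [show n⁻¹ * g * F.a r * (n⁻¹ * g)⁻¹ = n⁻¹ * (g * F.a r * g⁻¹) * n by group, hg.2,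
      show F.a (j : ℕ) = n * F.a i * n⁻¹ by rw [← hj, hσ]]
    group
  exact hai ▸ centralizer_conj_le (mul_mem hnX (hX.le hg.1)) hrX

/-- The start of the criterion. -/
def goodStart (lab : ℕ → ℕ) (base : List ℕ → Bool) (r : ℕ) : Bool :=
  goodB lab base 8 [oneC, aC r] (invList.filter fun c => commC c (aC r))

theorem centralizer_le_of_goodStart {X : Subgroup G} (hX : F.IsControl X) {lab : ℕ → ℕ}
    (hlab : F.IsLabel lab) {base : List ℕ → Bool}
    (hbase : ∀ bs : List ℕ, F.IsElem bs → base bs = true →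
      ∀ k : G, (∀ b ∈ bs, k * F.el b = F.el b * k) → k ∈ X)
    {r : ℕ} (hr : r < 64) (h : goodStart lab base r = true) :
    Subgroup.centralizer ({F.a r} : Set G) ≤ X := by
  have hsq : okC (aC r) = true ∧ mulP (aC r) (aC r) = oneC :=
    ⟨okC_aC hr, by rw [mulP_aC hr hr, show Nat.xor r r = 0 from Nat.xor_self r, aC_zero]⟩
  have h11 : okC oneC = true ∧ mulP oneC oneC = oneC :=
    ⟨okC_oneC, F.el_inj (okC_mulP okC_oneC okC_oneC) okC_oneC
      (by rw [F.el_mul okC_oneC okC_oneC, F.el_oneC, one_mul])⟩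
  have hm1 : mulP oneC (aC r) = aC r := F.el_inj (okC_mulP okC_oneC hsq.1) hsq.1
    (by rw [F.el_mul okC_oneC hsq.1, F.el_oneC, one_mul])
  have hm2 : mulP (aC r) oneC = aC r := F.el_inj (okC_mulP hsq.1 okC_oneC) hsq.1
    (by rw [F.el_mul hsq.1 okC_oneC, F.el_oneC, mul_one])
  have hB : F.IsElem [oneC, aC r] := by
    refine ⟨List.mem_cons_self, fun b hb => ?_, fun a ha b hb => ?_, fun a ha b hb => ?_⟩
    · rcases List.mem_pair.1 hb with rfl | rfl
      · exact h11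
      · exact hsq
    · rcases List.mem_pair.1 ha with rfl | rfl <;> rcases List.mem_pair.1 hb with rfl | rfl
      · rw [h11.2]; exact List.mem_cons_self
      · rw [hm1]; simp
      · rw [hm2]; simp
      · rw [hsq.2]; exact List.mem_cons_self
    · rcases List.mem_pair.1 ha with rfl | rfl <;> rcases List.mem_pair.1 hb with rfl | rfl <;>
        first | rfl | (rw [F.el_oneC, one_mul, mul_one])
  intro k hk
  rw [Subgroup.mem_centralizer_singleton_iff] at hk
  refine goodB_sound hX hlab hbase 8 _ _ h hB ?_ ?_ k fun b hb => ?_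
  · intro c hc
    rw [List.mem_filter] at hc
    have hco := List.all_eq_true.1 invList_ok c hc.1
    simp only [Bool.and_eq_true, Nat.beq_eq] at hco
    refine ⟨hco.1, fun b hb => ?_⟩
    rcases List.mem_pair.1 hb with rfl | rfl
    · rw [F.el_oneC, one_mul, mul_one]
    · exact (F.el_comm_iff hco.1.1 hsq.1).1 hc.2
  · intro c hc hcall
    have hco := List.all_eq_true.1 invList_ok c hc
    simp only [Bool.and_eq_true] at hco
    exact List.mem_filter.2 ⟨hc, (F.el_comm_iff hco.1.1 hsq.1).2 (hcall _ (by simp))⟩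
  · rcases List.mem_pair.1 hb with rfl | rfl
    · rw [F.el_oneC, one_mul, mul_one]
    · exact hk

end Frame

end CfsgLib.AltTwelveCentraliser
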