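import Cfsg.Agent.CosetEnum.Hom
import Cfsg.Agent.CosetEnum.WE7.Setup

/-!
Homomorphisms from the Coxeter group of type E7 into a group in any universe.
-/

set_option autoImplicit false

namespace CfsgLib.AltTwelveCentraliser

open CfsgLib.CosetEnum Cfsg.Spor

universe u

theorem exists_hom_we7 {K : Type u} [Group K] (f : ℕ → K) (hsq : ∀ x, x < 7 → f x * f x = 1)
    (hw : ∀ w ∈ WE7.words, (w.map f).prod = 1) :
    ∃ χ : WE7.setup.Grp →* K, ∀ x, x < 7 → χ (WE7.setup.g x) = f x := by
  let g : WE7.Gen → K := fun a => f (WE7.ix a)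
  have hix : ∀ a, WE7.ix a < 7 := fun a => WE7.setup.ix_lt a
  have hg : ∀ a, g a * g a = 1 := fun a => hsq _ (hix a)
  have hrep : ∀ (l : List ℕ) (n : ℕ),
      ((List.replicate n l).flatten.map f).prod = (l.map f).prod ^ n := by
    intro l n
    induction n with
    | zero => simp
    | succ n ih =>
      rw [List.replicate_succ, List.flatten_cons, List.map_append, List.prod_append, ih, pow_succ']
  have hpair : ∀ a b, WE7.ix a ≤ WE7.ix b → (g a * g b) ^ coxLabel WE7.edges a b = 1 := by
    intro a b hab
    have h := hw ((List.replicate (coxLabel WE7.edges a b) [WE7.ix a, WE7.ix b]).flatten) (by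
      rw [show WE7.words = coxWords WE7.en 7 WE7.edges ++ [] from WE7.setup.words_eq,
        List.append_nil, mem_coxWords]
      exact ⟨WE7.ix a, WE7.ix b, hix a, hix b, hab, by
        rw [show WE7.en (WE7.ix a) = a from WE7.setup.en_ix a,
          show WE7.en (WE7.ix b) = b from WE7.setup.en_ix b]⟩)
    rw [hrep] at h
    simpa [g] using h
  have hrels : ∀ r ∈ coxRelators WE7.setup.edges ∪ {r | r ∈ WE7.setup.extra},
      FreeGroup.lift g r = 1 := by
    rintro r (⟨a, -, b, -, rfl⟩ | hr)
    · rw [map_pow, map_mul, FreeGroup.lift_apply_of, FreeGroup.lift_apply_of]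
      rcases le_total (WE7.ix a) (WE7.ix b) with h | h
      · exact hpair a b h
      · have := hpair b a h
        rw [coxLabel_symm] at this
        have h' : g a * g b = (g b * g a)⁻¹ := by
          rw [mul_inv_rev, inv_eq_of_mul_eq_one_right (hg a), inv_eq_of_mul_eq_one_right (hg b)]
        rw [h', inv_pow]
        exact inv_eq_one.2 this
    · exact absurd hr List.not_mem_nil
  refine ⟨PresentedGroup.toGroup hrels, fun x hx => ?_⟩
  rw [Setup.g, PresentedGroup.toGroup.of]
  show f (WE7.ix (WE7.en x)) = f x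
  rw [show WE7.ix (WE7.en x) = x from WE7.setup.ix_en x hx]

theorem hom_we7_prod {K : Type u} [Group K] (χ : WE7.setup.Grp →* K) {f : ℕ → K}
    (hχ : ∀ x, x < 7 → χ (WE7.setup.g x) = f x) (w : List ℕ) (hlt : ∀ x ∈ w, x < 7) :
    χ (prodw WE7.setup.g w) = (w.map f).prod := by
  simp only [prodw, map_list_prod, List.map_map]
  congr 1
  exact List.map_congr_left fun x hx => hχ x (hlt x hx)

end CfsgLib.AltTwelveCentraliser
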