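import Mathlib.Data.List.Basic

/-!
Data for the case of seven conjugates: the permutations of the seven marked indices
`[21, 2, 3, 8, 12, 32, 48]` induced from the centraliser, each with an element and its inverse,
the conjugates of the involution in the centraliser, and words in six transvections.
-/

set_option autoImplicit false

namespace CfsgLib.AltTwelveCentraliser

/-- The marked indices. -/
def sevenList : List ℕ := [21, 2, 3, 8, 12, 32, 48]

/-- The 24 permutations with elements inducing them. -/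
def stabList : List (List ℕ × ℕ × ℕ) :=
  [([0, 1, 2, 3, 4, 5, 6], 0xba9876543210, 0xba9876543210),
   ([0, 1, 2, 4, 3, 6, 5], 0xba9876453201, 0xba9876453201),
   ([0, 1, 2, 5, 6, 3, 4], 0xba9832107654, 0xba9832107654),
   ([0, 1, 2, 6, 5, 4, 3], 0xba9832017645, 0xba9832017645),
   ([0, 2, 1, 3, 4, 6, 5], 0xba8976543201, 0xba8976543201),
   ([0, 2, 1, 4, 3, 5, 6], 0xba8976453210, 0xba8976453210),
   ([0, 2, 1, 5, 6, 4, 3], 0xba8932107645, 0xba8932017654),
   ([0, 2, 1, 6, 5, 3, 4], 0xba8932017654, 0xba8932107645),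
   ([0, 3, 4, 1, 2, 5, 6], 0x7654ba983210, 0x7654ba983210),
   ([0, 3, 4, 2, 1, 6, 5], 0x7654ba893201, 0x7645ba983201),
   ([0, 3, 4, 5, 6, 1, 2], 0x76543210ba98, 0x3210ba987654),
   ([0, 3, 4, 6, 5, 2, 1], 0x76543201ba89, 0x3201ba987645),
   ([0, 4, 3, 1, 2, 6, 5], 0x7645ba983201, 0x7654ba893201),
   ([0, 4, 3, 2, 1, 5, 6], 0x7645ba893210, 0x7645ba893210),
   ([0, 4, 3, 5, 6, 2, 1], 0x76453210ba89, 0x3201ba897654),
   ([0, 4, 3, 6, 5, 1, 2], 0x76453201ba98, 0x3210ba897645),
   ([0, 5, 6, 1, 2, 3, 4], 0x3210ba987654, 0x76543210ba98),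
   ([0, 5, 6, 2, 1, 4, 3], 0x3210ba897645, 0x76453201ba98),
   ([0, 5, 6, 3, 4, 1, 2], 0x32107654ba98, 0x32107654ba98),
   ([0, 5, 6, 4, 3, 2, 1], 0x32107645ba89, 0x32017645ba98),
   ([0, 6, 5, 1, 2, 4, 3], 0x3201ba987645, 0x76543201ba89),
   ([0, 6, 5, 2, 1, 3, 4], 0x3201ba897654, 0x76453210ba89),
   ([0, 6, 5, 3, 4, 2, 1], 0x32017654ba89, 0x32017654ba89),
   ([0, 6, 5, 4, 3, 1, 2], 0x32017645ba98, 0x32107645ba89)]

/-- The possible exchanges of the first and the sixth index which lead to a generating set. -/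
def exchangeList : List (List ℕ) :=
  [[5, 1, 4, 3, 2, 0, 6], [5, 2, 3, 4, 1, 0, 6], [5, 3, 2, 1, 4, 0, 6], [5, 4, 1, 2, 3, 0, 6]]

/-- The conjugates of the involution in the centraliser, other than itself. -/
def dList : List ℕ :=
  [0x98ba76543210, 0x89ab76543210, 0xba7698543210, 0xba6789543210, 0x7698ba543210, 0x6798ab543210, 0xba9854763210,
   0xba9845673210, 0xba5476983210, 0xba4576893210, 0x549876ba3210, 0x459876ab3210, 0xba9876325410, 0xba9876234510,
   0xba9832547610, 0xba9823546710, 0xba3276549810, 0xba2376548910, 0x32987654ba10, 0x23987654ab10, 0xba9876541032,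
   0xba9876540123, 0xba9876103254, 0xba9876013245, 0xba9810543276, 0xba9801543267, 0xba1076543298, 0xba0176543289,
   0x1098765432ba, 0x198765432ab]

/-- The products of five elements exchanging two neighbouring pairs inside, by subsets. -/
def flipAll : List ℕ :=
  [0xba9876543210, 0xba9876542301, 0xba9876452310, 0xba9876453201, 0xba9867453210, 0xba9867452301, 0xba9867542310,
   0xba9867543201, 0xba8967543210, 0xba8967542301, 0xba8967452310, 0xba8967453201, 0xba8976453210, 0xba8976452301,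
   0xba8976542310, 0xba8976543201, 0xab8976543210, 0xab8976542301, 0xab8976452310, 0xab8976453201, 0xab8967453210,
   0xab8967452301, 0xab8967542310, 0xab8967543201, 0xab9867543210, 0xab9867542301, 0xab9867452310, 0xab9867453201,
   0xab9876453210, 0xab9876452301, 0xab9876542310, 0xab9876543201]

/-- The five elements as words in the six generators `0, 1, 2, 3, 4, 6`. -/
def flipWords : List (List ℕ) :=
  [[0, 1, 0, 2, 1, 3, 2, 4, 3, 6, 3, 2, 1, 0, 4, 3, 2, 1],
   [1, 2, 1, 3, 2, 4, 3, 6, 3, 2, 1, 4, 3, 2],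
   [2, 3, 2, 4, 3, 6, 3, 2, 4, 3],
   [3, 4, 3, 6, 3, 4],
   [4, 6]]

/-- The involution as a word. -/
def alWord : List ℕ := [0, 1, 0, 2, 1, 0, 3, 2, 1, 0, 4, 3, 2, 1, 0, 6, 3, 2, 1, 0, 4, 3, 2, 1, 6, 3, 2, 4, 3, 6]

/-- The vectors of the seven transvections. -/
def genVecs : List ℕ := [1, 8, 3, 16, 6, 32, 2]

end CfsgLib.AltTwelveCentraliser
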