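import Mathlib.Data.List.Basic

/-!
Each transvection of degree six over two elements as a word in seven of them.
-/

set_option autoImplicit false

namespace CfsgLib.AltTwelveCentraliser

/-- The words, by the centre, from 1 on. -/
def transvWords : List (List ℕ) :=
  [[0],
   [6],
   [2],
   [5, 4, 3, 6, 2, 3, 4, 1, 2, 3, 6, 5, 4, 3, 2, 1, 0, 1, 2, 3, 4, 5, 6, 3, 2, 1, 4, 3, 2, 6, 3, 4, 5],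
   [1, 2, 3, 6, 4, 3, 2, 1, 0, 1, 2, 3, 4, 6, 3, 2, 1],
   [4],
   [3, 6, 4, 3, 2, 3, 4, 6, 3],
   [1],
   [1, 0, 1],
   [2, 1, 0, 1, 2],
   [2, 1, 2],
   [2, 3, 6, 4, 3, 2, 1, 2, 3, 4, 6, 3, 2],
   [2, 3, 6, 4, 3, 2, 1, 0, 1, 2, 3, 4, 6, 3, 2],
   [3, 6, 4, 3, 2, 1, 0, 1, 2, 3, 4, 6, 3],
   [3, 6, 4, 3, 2, 1, 2, 3, 4, 6, 3],
   [3],
   [6, 3, 2, 3, 6],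
   [6, 3, 6],
   [3, 2, 3],
   [6, 4, 3, 4, 6],
   [4, 3, 2, 3, 4],
   [4, 3, 4],
   [6, 4, 3, 2, 3, 4, 6],
   [6, 3, 2, 1, 0, 1, 2, 3, 6],
   [6, 3, 2, 1, 2, 3, 6],
   [3, 2, 1, 0, 1, 2, 3],
   [3, 2, 1, 2, 3],
   [4, 3, 2, 1, 0, 1, 2, 3, 4],
   [4, 3, 2, 1, 2, 3, 4],
   [6, 4, 3, 2, 1, 0, 1, 2, 3, 4, 6],
   [6, 4, 3, 2, 1, 2, 3, 4, 6],
   [5],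
   [4, 3, 6, 5, 4, 3, 2, 3, 4, 5, 6, 3, 4],
   [3, 6, 2, 3, 4, 1, 2, 3, 6, 5, 4, 3, 2, 1, 0, 1, 2, 3, 4, 5, 6, 3, 2, 1, 4, 3, 2, 6, 3],
   [4, 1, 2, 3, 6, 5, 4, 3, 2, 1, 0, 1, 2, 3, 4, 5, 6, 3, 2, 1, 4],
   [4, 3, 6, 2, 3, 4, 1, 2, 3, 6, 5, 4, 3, 2, 1, 0, 1, 2, 3, 4, 5, 6, 3, 2, 1, 4, 3, 2, 6, 3, 4],
   [1, 2, 3, 6, 5, 4, 3, 2, 1, 0, 1, 2, 3, 4, 5, 6, 3, 2, 1],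
   [5, 4, 5],
   [3, 6, 5, 4, 3, 2, 3, 4, 5, 6, 3],
   [4, 3, 6, 5, 4, 3, 2, 1, 0, 1, 2, 3, 4, 5, 6, 3, 4],
   [4, 3, 6, 5, 4, 3, 2, 1, 2, 3, 4, 5, 6, 3, 4],
   [4, 2, 3, 6, 5, 4, 3, 2, 1, 2, 3, 4, 5, 6, 3, 2, 4],
   [4, 2, 3, 6, 5, 4, 3, 2, 1, 0, 1, 2, 3, 4, 5, 6, 3, 2, 4],
   [2, 3, 6, 5, 4, 3, 2, 1, 2, 3, 4, 5, 6, 3, 2],
   [2, 3, 6, 5, 4, 3, 2, 1, 0, 1, 2, 3, 4, 5, 6, 3, 2],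
   [3, 6, 5, 4, 3, 2, 1, 0, 1, 2, 3, 4, 5, 6, 3],
   [3, 6, 5, 4, 3, 2, 1, 2, 3, 4, 5, 6, 3],
   [2, 3, 4, 1, 2, 3, 6, 5, 4, 3, 2, 1, 0, 1, 2, 3, 4, 5, 6, 3, 2, 1, 4, 3, 2],
   [6, 3, 4, 1, 2, 3, 6, 5, 4, 3, 2, 1, 0, 1, 2, 3, 4, 5, 6, 3, 2, 1, 4, 3, 6],
   [6, 2, 3, 4, 1, 2, 3, 6, 5, 4, 3, 2, 1, 0, 1, 2, 3, 4, 5, 6, 3, 2, 1, 4, 3, 2, 6],
   [3, 4, 1, 2, 3, 6, 5, 4, 3, 2, 1, 0, 1, 2, 3, 4, 5, 6, 3, 2, 1, 4, 3],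
   [6, 5, 4, 3, 4, 5, 6],
   [5, 4, 3, 2, 3, 4, 5],
   [5, 4, 3, 4, 5],
   [6, 5, 4, 3, 2, 3, 4, 5, 6],
   [6, 3, 4, 2, 3, 6, 5, 4, 3, 2, 1, 2, 3, 4, 5, 6, 3, 2, 4, 3, 6],
   [6, 3, 4, 2, 3, 6, 5, 4, 3, 2, 1, 0, 1, 2, 3, 4, 5, 6, 3, 2, 4, 3, 6],
   [3, 4, 2, 3, 6, 5, 4, 3, 2, 1, 2, 3, 4, 5, 6, 3, 2, 4, 3],
   [3, 4, 2, 3, 6, 5, 4, 3, 2, 1, 0, 1, 2, 3, 4, 5, 6, 3, 2, 4, 3],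
   [5, 4, 3, 2, 1, 0, 1, 2, 3, 4, 5],
   [5, 4, 3, 2, 1, 2, 3, 4, 5],
   [6, 5, 4, 3, 2, 1, 0, 1, 2, 3, 4, 5, 6],
   [6, 5, 4, 3, 2, 1, 2, 3, 4, 5, 6]]

end CfsgLib.AltTwelveCentraliser
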