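import Cfsg.Agent.AltTwelveCentraliser.Beta

/-!
The elements of the model fixing all six pairs.
-/

set_option autoImplicit false
set_option maxRecDepth 100000

namespace CfsgLib.AltTwelveCentraliser

open Equiv

/-- Generators of the elements fixing all pairs. -/
def flipList : List ℕ :=
  [0xba9876542301, 0xba9876452310, 0xba9867453210, 0xba8967543210, 0xab8976543210]

theorem mul_self_of_mem_ker {q : ↥Cen} (hq : q ∈ pairPerm.ker) : q * q = 1 := by
  refine Subtype.ext (Equiv.ext fun x => ?_)
  have hc : ∀ y, (q : Perm (Fin 12)) (alP y) = alP ((q : Perm (Fin 12)) y) := fun y =>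
    DFunLike.congr_fun (mem_centralizer_alP.1 q.2.2) y
  have hdiv : ((q : Perm (Fin 12)) x : ℕ) / 2 = (x : ℕ) / 2 := by
    have h := congrArg Fin.val
      (DFunLike.congr_fun (show pairPerm q = 1 from hq) ⟨(x : ℕ) / 2, by omega⟩)
    simp only [Perm.one_apply] at h
    exact (pair_eq q (by simp only; omega)).trans h
  have hinv : alP (alP x) = x := (show ∀ y : Fin 12, alP (alP y) = y by decide +kernel) x
  show (q : Perm (Fin 12)) ((q : Perm (Fin 12)) x) = x
  by_cases h : (q : Perm (Fin 12)) x = x
  · rw [h, h]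
  have h' : (q : Perm (Fin 12)) x = alP x := Fin.ext (by
    rw [val_alP]; have := Fin.val_ne_of_ne h; split_ifs <;> omega)
  rw [h', hc, h', hinv]

theorem flipList_ok : (flipList.all fun c => okC c &&
    (List.range 6).all fun i => Nat.beq (Nat.div (nib c (2 * i)) 2) i) = true := by
  decide +kernel

theorem flips_scan : scan (pruneBy fun k c i => flipList.any fun b => notCommAt b k c i)
    (fun c => !(flipList.all fun b => Nat.beq (mulP c b) (mulP b c)) || Nat.beq (mulP c c) oneC)
      6 0 0 = true := by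
  decide +kernel

theorem sq_eq_one_of_comm_flips (σ : ↥Cen) (h : ∀ q ∈ pairPerm.ker, σ * q = q * σ) :
    σ * σ = 1 := by
  have hc : ∀ b ∈ flipList, ∃ τ ∈ Cen, enc τ = b ∧ (σ : Perm (Fin 12)) * τ = τ * σ := by
    intro b hb
    have hok := List.all_eq_true.1 flipList_ok b hb
    simp only [Bool.and_eq_true, List.all_eq_true, List.mem_range, Nat.beq_eq] at hok
    refine ⟨permC b, (permC b).2, enc_permC hok.1, ?_⟩
    refine congrArg Subtype.val (h (permC b) (MonoidHom.mem_ker.2 (Equiv.ext fun i => Fin.ext ?_)))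
    show ((permC b : Perm (Fin 12)) ⟨2 * i, _⟩ : ℕ) / 2 = i
    rw [← nib_enc, enc_permC hok.1]
    exact hok.2 i i.2
  have hs := scan_sound σ.2 ?_ flips_scan
  · have hall : (flipList.all fun b => Nat.beq (mulP (enc σ) b) (mulP b (enc σ))) = true :=
      List.all_eq_true.2 fun b hb => by
        obtain ⟨τ, _, rfl, hτ⟩ := hc b hb
        rw [Nat.beq_eq, ← enc_mul, ← enc_mul, hτ]
    rw [hall] at hs
    simp only [Bool.not_true, Bool.false_or, Nat.beq_eq] at hs
    exact Subtype.ext (enc_injective (by rw [Subgroup.coe_mul, enc_mul, hs]; exact enc_one.symm))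
  · intro k hk
    refine pruneBy_false fun i hi => ?_
    rw [List.any_eq_false]
    intro b hb
    obtain ⟨τ, _, rfl, hτ⟩ := hc b hb
    simp [notCommAt_false hτ hk hi]

end CfsgLib.AltTwelveCentraliser
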