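import Cfsg.Agent.AltTwelveCentraliser.SylowModel

/-!
An element whose centraliser is coded by the model.
-/

set_option autoImplicit false

namespace CfsgLib.AltTwelveCentraliser

open Equiv

theorem alP_mem : alP ∈ Cen := by
  obtain ⟨σ, hσ, he⟩ := exists_perm (c := alC) (by decide +kernel)
  rwa [show alP = σ from enc_injective (enc_alP.trans he.symm)]

theorem okC_oneC : okC oneC = true := enc_one ▸ okC_enc (one_mem Cen)

theorem okC_alC : okC alC = true := enc_alP ▸ okC_enc alP_mem

theorem okC_aC {i : ℕ} (hi : i < 64) : okC (aC i) = true :=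
  List.all_eq_true.1 aC_ok i (List.mem_range.2 hi)

theorem mulP_aC {i j : ℕ} (hi : i < 64) (hj : j < 64) :
    mulP (aC i) (aC j) = aC (Nat.xor i j) :=
  Nat.beq_eq.mp (List.all_eq_true.1 (List.all_eq_true.1 aC_mul i (List.mem_range.2 hi)) j
    (List.mem_range.2 hj))

theorem xor_lt {i j : ℕ} (hi : i < 64) (hj : j < 64) : Nat.xor i j < 64 :=
  Nat.xor_lt_two_pow (n := 6) hi hj

theorem mem_aList {c : ℕ} : c ∈ aList ↔ ∃ i < 64, aC i = c := by
  simp [aList_eq]

theorem aC_inj {i j : ℕ} (hi : i < 64) (hj : j < 64) (h : aC i = aC j) : i = j :=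
  List.inj_on_of_nodup_map (aList_eq ▸ aList_nodup) (List.mem_range.2 hi) (List.mem_range.2 hj) h

open Classical in
/-- The permutation with a given code. -/
noncomputable def permC (c : ℕ) : ↥Cen :=
  if h : ∃ σ ∈ Cen, enc σ = c then ⟨h.choose, h.choose_spec.1⟩ else 1

theorem enc_permC {c : ℕ} (hc : okC c = true) : enc (permC c : Perm (Fin 12)) = c := by
  rw [permC, dif_pos (exists_perm hc)]
  exact (exists_perm hc).choose_spec.2

theorem permC_enc (σ : ↥Cen) : permC (enc σ) = σ :=
  Subtype.ext (enc_injective (enc_permC (okC_enc σ.2)))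

theorem okC_coe (σ : ↥Cen) : okC (enc σ) = true := okC_enc σ.2

theorem permC_mul {a b : ℕ} (ha : okC a = true) (hb : okC b = true) :
    permC (mulP a b) = permC a * permC b :=
  Subtype.ext (enc_injective (by
    rw [Subgroup.coe_mul, enc_mul, enc_permC ha, enc_permC hb, enc_permC (okC_mulP ha hb)]))

theorem permC_oneC : permC oneC = 1 :=
  Subtype.ext (enc_injective (by rw [enc_permC okC_oneC, Subgroup.coe_one, enc_one]))

theorem permC_inv {g gi : ℕ} (hg : okC g = true) (hgi : okC gi = true) (h : mulP g gi = oneC) :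
    permC gi = (permC g)⁻¹ :=
  (inv_eq_of_mul_eq_one_right (by rw [← permC_mul hg hgi, h, permC_oneC])).symm

/-- The centre of the model is generated by the involution. -/
theorem center_model {σ : ↥Cen} (hσ : σ ∈ Subgroup.center ↥Cen) :
    σ = 1 ∨ σ = ⟨alP, alP_mem⟩ := by
  have hcomm : ∀ a, okC a = true → commC (enc σ) a = true := fun a ha => by
    rw [commC_iff]
    have h2 := congrArg (fun τ : ↥Cen => enc (τ : Perm (Fin 12)))
      (Subgroup.mem_center_iff.1 hσ (permC a))
    simp only [Subgroup.coe_mul, enc_mul, enc_permC ha] at h2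
    exact h2.symm
  have hA : enc σ ∈ aList := by
    have hs := scan_sound σ.2 ?_ aC_self_centralising
    · have hall : ([1, 2, 4, 8, 16, 32].all fun i => commC (enc σ) (aC i)) = true :=
        List.all_eq_true.2 fun i hi => hcomm _ (okC_aC (by fin_cases hi <;> norm_num))
      rw [hall] at hs
      simpa [memN_iff] using hs
    · intro k hk
      refine pruneBy_false fun i hi => ?_
      rw [List.any_eq_false]
      intro b hb
      have hb64 : b < 64 := by fin_cases hb <;> norm_num
      rw [← enc_permC (okC_aC hb64), notCommAt_false ?_ hk hi]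
      · simp
      · exact (congrArg Subtype.val (Subgroup.mem_center_iff.1 hσ (permC (aC b)))).symm
  obtain ⟨i, hi, he⟩ := mem_aList.1 hA
  have h := List.all_eq_true.1 center_only i (List.mem_range.2 hi)
  have hall : (conjList.all fun g => commC (aC i) g.1) = true := List.all_eq_true.2 fun g hg => by
    have := List.all_eq_true.1 conjList_ok g hg
    simp only [Bool.and_eq_true] at this
    rw [he]; exact hcomm _ this.1.1.1
  rw [hall] at h
  simp only [Bool.not_true, Bool.false_or, Bool.or_eq_true, Nat.beq_eq] at h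
  rcases h with rfl | rfl
  · left; exact Subtype.ext (enc_injective (by rw [← he, aC_zero, Subgroup.coe_one, enc_one]))
  · right; exact Subtype.ext (enc_injective (by rw [← he, aC_alI, enc_alP]))

theorem orderOf_alP : orderOf alP = 2 :=
  orderOf_eq_prime (by rw [pow_two]; decide +kernel) (by decide +kernel)

theorem card_centralizer_alP :
    Nat.card (Subgroup.centralizer ({alP} : Set (Perm (Fin 12)))) = 46080 := by
  obtain ⟨n, hn⟩ := Perm.cycleType_prime_order (σ := alP) (by rw [orderOf_alP]; exact Nat.prime_two)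
  rw [orderOf_alP] at hn
  have hsum := Perm.sum_cycleType alP
  have hsupp : alP.support.card = 12 := by decide +kernel
  rw [hn, Multiset.sum_replicate, hsupp, smul_eq_mul] at hsum
  obtain rfl : n = 5 := by omega
  rw [Equiv.Perm.nat_card_centralizer, hn]
  decide +kernel

theorem card_Cen : Nat.card ↥Cen = 23040 := by
  let f : ↥(Subgroup.centralizer ({alP} : Set (Perm (Fin 12)))) →* ℤˣ :=
    Perm.sign.comp (Subgroup.subtype _)
  have hswap : Equiv.swap (0 : Fin 12) 1 ∈ Subgroup.centralizer ({alP} : Set (Perm (Fin 12))) :=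
    mem_centralizer_alP.2 (by decide +kernel)
  have hsurj : Function.Surjective f := fun u => by
    rcases Int.units_eq_one_or u with rfl | rfl
    · exact ⟨1, map_one f⟩
    · exact ⟨⟨_, hswap⟩, Perm.sign_swap (show (0 : Fin 12) ≠ 1 by decide)⟩
  let e : ↥Cen ≃ ↥f.ker :=
    { toFun := fun σ => ⟨⟨σ.1, σ.2.2⟩, σ.2.1⟩
      invFun := fun σ => ⟨σ.1.1, ⟨σ.2, σ.1.2⟩⟩
      left_inv := fun _ => rfl
      right_inv := fun _ => rfl }
  have h2 : f.ker.index = 2 := by
    rw [Subgroup.index_ker, MonoidHom.range_eq_top.2 hsurj, Subgroup.card_top]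
    simp
  have hi := f.ker.card_mul_index
  rw [h2, card_centralizer_alP, ← Nat.card_congr e] at hi
  omega

variable {G : Type*} [Group G]

/-- The centraliser of `z` is the model, `z` being the involution. -/
structure Frame (z : G) where
  φ : ↥Cen →* G
  inj : Function.Injective φ
  range_eq : φ.range = Subgroup.centralizer ({z} : Set G)
  map_al : φ ⟨alP, alP_mem⟩ = z

/-- A frame from an isomorphism. -/
theorem Frame.exists_of_equiv {z : G} (hz : orderOf z = 2)
    (h : Nonempty (↥(Subgroup.centralizer ({z} : Set G)) ≃* ↥Cen)) : Nonempty (Frame z) := by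
  obtain ⟨e⟩ := h
  let z' : ↥(Subgroup.centralizer ({z} : Set G)) :=
    ⟨z, Subgroup.mem_centralizer_singleton_iff.2 rfl⟩
  have hzc : e z' ∈ Subgroup.center ↥Cen := by
    rw [Subgroup.mem_center_iff]
    intro σ
    obtain ⟨x, rfl⟩ := e.surjective σ
    rw [← map_mul, ← map_mul]
    exact congrArg e (Subtype.ext (Subgroup.mem_centralizer_singleton_iff.1 x.2))
  have hne : e z' ≠ 1 := fun h1 => by
    have : z = 1 := congrArg Subtype.val (e.injective (h1.trans (map_one e).symm))
    rw [this, orderOf_one] at hz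
    omega
  refine ⟨⟨(Subgroup.subtype _).comp e.symm.toMonoidHom, ?_, ?_, ?_⟩⟩
  · exact (Subgroup.subtype_injective _).comp e.symm.injective
  · rw [MonoidHom.range_comp, MonoidHom.range_eq_top.2 e.symm.surjective,
      ← MonoidHom.range_eq_map, Subgroup.range_subtype]
  · rcases center_model hzc with h1 | h1
    · exact absurd h1 hne
    · show ((e.symm ⟨alP, alP_mem⟩ : ↥(Subgroup.centralizer ({z} : Set G))) : G) = z
      rw [← h1, MulEquiv.symm_apply_apply]

namespace Frame

variable {z : G} (F : Frame z)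
include F

/-- The element with a given code. -/
noncomputable def el (c : ℕ) : G := F.φ (permC c)

theorem el_mul {a b : ℕ} (ha : okC a = true) (hb : okC b = true) :
    F.el (mulP a b) = F.el a * F.el b := by
  rw [el, el, el, permC_mul ha hb, map_mul]

theorem el_oneC : F.el oneC = 1 := by rw [el, permC_oneC, map_one]

theorem el_alC : F.el alC = z := by
  rw [el, show permC alC = ⟨alP, alP_mem⟩ from
    Subtype.ext (enc_injective (by rw [enc_permC okC_alC, enc_alP])), F.map_al]

theorem el_inj {a b : ℕ} (ha : okC a = true) (hb : okC b = true) (h : F.el a = F.el b) :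
    a = b := by
  rw [← enc_permC ha, ← enc_permC hb, F.inj h]

theorem el_mem (c : ℕ) : F.el c ∈ Subgroup.centralizer ({z} : Set G) :=
  F.range_eq ▸ MonoidHom.mem_range.2 ⟨_, rfl⟩

theorem exists_code {g : G} (hg : g ∈ Subgroup.centralizer ({z} : Set G)) :
    ∃ c, okC c = true ∧ F.el c = g := by
  rw [← F.range_eq] at hg
  obtain ⟨σ, rfl⟩ := hg
  exact ⟨enc σ, okC_coe σ, by rw [el, permC_enc]⟩

theorem el_inv {g gi : ℕ} (hg : okC g = true) (hgi : okC gi = true) (h : mulP g gi = oneC) :
    F.el gi = (F.el g)⁻¹ := by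
  rw [el, el, permC_inv hg hgi h, map_inv]

theorem el_conj {g gi a : ℕ} (hg : okC g = true) (hgi : okC gi = true) (ha : okC a = true)
    (h : mulP g gi = oneC) :
    F.el (mulP (mulP g a) gi) = F.el g * F.el a * (F.el g)⁻¹ := by
  rw [F.el_mul (okC_mulP hg ha) hgi, F.el_mul hg ha, F.el_inv hg hgi h]

theorem el_ne_one {c : ℕ} (hc : okC c = true) (h : c ≠ oneC) : F.el c ≠ 1 :=
  fun e => h (F.el_inj hc okC_oneC (e.trans F.el_oneC.symm))

theorem el_comm_iff {a b : ℕ} (ha : okC a = true) (hb : okC b = true) :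
    commC a b = true ↔ F.el a * F.el b = F.el b * F.el a := by
  rw [commC_iff, ← F.el_mul ha hb, ← F.el_mul hb ha]
  exact ⟨congrArg _, F.el_inj (okC_mulP ha hb) (okC_mulP hb ha)⟩

theorem z_sq : z * z = 1 := by
  rw [← F.el_alC, ← F.el_mul okC_alC okC_alC, show mulP alC alC = oneC by decide +kernel,
    F.el_oneC]

theorem z_ne_one : z ≠ 1 := by
  rw [← F.el_alC]
  exact F.el_ne_one okC_alC (by decide)

theorem orderOf_z : orderOf z = 2 :=
  orderOf_eq_prime (by rw [pow_two]; exact F.z_sq) F.z_ne_one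

theorem mem_invList {c : ℕ} (hc : okC c = true) (hsq : mulP c c = oneC) (h1 : c ≠ oneC) :
    c ∈ invList := by
  obtain ⟨σ, hσ, rfl⟩ := exists_perm hc
  have h2 : σ * σ = 1 := enc_injective (by rw [enc_mul, hsq, enc_one])
  have hs := scan_sound hσ
    (fun k hk => pruneBy_false fun i hi => notInvAt_false h2 hk hi) invList_complete
  simp only [Bool.or_eq_true, Bool.not_eq_true', memN_iff, Nat.beq_eq] at hs
  rcases hs with (hs | hs) | hs
  · rw [← Bool.not_eq_true, Nat.beq_eq] at hs; exact absurd hsq hs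
  · exact absurd hs h1
  · exact hs

theorem exists_code_involution {g : G} (hg : g ∈ Subgroup.centralizer ({z} : Set G))
    (hg2 : g * g = 1) (h1 : g ≠ 1) : ∃ c ∈ invList, okC c = true ∧ F.el c = g := by
  obtain ⟨c, hc, rfl⟩ := F.exists_code hg
  refine ⟨c, F.mem_invList hc ?_ ?_, hc, rfl⟩
  · exact F.el_inj (okC_mulP hc hc) okC_oneC (by rw [F.el_mul hc hc, hg2, F.el_oneC])
  · rintro rfl; exact h1 F.el_oneC

/-- The elements of the elementary abelian subgroup. -/
noncomputable def a (i : ℕ) : G := F.el (aC i)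

theorem a_mul {i j : ℕ} (hi : i < 64) (hj : j < 64) :
    F.a (Nat.xor i j) = F.a i * F.a j := by
  rw [a, a, a, ← F.el_mul (okC_aC hi) (okC_aC hj), mulP_aC hi hj]

theorem a_zero : F.a 0 = 1 := by rw [a, aC_zero, F.el_oneC]

theorem a_alI : F.a alI = z := by rw [a, aC_alI, F.el_alC]

theorem a_inj {i j : ℕ} (hi : i < 64) (hj : j < 64) (h : F.a i = F.a j) : i = j :=
  aC_inj hi hj (F.el_inj (okC_aC hi) (okC_aC hj) h)

theorem a_sq {i : ℕ} (hi : i < 64) : F.a i * F.a i = 1 := by
  rw [← F.a_mul hi hi, show Nat.xor i i = 0 from Nat.xor_self i, F.a_zero]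

theorem a_comm {i j : ℕ} (hi : i < 64) (hj : j < 64) : F.a i * F.a j = F.a j * F.a i := by
  rw [← F.a_mul hi hj, ← F.a_mul hj hi, show Nat.xor i j = Nat.xor j i from Nat.xor_comm i j]

theorem a_inv {i : ℕ} (hi : i < 64) : (F.a i)⁻¹ = F.a i :=
  inv_eq_of_mul_eq_one_right (F.a_sq hi)

/-- The elementary abelian subgroup of order 64. -/
noncomputable def elA : Subgroup G where
  carrier := {g | ∃ i < 64, F.a i = g}
  mul_mem' := by
    rintro _ _ ⟨i, hi, rfl⟩ ⟨j, hj, rfl⟩
    exact ⟨Nat.xor i j, xor_lt hi hj, F.a_mul hi hj⟩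
  one_mem' := ⟨0, by norm_num, F.a_zero⟩
  inv_mem' := by
    rintro _ ⟨i, hi, rfl⟩
    exact ⟨i, hi, (F.a_inv hi).symm⟩

theorem mem_elA {g : G} : g ∈ F.elA ↔ ∃ i < 64, F.a i = g := Iff.rfl

theorem z_mem_elA : z ∈ F.elA := ⟨alI, by norm_num, F.a_alI⟩

theorem elA_le : F.elA ≤ Subgroup.centralizer ({z} : Set G) := by
  rintro _ ⟨i, _, rfl⟩
  exact F.el_mem _

theorem card_elA : Nat.card F.elA = 64 := by
  rw [← Nat.card_congr (Equiv.ofBijective
    (fun i : Fin 64 => (⟨F.a i, i, i.2, rfl⟩ : F.elA))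
    ⟨fun i j h => Fin.ext (F.a_inj i.2 j.2 (congrArg Subtype.val h)),
      fun ⟨_, i, hi, he⟩ => ⟨⟨i, hi⟩, Subtype.ext he⟩⟩)]
  simp

/-- The subgroup is its own centraliser. -/
theorem elA_self_centralising {g : G} (hg : ∀ a ∈ F.elA, g * a = a * g) : g ∈ F.elA := by
  have hgz : g ∈ Subgroup.centralizer ({z} : Set G) :=
    Subgroup.mem_centralizer_singleton_iff.2 (hg z F.z_mem_elA)
  obtain ⟨c, hc, rfl⟩ := F.exists_code hgz
  have hcomm : ∀ i < 64, commC c (aC i) = true := fun i hi =>
    (F.el_comm_iff hc (okC_aC hi)).2 (hg _ ⟨i, hi, rfl⟩)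
  obtain ⟨σ, hσ, rfl⟩ := exists_perm hc
  have hs := scan_sound hσ ?_ aC_self_centralising
  · have hall : ([1, 2, 4, 8, 16, 32].all fun i => commC (enc σ) (aC i)) = true :=
      List.all_eq_true.2 fun i hi => hcomm i (by fin_cases hi <;> norm_num)
    rw [hall] at hs
    obtain ⟨i, hi, he⟩ := mem_aList.1 (by simpa [memN_iff] using hs)
    exact ⟨i, hi, by rw [a, he]⟩
  · intro k hk
    refine pruneBy_false fun i hi => ?_
    rw [List.any_eq_false]
    intro b hb
    have hb64 : b < 64 := by fin_cases hb <;> norm_num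
    obtain ⟨τ, hτ, hτe⟩ := exists_perm (okC_aC hb64)
    rw [← hτe, notCommAt_false ?_ hk hi]
    · simp
    · refine enc_injective ?_
      rw [enc_mul, enc_mul, hτe]
      exact commC_iff.1 (hcomm b hb64)

/-- Every involution of the centraliser is conjugate there into the subgroup. -/
theorem exists_conj_elA {g : G} (hg : g ∈ Subgroup.centralizer ({z} : Set G)) (hg2 : g * g = 1) :
    ∃ h ∈ Subgroup.centralizer ({z} : Set G), h * g * h⁻¹ ∈ F.elA := by
  rcases eq_or_ne g 1 with rfl | h1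
  · exact ⟨1, one_mem _, by simp⟩
  obtain ⟨c, hc, hok, rfl⟩ := F.exists_code_involution hg hg2 h1
  obtain ⟨gg, hgg, hm⟩ := List.any_eq_true.1 (List.all_eq_true.1 conjList_cover c hc)
  have ho := List.all_eq_true.1 conjList_ok gg hgg
  simp only [Bool.and_eq_true, Nat.beq_eq] at ho
  obtain ⟨i, hi, he⟩ := mem_aList.1 (memN_iff.1 hm)
  exact ⟨F.el gg.1, F.el_mem _, i, hi, by rw [a, he, F.el_conj ho.1.1.1 ho.1.1.2 hok ho.1.2]⟩

/-- The image of the Sylow subgroup of the model. -/
noncomputable def sylS : Subgroup G :=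
  (sylSub.subgroupOf Cen).map F.φ

theorem mem_sylS {g : G} : g ∈ F.sylS ↔ ∃ c ∈ sList, okC c = true ∧ F.el c = g := by
  constructor
  · rintro ⟨σ, hσ, rfl⟩
    exact ⟨enc σ, mem_sList σ.2 (mem_sylSub.1 hσ).2, okC_coe σ, by rw [el, permC_enc]⟩
  · rintro ⟨c, hc, hok, rfl⟩
    refine ⟨permC c, ?_, rfl⟩
    obtain ⟨σ, hσ, he⟩ := enc_sylSub_iff.1 hc
    show (permC c : Perm (Fin 12)) ∈ sylSub
    rwa [show (permC c : Perm (Fin 12)) = σ from enc_injective ((enc_permC hok).trans he.symm)]

theorem sylS_le : F.sylS ≤ Subgroup.centralizer ({z} : Set G) := by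
  intro g hg
  obtain ⟨c, _, _, rfl⟩ := F.mem_sylS.1 hg
  exact F.el_mem _

theorem card_sylS : Nat.card F.sylS = 512 := by
  rw [sylS, Subgroup.card_map_of_injective F.inj]
  exact (Nat.card_congr (Subgroup.subgroupOfEquivOfLe (show sylSub ≤ Cen from fun σ hσ => (mem_sylSub.1 hσ).1)).toEquiv).trans
    card_sylSub

theorem card_centralizer : Nat.card (Subgroup.centralizer ({z} : Set G)) = 23040 := by
  rw [← F.range_eq, ← Nat.card_congr (MonoidHom.ofInjective F.inj).toEquiv, card_Cen]

theorem elA_le_sylS : F.elA ≤ F.sylS := by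
  rintro _ ⟨i, hi, rfl⟩
  have h := List.all_eq_true.1 aC_inS i (List.mem_range.2 hi)
  obtain ⟨σ, hσ, he⟩ := exists_perm (okC_aC hi)
  exact F.mem_sylS.2 ⟨aC i, he ▸ mem_sList hσ (he ▸ h), okC_aC hi, rfl⟩

/-- The subgroup is the only elementary abelian subgroup of order 64 of the Sylow subgroup. -/
theorem elA_unique {E : Subgroup G} (hE : E ≤ F.sylS) (hcard : Nat.card E = 64)
    (hinv : ∀ e ∈ E, e * e = 1) : E = F.elA := by
  have hcomm : ∀ a ∈ E, ∀ b ∈ E, a * b = b * a := fun a ha b hb => by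
    have h := hinv _ (mul_mem ha hb)
    have e1 : (a * b)⁻¹ = a * b := inv_eq_of_mul_eq_one_right h
    rw [mul_inv_rev, inv_eq_of_mul_eq_one_right (hinv a ha),
      inv_eq_of_mul_eq_one_right (hinv b hb)] at e1
    exact e1.symm
  have hle : E ≤ F.elA := by
    intro x hx
    rcases eq_or_ne x 1 with rfl | hx1
    · exact one_mem _
    obtain ⟨cx, hcx, hokx, rfl⟩ := F.mem_sylS.1 (hE hx)
    have hinvc : ∀ c ∈ sList, okC c = true → F.el c ∈ E → c = oneC ∨ c ∈ sInvList := by
      intro c hc hok hm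
      have h := List.all_eq_true.1 sList_ok c hc
      simp only [Bool.and_eq_true, Bool.or_eq_true, Bool.not_eq_true', memN_iff, Nat.beq_eq] at h
      rcases h.2 with (h2 | h2) | h2
      · rw [← Bool.not_eq_true, Nat.beq_eq] at h2
        exact absurd (F.el_inj (okC_mulP hok hok) okC_oneC
          (by rw [F.el_mul hok hok, hinv _ hm, F.el_oneC])) h2
      · exact Or.inl h2
      · exact Or.inr h2
    have hxi : cx ∈ sInvList :=
      (hinvc cx hcx hokx hx).resolve_left fun e => hx1 (e ▸ F.el_oneC)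
    have hch := List.all_eq_true.1 unique_check cx hxi
    simp only [Bool.or_eq_true, Bool.not_eq_true', memN_iff] at hch
    rcases hch with hch | hch
    · obtain ⟨i, hi, he⟩ := mem_aList.1 hch
      exact ⟨i, hi, by rw [a, he]⟩
    exfalso
    classical
    let Ec : Finset ℕ := sList.toFinset.filter fun c => okC c = true ∧ F.el c ∈ E
    have hEc : ∀ c, c ∈ Ec ↔ c ∈ sList ∧ okC c = true ∧ F.el c ∈ E := fun c => by
      simp [Ec]
    have hclosed : ∀ a ∈ Ec, ∀ b ∈ Ec, mulP a b ∈ Ec := by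
      intro a ha b hb
      rw [hEc] at ha hb ⊢
      obtain ⟨σ, hσ, he⟩ := exists_perm (okC_mulP ha.2.1 hb.2.1)
      have hm : F.el (mulP a b) ∈ E := by rw [F.el_mul ha.2.1 hb.2.1]; exact mul_mem ha.2.2 hb.2.2
      obtain ⟨d, hd, hokd, hde⟩ := F.mem_sylS.1 (hE hm)
      rw [F.el_inj hokd (okC_mulP ha.2.1 hb.2.1) hde] at hd
      exact ⟨hd, okC_mulP ha.2.1 hb.2.1, hm⟩
    have hEcard : Ec.card = 64 := by
      rw [← hcard, ← Nat.card_eq_finsetCard]
      refine Nat.card_congr (Equiv.ofBijective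
        (fun c : Ec => (⟨F.el c, ((hEc c).1 c.2).2.2⟩ : E)) ⟨fun a b h => Subtype.ext ?_, ?_⟩)
      · exact F.el_inj ((hEc a).1 a.2).2.1 ((hEc b).1 b.2).2.1 (congrArg Subtype.val h)
      · rintro ⟨g, hg⟩
        obtain ⟨c, hc, hok, rfl⟩ := F.mem_sylS.1 (hE hg)
        exact ⟨⟨c, (hEc c).2 ⟨hc, hok, hg⟩⟩, rfl⟩
    have hone : oneC ∈ Ec := by
      rw [hEc]
      obtain ⟨d, hd, hokd, hde⟩ := F.mem_sylS.1 (one_mem F.sylS)
      rw [F.el_inj hokd okC_oneC (hde.trans F.el_oneC.symm)] at hd
      exact ⟨hd, okC_oneC, by rw [F.el_oneC]; exact one_mem _⟩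
    have hxE : cx ∈ Ec := (hEc cx).2 ⟨hcx, hokx, hx⟩
    have hb := hasBig_sound Ec hEcard hclosed
      (fun a ha b hb => (F.el_comm_iff ((hEc a).1 ha).2.1 ((hEc b).1 hb).2.1).2
        (hcomm _ ((hEc a).1 ha).2.2 _ ((hEc b).1 hb).2.2))
      (fun a ha => F.el_inj (okC_mulP ((hEc a).1 ha).2.1 okC_oneC) ((hEc a).1 ha).2.1
        (by rw [F.el_mul ((hEc a).1 ha).2.1 okC_oneC, F.el_oneC, mul_one]))
      200 [oneC, cx] (sInvList.filter fun y => commC cx y && !(Nat.beq cx y)) (by simp)
      (fun b hb => by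
        rcases List.mem_cons.1 hb with rfl | hb
        · exact hone
        · rcases List.mem_singleton.1 hb with rfl; exact hxE)
      (fun e he => by
        obtain ⟨h1, h2, h3⟩ := (hEc e).1 he
        by_cases e1 : e = oneC
        · exact Or.inl (by simp [e1])
        by_cases e2 : e = cx
        · exact Or.inl (by simp [e2])
        refine Or.inr (List.mem_filter.2 ⟨(hinvc e h1 h2 h3).resolve_left e1, ?_⟩)
        rw [(F.el_comm_iff hokx h2).2 (hcomm _ hx _ h3)]
        simpa [← Bool.not_eq_true] using fun h => e2 h.symm)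
    rw [hb] at hch
    exact Bool.noConfusion hch
  have : Finite F.elA := Nat.finite_of_card_ne_zero (by rw [F.card_elA]; norm_num)
  exact Subgroup.eq_of_le_of_card_ge hle (by rw [hcard, F.card_elA])

end Frame

end CfsgLib.AltTwelveCentraliser
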