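import Cfsg.Agent.AltTwelveCentraliser.Frame

/-!
Fusion of involutions is controlled by the normaliser of the elementary abelian subgroup.
-/

set_option autoImplicit false

namespace CfsgLib.AltTwelveCentraliser

variable {G : Type*} [Group G] [Finite G] {z : G}

namespace Frame

variable (F : Frame z) (S : Sylow 2 G) (hS : (S : Subgroup G) ≤ Subgroup.centralizer ({z} : Set G))
include F S hS

theorem card_sylow : Nat.card S = 512 := by
  obtain ⟨n, hn⟩ := IsPGroup.iff_card.1 S.isPGroup'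
  have hdvd := Subgroup.card_dvd_of_le hS
  rw [F.card_centralizer, show Nat.card S = 2 ^ n from hn] at hdvd
  have hle : n ≤ 9 := by
    by_contra h
    have : 2 ^ 10 ∣ 23040 := (Nat.pow_dvd_pow 2 (by omega)).trans hdvd
    norm_num at this
  obtain ⟨P, hP⟩ := (IsPGroup.of_card (p := 2) (n := 9) (F.card_sylS.trans (by norm_num))).exists_le_sylow
  have h9 : 512 ≤ Nat.card P := F.card_sylS ▸ Subgroup.card_le_of_le hP
  rw [Sylow.card_eq_multiplicity, ← S.card_eq_multiplicity, hn] at h9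
  rw [hn]
  interval_cases n <;> simp_all

/-- The image of the Sylow subgroup of the model is a Sylow subgroup. -/
theorem exists_sylow_eq : ∃ P : Sylow 2 G, (P : Subgroup G) = F.sylS := by
  obtain ⟨P, hP⟩ := (IsPGroup.of_card (p := 2) (n := 9) (F.card_sylS.trans (by norm_num))).exists_le_sylow
  refine ⟨P, (Subgroup.eq_of_le_of_card_ge hP (le_of_eq ?_)).symm⟩
  rw [Sylow.card_eq_multiplicity, ← S.card_eq_multiplicity, F.card_sylow S hS, F.card_sylS]

/-- Every involution is conjugate into the elementary abelian subgroup. -/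
theorem exists_conj_involution {g : G} (hg : g * g = 1) : ∃ h : G, h * g * h⁻¹ ∈ F.elA := by
  obtain ⟨P, hP⟩ := F.exists_sylow_eq S hS
  have hp : IsPGroup 2 (Subgroup.zpowers g) := by
    refine IsPGroup.iff_orderOf.2 fun ⟨x, hx⟩ => ?_
    obtain ⟨k, rfl⟩ := Subgroup.mem_zpowers_iff.1 hx
    rw [Subgroup.orderOf_mk]
    have h2 : (g ^ k) ^ 2 = 1 := by
      rw [← zpow_natCast, ← zpow_mul, mul_comm, zpow_mul, zpow_natCast, pow_two, hg, one_zpow]
    rcases (Nat.dvd_prime Nat.prime_two).1 (orderOf_dvd_of_pow_eq_one h2) with h | h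
    · exact ⟨0, h⟩
    · exact ⟨1, h⟩
  obtain ⟨Q, hQ⟩ := hp.exists_le_sylow
  obtain ⟨x, hx⟩ := MulAction.exists_smul_eq G Q P
  have hxm : x * g * x⁻¹ ∈ F.sylS := by
    rw [← hP, ← hx]
    exact ⟨g, hQ (Subgroup.mem_zpowers g), rfl⟩
  obtain ⟨h, _, hh⟩ := F.exists_conj_elA (F.sylS_le hxm)
    (by rw [show x * g * x⁻¹ * (x * g * x⁻¹) = x * (g * g) * x⁻¹ by group, hg]; group)
  exact ⟨h * x, by simpa [mul_assoc] using hh⟩

/-- Conjugate elements of the subgroup are conjugate in its normaliser. -/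
theorem exists_normalising {a b : G} (ha : a ∈ F.elA) (hb : b ∈ F.elA)
    (hab : IsConj a b) :
    ∃ n : G, (∀ x ∈ F.elA, n * x * n⁻¹ ∈ F.elA) ∧ n * a * n⁻¹ = b := by
  obtain ⟨g, hg⟩ := isConj_iff.1 hab
  have hA2 : IsPGroup 2 F.elA := IsPGroup.of_card (n := 6) (by rw [F.card_elA]; norm_num)
  let A' : Subgroup G := F.elA.map (MulAut.conj g).toMonoidHom
  have hA'2 : IsPGroup 2 A' := hA2.map _
  let Cb : Subgroup G := Subgroup.centralizer ({b} : Set G)
  have hcommA : ∀ x ∈ F.elA, ∀ y ∈ F.elA, x * y = y * x := by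
    rintro _ ⟨i, hi, rfl⟩ _ ⟨j, hj, rfl⟩
    exact F.a_comm hi hj
  have hA : F.elA ≤ Cb := fun x hx =>
    Subgroup.mem_centralizer_singleton_iff.2 (hcommA x hx b hb)
  have hA' : A' ≤ Cb := by
    rintro _ ⟨x, hx, rfl⟩
    refine Subgroup.mem_centralizer_singleton_iff.2 ?_
    simp only [MulEquiv.coe_toMonoidHom, MulAut.conj_apply, ← hg]
    rw [conj_mul, conj_mul, hcommA x hx a ha]
  obtain ⟨T, hT⟩ := (hA2.comap_of_injective Cb.subtype (Subgroup.subtype_injective _)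
    ).exists_le_sylow
  obtain ⟨T', hT'⟩ := (hA'2.comap_of_injective Cb.subtype (Subgroup.subtype_injective _)
    ).exists_le_sylow
  obtain ⟨h, hh⟩ := MulAction.exists_smul_eq Cb T' T
  obtain ⟨P, hP⟩ := ((T.isPGroup').map Cb.subtype).exists_le_sylow
  obtain ⟨R, hR⟩ := F.exists_sylow_eq S hS
  obtain ⟨x, hx⟩ := MulAction.exists_smul_eq G P R
  have key : ∀ y, y ∈ (T : Subgroup Cb).map Cb.subtype → x * y * x⁻¹ ∈ F.sylS := fun y hy => by
    rw [← hR, ← hx]
    exact ⟨y, hP hy, rfl⟩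
  let m : G := x * (h : G) * g
  have hxA : F.elA.map (MulAut.conj x).toMonoidHom = F.elA := by
    refine F.elA_unique ?_ ?_ ?_
    · rintro _ ⟨y, hy, rfl⟩
      exact key y ⟨⟨y, hA hy⟩, hT hy, rfl⟩
    · rw [Subgroup.card_map_of_injective (MulAut.conj x).injective, F.card_elA]
    · rintro _ ⟨_, ⟨i, hi, rfl⟩, rfl⟩
      rw [← map_mul, F.a_sq hi, map_one]
  have hmA : F.elA.map (MulAut.conj m).toMonoidHom = F.elA := by
    refine F.elA_unique ?_ ?_ ?_
    · rintro _ ⟨y, hy, rfl⟩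
      have hy' : g * y * g⁻¹ ∈ A' := ⟨y, hy, rfl⟩
      have h3 : h * (⟨g * y * g⁻¹, hA' hy'⟩ : Cb) * h⁻¹ ∈ (T : Subgroup Cb) := by
        rw [← hh]
        exact ⟨_, hT' hy', rfl⟩
      have := key _ ⟨_, h3, rfl⟩
      simpa [m, mul_assoc] using this
    · rw [Subgroup.card_map_of_injective (MulAut.conj m).injective, F.card_elA]
    · rintro _ ⟨_, ⟨i, hi, rfl⟩, rfl⟩
      rw [← map_mul, F.a_sq hi, map_one]
  refine ⟨x⁻¹ * m, fun y hy => ?_, ?_⟩
  · have hm1 : m * y * m⁻¹ ∈ F.elA := hmA ▸ ⟨y, hy, rfl⟩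
    obtain ⟨w, hw, hw'⟩ := (show m * y * m⁻¹ ∈ F.elA.map (MulAut.conj x).toMonoidHom by
      rw [hxA]; exact hm1)
    simp only [MulEquiv.coe_toMonoidHom, MulAut.conj_apply] at hw'
    have hwy : x⁻¹ * m * y * (x⁻¹ * m)⁻¹ = x⁻¹ * (m * y * m⁻¹) * x := by group
    rw [hwy, ← hw']
    simpa [mul_assoc] using hw
  · have hhb : (h : G) * b = b * (h : G) := Subgroup.mem_centralizer_singleton_iff.1 h.2
    calc x⁻¹ * m * a * (x⁻¹ * m)⁻¹ = (h : G) * (g * a * g⁻¹) * (h : G)⁻¹ := by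
          simp only [m]; group
      _ = b := by rw [hg, hhb, mul_inv_cancel_right]

end Frame

end CfsgLib.AltTwelveCentraliser
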