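import Cfsg.Agent.AltTwelveCentraliser.Omega

/-!
A computed criterion for the centraliser of an elementary abelian subgroup of the model to lie in
a subgroup `X` containing `C(z)` and controlling the conjugates of `z`.
-/

set_option autoImplicit false

namespace CfsgLib.AltTwelveCentraliser

attribute [local irreducible] mulP pack nib okC enc

/-- Apply `f` to one member of each coset of `bs` among the candidates outside `seen`. -/
def skipAll (f : ℕ → Bool) (bs : List ℕ) : List ℕ → List ℕ → Bool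
  | _, [] => true
  | seen, w :: t =>
    bif memN w seen then skipAll f bs seen t
    else f w && skipAll f bs (bs.map (mulP w) ++ seen) t

theorem skipAll_spec {f : ℕ → Bool} {bs : List ℕ} :
    ∀ {cc seen : List ℕ}, skipAll f bs seen cc = true →
      ∀ w ∈ cc, w ∈ seen ∨ f w = true ∨ ∃ w' ∈ cc, f w' = true ∧ w ∈ bs.map (mulP w') := by
  intro cc
  induction cc with
  | nil => intro _ _ w hw; simp at hw
  | cons a t ih =>
    intro seen h w hw
    rw [skipAll] at h
    rcases hb : memN a seen with _ | _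
    · rw [hb, cond_false, Bool.and_eq_true] at h
      rcases List.mem_cons.1 hw with rfl | hw
      · exact Or.inr (Or.inl h.1)
      rcases ih h.2 w hw with h2 | h2 | ⟨w', h4, h5⟩
      · rcases List.mem_append.1 h2 with h3 | h3
        · exact Or.inr (Or.inr ⟨a, List.mem_cons_self, h.1, h3⟩)
        · exact Or.inl h3
      · exact Or.inr (Or.inl h2)
      · exact Or.inr (Or.inr ⟨w', List.mem_cons_of_mem _ h4, h5⟩)
    · rw [hb, cond_true] at h
      rcases List.mem_cons.1 hw with rfl | hw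
      · exact Or.inl (memN_iff.1 hb)
      rcases ih h w hw with h2 | h2 | ⟨w', h4, h5⟩
      · exact Or.inl h2
      · exact Or.inr (Or.inl h2)
      · exact Or.inr (Or.inr ⟨w', List.mem_cons_of_mem _ h4, h5⟩)

/-- The label pattern of `d` is no translate of that of the involution, and no translation fixes
both patterns. -/
def okDelta (lab : ℕ → ℕ) (bs : List ℕ) (d : ℕ) : Bool :=
  (bs.all fun s => bs.any fun b =>
    !(Nat.beq (lab (mulP d b)) (lab (mulP alC (mulP s b))))) &&
  bs.all fun s => Nat.beq s oneC || bs.any fun b =>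
    !(Nat.beq (lab (mulP alC b)) (lab (mulP alC (mulP s b)))) ||
      !(Nat.beq (lab (mulP d b)) (lab (mulP d (mulP s b))))

/-- The criterion. -/
def goodB (lab : ℕ → ℕ) (base : List ℕ → Bool) : ℕ → List ℕ → List ℕ → Bool
  | 0, _, _ => false
  | f + 1, bs, cc => base bs ||
      ((cc.any fun d => Nat.beq (lab d) 0 && okDelta lab bs d) &&
        skipAll (fun w => goodB lab base f (bs ++ bs.map (mulP w)) (cc.filter (commC w))) bs bs cc)

/-- The number of points moved. -/
def movedC (c : ℕ) : ℕ :=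
  (List.range 12).countP fun i => !(Nat.beq (nib c i) i)

/-- The number of pairs fixed. -/
def fixPairs (c : ℕ) : ℕ :=
  (List.range 6).countP fun i => Nat.beq (Nat.div (nib c (Nat.mul 2 i)) 2) i

/-- The label of an index for a mask. -/
def labI (m i : ℕ) : ℕ :=
  bif Nat.beq i 0 then 9
  else bif bitOn m i then 0
  else bif Nat.beq (cnt2 m i) 2 || Nat.beq (cnt2 m i) 18 then 1 else 2

variable {G : Type*} [Group G] {z : G}

namespace Frame

/-- The labels are invariant under conjugation in the whole group, zero marking the conjugates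
of `z`. -/
structure IsLabel (F : Frame z) (lab : ℕ → ℕ) : Prop where
  zero : ∀ c, okC c = true → mulP c c = oneC → lab c = 0 → IsConj z (F.el c)
  conj : ∀ c d, okC c = true → mulP c c = oneC → okC d = true → mulP d d = oneC →
    IsConj (F.el c) (F.el d) → lab c = lab d

theorem isLabel_of_check [Finite G] (F : Frame z) (S : Sylow 2 G)
    (hS : (S : Subgroup G) ≤ Subgroup.centralizer ({z} : Set G)) {m : ℕ} (hm : F.Marks m)
    {lab : ℕ → ℕ}
    (hA : ((List.range 64).all fun i => Nat.beq (lab (aC i)) (labI m i)) = true)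
    (hC : (invList.all fun x => conjList.any fun g => memN (mulP (mulP g.1 x) g.2) aList &&
      Nat.beq (lab x) (lab (mulP (mulP g.1 x) g.2))) = true) :
    F.IsLabel lab := by
  have hlab : ∀ i < 64, lab (aC i) = labI m i := fun i hi =>
    Nat.beq_eq.mp (List.all_eq_true.1 hA i (List.mem_range.2 hi))
  have red : ∀ c, okC c = true → mulP c c = oneC →
      ∃ i < 64, IsConj (F.el c) (F.a i) ∧ lab c = labI m i := by
    intro c hc hsq
    by_cases h1 : c = oneC
    · subst h1
      refine ⟨0, by norm_num, ?_, ?_⟩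
      · rw [F.el_oneC, F.a_zero]
      · rw [← aC_zero, hlab 0 (by norm_num)]
    obtain ⟨g, hg, h2⟩ := List.any_eq_true.1
      (List.all_eq_true.1 hC c (F.mem_invList hc hsq h1))
    simp only [Bool.and_eq_true, memN_iff, Nat.beq_eq] at h2
    obtain ⟨i, hi, he⟩ := mem_aList.1 h2.1
    have ho := List.all_eq_true.1 conjList_ok g hg
    simp only [Bool.and_eq_true, Nat.beq_eq] at ho
    refine ⟨i, hi, isConj_iff.2 ⟨F.el g.1, ?_⟩, ?_⟩
    · rw [a, he, F.el_conj ho.1.1.1 ho.1.1.2 hc ho.1.2]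
    · rw [h2.2, ← he, hlab i hi]
  refine ⟨fun c hc hsq h0 => ?_, fun c d hc hc2 hd hd2 hcd => ?_⟩
  · obtain ⟨i, hi, hconj, hl⟩ := red c hc hsq
    refine IsConj.trans ((hm i hi).1 ?_) hconj.symm
    rw [h0] at hl
    unfold labI at hl
    rcases hb0 : Nat.beq i 0 with _ | _ <;> rw [hb0] at hl
    · rcases hb1 : bitOn m i with _ | _
      · rw [hb1] at hl
        simp only [cond_false] at hl
        cases h : (Nat.beq (cnt2 m i) 2 || Nat.beq (cnt2 m i) 18) <;> rw [h] at hl <;>
          simp at hl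
      · rfl
    · simp at hl
  · obtain ⟨i, hi, hci, hli⟩ := red c hc hc2
    obtain ⟨j, hj, hdj, hlj⟩ := red d hd hd2
    obtain ⟨n, hn, hnij⟩ := F.exists_normalising S hS ⟨i, hi, rfl⟩ ⟨j, hj, rfl⟩
      ((hci.symm.trans hcd).trans hdj)
    obtain ⟨σ, hσ, hlin⟩ := F.exists_index_perm hn
    have hσi : σ ⟨i, hi⟩ = ⟨j, hj⟩ :=
      Fin.ext (F.a_inj (Fin.is_lt _) hj (by rw [hσ]; exact hnij))
    have h2 := F.cnt2_perm hm hσ hlin ⟨i, hi⟩
    have h1 := F.marks_perm hm hσ ⟨i, hi⟩
    rw [hσi] at h1 h2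
    have h0 : Nat.beq j 0 = Nat.beq i 0 := by
      rw [Bool.eq_iff_iff, Nat.beq_eq, Nat.beq_eq]
      constructor <;> rintro rfl
      · exact F.a_inj hi (by norm_num) (by
          rw [F.a_zero] at hnij ⊢
          exact conj_eq_one_iff.1 hnij)
      · exact F.a_inj hj (by norm_num) (by rw [← hnij, F.a_zero]; group)
    simp only [Fin.val_mk] at h1 h2
    rw [hli, hlj, labI, labI, h0, h1, h2]

/-- A subgroup containing the centraliser and controlling the conjugates. -/
structure IsControl (F : Frame z) (X : Subgroup G) : Prop where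
  le : Subgroup.centralizer ({z} : Set G) ≤ X
  key : ∀ g : G, g * z * g⁻¹ ∈ X → g ∈ X

variable {F : Frame z}

/-- In the group generated by two involutions either they are conjugate, or one is conjugate to
the other times the central involution, or an element moves both onto that product. -/
theorem dihedral_cases [Finite G] {p q : G} (hp : p * p = 1) (hq : q * q = 1) :
    (∃ t : ℕ, (p * q) ^ t * p * ((p * q) ^ t)⁻¹ = q) ∨
    ∃ w : G, w ≠ 1 ∧ w * w = 1 ∧ w * p = p * w ∧ w * q = q * w ∧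
      (∀ c : G, c * p = p * c → c * q = q * c → c * w = w * c) ∧
      ((∃ t : ℕ, (p * q) ^ t * (p * w) * ((p * q) ^ t)⁻¹ = q) ∨
        ∃ t : ℕ, (p * q) ^ t * p * ((p * q) ^ t)⁻¹ = p * w ∧
          (p * q) ^ t * q * ((p * q) ^ t)⁻¹ = q * w) := by
  obtain ⟨r, hr⟩ : ∃ r, r = p * q := ⟨_, rfl⟩
  rw [← hr]
  have hq' : q = p * r := by rw [hr, ← mul_assoc, hp, one_mul]
  have hpr : ∀ i : ℕ, p * r ^ i * p⁻¹ = (r ^ i)⁻¹ := fun i => by
    rw [← conj_pow, show p * r * p⁻¹ = r⁻¹ by
      rw [hr, mul_inv_rev, inv_eq_of_mul_eq_one_right hp, inv_eq_of_mul_eq_one_right hq,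
        ← mul_assoc p p, hp, one_mul], inv_pow]
  have hrot : ∀ i : ℕ, r ^ i * p * (r ^ i)⁻¹ = p * (r ^ (2 * i))⁻¹ := fun i => by
    have h : r ^ i * p = p * (r ^ i)⁻¹ := by
      rw [← hpr i, ← mul_assoc, ← mul_assoc, hp, one_mul, inv_eq_of_mul_eq_one_right hp]
    rw [h, two_mul, pow_add, mul_inv_rev, mul_assoc]
  rcases Nat.even_or_odd (orderOf r) with ⟨n, hn⟩ | ⟨t, ht⟩
  swap
  · refine Or.inl ⟨t, ?_⟩
    rw [hrot t, hq']
    congr 1
    refine inv_eq_of_mul_eq_one_right ?_
    rw [← pow_succ, ← ht, pow_orderOf_eq_one]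
  have hnpos : 0 < n := by have := orderOf_pos r; omega
  have hw2 : r ^ n * r ^ n = 1 := by rw [← pow_add, ← hn, pow_orderOf_eq_one]
  have hwp : r ^ n * p = p * r ^ n := by
    have h := hpr n
    rw [inv_eq_of_mul_eq_one_right hw2] at h
    conv_lhs => rw [← h]
    rw [inv_mul_cancel_right]
  have hwr : r ^ n * r = r * r ^ n := (Commute.pow_self r n).eq
  have hwq : r ^ n * q = q * r ^ n := by
    rw [hq', ← mul_assoc, hwp, mul_assoc, hwr, ← mul_assoc]
  refine Or.inr ⟨r ^ n, pow_ne_one_of_lt_orderOf hnpos.ne' (by omega), hw2, hwp, hwq,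
    fun c hcp hcq => ?_, ?_⟩
  · have hcr : Commute c r := by
      show c * r = r * c
      rw [hr, ← mul_assoc, hcp, mul_assoc, hcq, mul_assoc]
    exact (hcr.pow_right n).eq
  rcases Nat.even_or_odd n with ⟨s, hs⟩ | ⟨s, hs⟩
  · refine Or.inr ⟨s, ?_, ?_⟩
    · rw [hrot s, show 2 * s = n by omega, inv_eq_of_mul_eq_one_right hw2]
    · have hsr : r ^ s * r * (r ^ s)⁻¹ = r := by
        rw [(Commute.pow_self r s).eq, mul_inv_cancel_right]
      rw [hq', show r ^ s * (p * r) * (r ^ s)⁻¹ =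
        (r ^ s * p * (r ^ s)⁻¹) * (r ^ s * r * (r ^ s)⁻¹) by group, hrot s, hsr,
        show 2 * s = n by omega, inv_eq_of_mul_eq_one_right hw2, mul_assoc, hwr, ← mul_assoc]
  · refine Or.inl ⟨s, ?_⟩
    have hsw : r ^ s * r ^ n * (r ^ s)⁻¹ = r ^ n := by
      rw [(Commute.pow_pow_self r s n).eq, mul_inv_cancel_right]
    rw [show r ^ s * (p * r ^ n) * (r ^ s)⁻¹ =
      (r ^ s * p * (r ^ s)⁻¹) * (r ^ s * r ^ n * (r ^ s)⁻¹) by group, hrot s, hsw, hq', mul_assoc]
    congr 1
    rw [hs, pow_succ, inv_mul_cancel_left]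

theorem el_sq_mul {x y : ℕ} (F : Frame z) (hx : okC x = true ∧ mulP x x = oneC)
    (hy : okC y = true ∧ mulP y y = oneC) (h : F.el x * F.el y = F.el y * F.el x) :
    okC (mulP x y) = true ∧ mulP (mulP x y) (mulP x y) = oneC := by
  have hok := okC_mulP hx.1 hy.1
  refine ⟨hok, F.el_inj (okC_mulP hok hok) okC_oneC ?_⟩
  rw [F.el_mul hok hok, F.el_mul hx.1 hy.1, F.el_oneC,
    show F.el x * F.el y * (F.el x * F.el y) = F.el x * (F.el y * F.el x) * F.el y by group,
    ← h, ← mul_assoc, ← F.el_mul hx.1 hx.1, hx.2, F.el_oneC, one_mul, ← F.el_mul hy.1 hy.1, hy.2,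
    F.el_oneC]

/-- The lists of an elementary abelian group of codes. -/
structure IsElem (F : Frame z) (bs : List ℕ) : Prop where
  one : oneC ∈ bs
  ok : ∀ b ∈ bs, okC b = true ∧ mulP b b = oneC
  mul : ∀ a ∈ bs, ∀ b ∈ bs, mulP a b ∈ bs
  comm : ∀ a ∈ bs, ∀ b ∈ bs, F.el a * F.el b = F.el b * F.el a

theorem IsElem.extend {F : Frame z} {bs : List ℕ} (hB : F.IsElem bs) {w : ℕ}
    (hw : okC w = true ∧ mulP w w = oneC) (hwb : ∀ b ∈ bs, F.el w * F.el b = F.el b * F.el w) :
    F.IsElem (bs ++ bs.map (mulP w)) := by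
  have hel : ∀ u ∈ bs ++ bs.map (mulP w), u ∈ bs ∨ ∃ b ∈ bs, u = mulP w b := fun u hu => by
    rcases List.mem_append.1 hu with hu | hu
    · exact Or.inl hu
    · obtain ⟨b, hb, rfl⟩ := List.mem_map.1 hu
      exact Or.inr ⟨b, hb, rfl⟩
  have hok : ∀ u ∈ bs ++ bs.map (mulP w), okC u = true ∧ mulP u u = oneC := fun u hu => by
    rcases hel u hu with hu | ⟨b, hb, rfl⟩
    · exact hB.ok u hu
    · exact F.el_sq_mul hw (hB.ok b hb) (hwb b hb)
  have e : ∀ b ∈ bs, F.el (mulP w b) = F.el w * F.el b := fun b hb =>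
    F.el_mul hw.1 (hB.ok b hb).1
  have hww : F.el w * F.el w = 1 := by rw [← F.el_mul hw.1 hw.1, hw.2, F.el_oneC]
  refine ⟨List.mem_append.2 (Or.inl hB.one), hok, fun a ha b hb => ?_, fun a ha b hb => ?_⟩
  · have key : ∀ u v : ℕ, okC u = true → okC v = true → F.el u = F.el v → u = v :=
      fun u v h1 h2 h => F.el_inj h1 h2 h
    rcases hel a ha with ha' | ⟨a', ha', rfl⟩ <;> rcases hel b hb with hb' | ⟨b', hb', rfl⟩
    · exact List.mem_append.2 (Or.inl (hB.mul a ha' b hb'))
    · have hm := hB.mul a ha' b' hb'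
      refine List.mem_append.2 (Or.inr (List.mem_map.2 ⟨mulP a b', hm, ?_⟩))
      refine key _ _ (okC_mulP hw.1 (hB.ok _ hm).1) (okC_mulP (hB.ok a ha').1 (hok _ hb).1) ?_
      rw [e _ hm, F.el_mul (hB.ok a ha').1 (hok _ hb).1, e b' hb',
        F.el_mul (hB.ok a ha').1 (hB.ok b' hb').1, ← mul_assoc, hwb a ha', mul_assoc]
    · have hm := hB.mul a' ha' b hb'
      refine List.mem_append.2 (Or.inr (List.mem_map.2 ⟨mulP a' b, hm, ?_⟩))
      refine key _ _ (okC_mulP hw.1 (hB.ok _ hm).1) (okC_mulP (hok _ ha).1 (hB.ok b hb').1) ?_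
      rw [e _ hm, F.el_mul (hok _ ha).1 (hB.ok b hb').1, e a' ha',
        F.el_mul (hB.ok a' ha').1 (hB.ok b hb').1, mul_assoc]
    · have hm := hB.mul a' ha' b' hb'
      refine List.mem_append.2 (Or.inl ?_)
      rw [key _ _ (okC_mulP (hok _ ha).1 (hok _ hb).1) (hB.ok _ hm).1 ?_]
      · exact hm
      rw [F.el_mul (hok _ ha).1 (hok _ hb).1, e a' ha', e b' hb',
        F.el_mul (hB.ok a' ha').1 (hB.ok b' hb').1,
        show F.el w * F.el a' * (F.el w * F.el b') = F.el w * (F.el a' * F.el w) * F.el b' by group,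
        ← hwb a' ha', ← mul_assoc, hww, one_mul]
  · rcases hel a ha with ha' | ⟨a', ha', rfl⟩ <;> rcases hel b hb with hb' | ⟨b', hb', rfl⟩
    · exact hB.comm a ha' b hb'
    · rw [e b' hb']
      exact (Commute.mul_right (hwb a ha').symm (hB.comm a ha' b' hb')).eq
    · rw [e a' ha']
      exact (Commute.mul_left (hwb b hb') (hB.comm a' ha' b hb')).eq
    · rw [e a' ha', e b' hb']
      exact (Commute.mul_left ((Commute.refl (F.el w)).mul_right (hwb b' hb'))
        (Commute.mul_right (hwb a' ha').symm (hB.comm a' ha' b' hb'))).eq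

/-- Two products with a commuting element have equal labels when they are conjugate. -/
theorem lab_eq {F : Frame z} {lab : ℕ → ℕ} (hlab : F.IsLabel lab) {x y b c : ℕ}
    (hx : okC x = true ∧ mulP x x = oneC) (hy : okC y = true ∧ mulP y y = oneC)
    (hb : okC b = true ∧ mulP b b = oneC) (hc : okC c = true ∧ mulP c c = oneC)
    (hxb : F.el x * F.el b = F.el b * F.el x) (hyc : F.el y * F.el c = F.el c * F.el y)
    (h : IsConj (F.el x * F.el b) (F.el y * F.el c)) :
    lab (mulP x b) = lab (mulP y c) := by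
  obtain ⟨h1, h2⟩ := F.el_sq_mul hx hb hxb
  obtain ⟨h3, h4⟩ := F.el_sq_mul hy hc hyc
  exact hlab.conj _ _ h1 h2 h3 h4 (by rw [F.el_mul hx.1 hb.1, F.el_mul hy.1 hc.1]; exact h)

/-- The criterion is sound. -/
theorem goodB_sound [Finite G] {X : Subgroup G} (hX : F.IsControl X) {lab : ℕ → ℕ}
    (hlab : F.IsLabel lab) {base : List ℕ → Bool}
    (hbase : ∀ bs : List ℕ, F.IsElem bs → base bs = true →
      ∀ k : G, (∀ b ∈ bs, k * F.el b = F.el b * k) → k ∈ X) :
    ∀ f bs cc, goodB lab base f bs cc = true → F.IsElem bs →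
      (∀ c ∈ cc, (okC c = true ∧ mulP c c = oneC) ∧ ∀ b ∈ bs, F.el c * F.el b = F.el b * F.el c) →
      (∀ c ∈ invList, (∀ b ∈ bs, F.el c * F.el b = F.el b * F.el c) → c ∈ cc) →
      ∀ k : G, (∀ b ∈ bs, k * F.el b = F.el b * k) → k ∈ X := by
  intro f
  induction f with
  | zero => intro bs cc h; simp [goodB] at h
  | succ f ih =>
    intro bs cc h hB hcc hall k hk
    rw [goodB, Bool.or_eq_true, Bool.and_eq_true] at h
    rcases h with h | ⟨hd, hskip⟩
    · exact hbase bs hB h k hk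
    obtain ⟨d, hdc, hd⟩ := List.any_eq_true.1 hd
    rw [Bool.and_eq_true, Nat.beq_eq] at hd
    obtain ⟨hd0, hdelta⟩ := hd
    simp only [okDelta, Bool.and_eq_true, List.all_eq_true, List.any_eq_true, Bool.or_eq_true,
      Bool.not_eq_true', Nat.beq_eq] at hdelta
    obtain ⟨hR2, hR1⟩ := hdelta
    obtain ⟨hdok, hdb⟩ := hcc d hdc
    obtain ⟨g, hg⟩ := isConj_iff.1 (hlab.zero d hdok.1 hdok.2 hd0)
    have hgX : g ∈ X := hX.key g (by rw [hg]; exact hX.le (F.el_mem d))
    by_contra hkX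
    obtain ⟨v, hv⟩ : ∃ v, v = k * F.el d * k⁻¹ := ⟨_, rfl⟩
    have hvX : v ∉ X := fun hvX => by
      have : k * g ∈ X := hX.key (k * g) (by
        rw [show k * g * z * (k * g)⁻¹ = k * (g * z * g⁻¹) * k⁻¹ by group, hg, ← hv]
        exact hvX)
      exact hkX (by simpa using mul_mem this (inv_mem hgX))
    have hal : okC alC = true ∧ mulP alC alC = oneC :=
      ⟨okC_alC, F.el_inj (okC_mulP okC_alC okC_alC) okC_oneC
        (by rw [F.el_mul okC_alC okC_alC, F.el_alC, F.z_sq, F.el_oneC])⟩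
    have hzc : ∀ c : ℕ, z * F.el c = F.el c * z := fun c =>
      (Subgroup.mem_centralizer_singleton_iff.1 (F.el_mem c)).symm
    have hkb : ∀ b ∈ bs, k * F.el b * k⁻¹ = F.el b := fun b hb => by
      rw [hk b hb, mul_inv_cancel_right]
    have hvb : ∀ b ∈ bs, v * F.el b = F.el b * v := fun b hb => by
      conv_lhs => rw [← hkb b hb, hv, conj_mul, hdb b hb, ← conj_mul, hkb b hb, ← hv]
    have hvv : v * v = 1 := by
      rw [hv, conj_mul, ← F.el_mul hdok.1 hdok.1, hdok.2, F.el_oneC]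
      group
    have hrb : ∀ (t : ℕ), ∀ b ∈ bs, (z * v) ^ t * F.el b * ((z * v) ^ t)⁻¹ = F.el b := by
      intro t b hb
      have : Commute (z * v) (F.el b) := by
        show z * v * F.el b = F.el b * (z * v)
        rw [mul_assoc, hvb b hb, ← mul_assoc, hzc, mul_assoc]
      rw [(this.pow_left t).eq, mul_inv_cancel_right]
    have contra : ∀ s ∈ bs, ∀ t : ℕ,
        (z * v) ^ t * (z * F.el s) * ((z * v) ^ t)⁻¹ = v → False := by
      intro s hs t htv
      obtain ⟨b, hb, hne⟩ := hR2 s hs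
      have hsb := hB.mul s hs b hb
      rw [← Bool.not_eq_true, Nat.beq_eq] at hne
      refine hne (F.lab_eq hlab hdok hal (hB.ok b hb) (hB.ok _ hsb) (hdb b hb)
        (by rw [F.el_alC]; exact hzc _) ?_)
      rw [F.el_alC, F.el_mul (hB.ok s hs).1 (hB.ok b hb).1]
      refine IsConj.trans (b := v * F.el b) (isConj_iff.2 ⟨k, ?_⟩)
        (isConj_iff.2 ⟨((z * v) ^ t)⁻¹, ?_⟩)
      · rw [← conj_mul, hkb b hb, ← hv]
      · have hb' := hrb t b hb
        generalize (z * v) ^ t = T at htv hb' ⊢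
        rw [inv_inv, ← htv, show z * (F.el s * F.el b) = z * F.el s * F.el b from (mul_assoc _ _ _).symm]
        conv_lhs => rw [← hb']
        group
    rcases dihedral_cases F.z_sq hvv with ⟨t, ht⟩ | ⟨w₀, hw1, hw2, hwz, hwv, hwc, hcases⟩
    · exact contra oneC hB.one t (by rw [F.el_oneC, mul_one]; exact ht)
    obtain ⟨w, hwi, hwok, hwe⟩ :=
      F.exists_code_involution (Subgroup.mem_centralizer_singleton_iff.2 hwz) hw2 hw1
    subst hwe
    have hwb : ∀ b ∈ bs, F.el w * F.el b = F.el b * F.el w := fun b hb =>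
      (hwc (F.el b) (hzc b).symm (hvb b hb).symm).symm
    have hwsq : mulP w w = oneC :=
      F.el_inj (okC_mulP hwok hwok) okC_oneC (by rw [F.el_mul hwok hwok, hw2, F.el_oneC])
    have hwcc := hall w hwi hwb
    by_cases hwB : w ∈ bs
    · rcases hcases with ⟨t, ht⟩ | ⟨t, ht1, ht2⟩
      · exact contra w hwB t ht
      · rcases hR1 w hwB with e | ⟨b, hb, hne⟩
        · exact hw1 (by rw [e, F.el_oneC])
        have hwb' := hB.mul w hwB b hb
        rcases hne with hne | hne <;> rw [← Bool.not_eq_true, Nat.beq_eq] at hne <;>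
          refine hne ?_
        · refine F.lab_eq hlab hal hal (hB.ok b hb) (hB.ok _ hwb') (by rw [F.el_alC]; exact hzc _)
            (by rw [F.el_alC]; exact hzc _) (isConj_iff.2 ⟨(z * v) ^ t, ?_⟩)
          rw [F.el_alC, ← conj_mul, ht1, hrb t b hb, F.el_mul hwok (hB.ok b hb).1, mul_assoc]
        · refine F.lab_eq hlab hdok hdok (hB.ok b hb) (hB.ok _ hwb') (hdb b hb) (hdb _ hwb') ?_
          rw [F.el_mul hwok (hB.ok b hb).1]
          refine IsConj.trans (b := v * F.el b) (isConj_iff.2 ⟨k, ?_⟩)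
            (IsConj.trans (b := v * (F.el w * F.el b)) (isConj_iff.2 ⟨(z * v) ^ t, ?_⟩)
              (IsConj.symm (isConj_iff.2 ⟨k, ?_⟩)))
          · rw [← conj_mul, hkb b hb, ← hv]
          · rw [← conj_mul, ht2, hrb t b hb, mul_assoc]
          · rw [← conj_mul, ← hv, ← conj_mul, hkb b hb, hkb w hwB]
    · obtain ⟨w', hw', hf, hmem⟩ :
          ∃ w' ∈ cc, goodB lab base f (bs ++ bs.map (mulP w')) (cc.filter (commC w')) = true ∧
            w ∈ bs.map (mulP w') := by
        rcases skipAll_spec hskip w hwcc with h1 | h1 | ⟨x, h1, h2⟩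
        · exact absurd h1 hwB
        · refine ⟨w, hwcc, h1, List.mem_map.2 ⟨oneC, hB.one, ?_⟩⟩
          exact F.el_inj (okC_mulP hwok okC_oneC) hwok
            (by rw [F.el_mul hwok okC_oneC, F.el_oneC, mul_one])
        · exact ⟨x, h1, h2⟩
      obtain ⟨hw'ok, hw'b⟩ := hcc w' hw'
      refine hvX (ih _ _ hf (hB.extend hw'ok hw'b) ?_ ?_ v ?_)
      · intro c hc
        rw [List.mem_filter] at hc
        obtain ⟨hcok, hcb⟩ := hcc c hc.1
        refine ⟨hcok, fun u hu => ?_⟩
        rcases List.mem_append.1 hu with hu | hu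
        · exact hcb u hu
        · obtain ⟨b, hb, rfl⟩ := List.mem_map.1 hu
          rw [F.el_mul hw'ok.1 (hB.ok b hb).1, ← mul_assoc,
            ← (F.el_comm_iff hw'ok.1 hcok.1).1 hc.2, mul_assoc, hcb b hb, ← mul_assoc]
      · intro c hci hcall
        refine List.mem_filter.2
          ⟨hall c hci fun b hb => hcall b (List.mem_append.2 (Or.inl hb)), ?_⟩
        have hc := List.all_eq_true.1 invList_ok c hci
        simp only [Bool.and_eq_true] at hc
        refine (F.el_comm_iff hw'ok.1 hc.1.1).2 ?_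
        have h1 := hcall (mulP w' oneC)
          (List.mem_append.2 (Or.inr (List.mem_map.2 ⟨oneC, hB.one, rfl⟩)))
        rw [F.el_mul hw'ok.1 okC_oneC, F.el_oneC, mul_one] at h1
        exact h1.symm
      · intro u hu
        rcases List.mem_append.1 hu with hu | hu
        · exact hvb u hu
        obtain ⟨b, hb, rfl⟩ := List.mem_map.1 hu
        obtain ⟨b0, hb0, hwb0⟩ := List.mem_map.1 hmem
        have e0 : F.el w' = F.el w * F.el b0 := by
          rw [← hwb0, F.el_mul hw'ok.1 (hB.ok b0 hb0).1, mul_assoc,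
            ← F.el_mul (hB.ok b0 hb0).1 (hB.ok b0 hb0).1, (hB.ok b0 hb0).2, F.el_oneC, mul_one]
        rw [F.el_mul hw'ok.1 (hB.ok b hb).1, e0, ← mul_assoc, ← mul_assoc, ← hwv,
          mul_assoc (F.el w) v, hvb b0 hb0, ← mul_assoc, mul_assoc _ v, hvb b hb, ← mul_assoc]

end Frame

end CfsgLib.AltTwelveCentraliser
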