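import Cfsg.Agent.AltTwelveCentraliser.CaseLabels

/-!
The criterion with twenty-seven conjugates.
-/

set_option autoImplicit false
set_option maxRecDepth 100000

namespace CfsgLib.AltTwelveCentraliser

theorem good_alt_two : Frame.goodStart labA baseA 2 = true := by
  decide +kernel

theorem good_alt_six : Frame.goodStart labA baseA 6 = true := by
  decide +kernel

end CfsgLib.AltTwelveCentraliser
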