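import Cfsg.Agent.AltTwelveCentraliser.Omega
import Cfsg.Agent.AltTwelveCentraliser.Flips
import Cfsg.Agent.TwoGroups.IsolatedZStar
import Mathlib.GroupTheory.FixedPointFree

/-!
When the involution is isolated, `G = O(G) C(z)` with `O(G)` abelian.
-/

set_option autoImplicit false

namespace CfsgLib.AltTwelveCentraliser

namespace Frame

variable {G : Type*} [Group G] {z : G} (F : Frame z)
include F

theorem isolated_of_marks (hm : F.Marks mIso) : Cfsg.IsIsolatedInvolution z := by
  refine ⟨F.orderOf_z, fun g hc => ?_⟩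
  have hsq : g * z * g⁻¹ * (g * z * g⁻¹) = 1 := by
    rw [show g * z * g⁻¹ * (g * z * g⁻¹) = g * (z * z) * g⁻¹ by group, F.z_sq]; group
  obtain ⟨h, hh, i, hi, he⟩ := F.exists_conj_elA
    (Subgroup.mem_centralizer_singleton_iff.2 hc.eq.symm) hsq
  have hb : bitOn mIso i = true := (hm i hi).2 (by
    rw [he]; exact isConj_iff.2 ⟨h * g, by group⟩)
  have : i = 21 := by
    have : ∀ i < 64, bitOn mIso i = true → i = 21 := by decide +kernel
    exact this i hi hb
  subst this
  rw [show F.a 21 = z from F.a_alI] at he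
  have hhz : h * z = z * h := Subgroup.mem_centralizer_singleton_iff.1 hh
  have h2 : g * z * g⁻¹ = h⁻¹ * z * h := by
    calc g * z * g⁻¹ = h⁻¹ * (h * (g * z * g⁻¹) * h⁻¹) * h := by group
      _ = h⁻¹ * z * h := by rw [← he]
  rw [h2, mul_assoc, ← hhz, inv_mul_cancel_left]

variable [Finite G]

theorem isolated_conclusion (hm : F.Marks mIso) :
    Cfsg.oddCore G ⊔ Subgroup.centralizer ({z} : Set G) = ⊤ ∧
      IsMulCommutative ↥(Cfsg.oddCore G) := by
  have hz := F.isolated_of_marks hm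
  refine ⟨eq_top_iff.2 fun g _ => ?_, ?_⟩
  · obtain ⟨o, ho, c, hc, rfl⟩ := TwoGroups.exists_mul_centralizer hz g
    exact mul_mem (Subgroup.mem_sup_left ho) (Subgroup.mem_sup_right hc)
  have hnorm : (Cfsg.oddCore G).Normal := inferInstance
  have hodd : Odd (Nat.card (Cfsg.oddCore G)) := TwoGroups.odd_card_oddCore
  have htriv : ∀ o ∈ Cfsg.oddCore G, o * z = z * o → o = 1 := by
    intro o ho hoz
    have hoC : o ∈ Subgroup.centralizer ({z} : Set G) :=
      Subgroup.mem_centralizer_singleton_iff.2 hoz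
    have hsq : ∀ x ∈ Cfsg.oddCore G, x * x = 1 → x = 1 := by
      intro x hx hxx
      have h2 : orderOf x ∣ 2 := orderOf_dvd_of_pow_eq_one (by rw [pow_two]; exact hxx)
      rcases (Nat.dvd_prime Nat.prime_two).1 h2 with h | h
      · exact orderOf_eq_one_iff.1 h
      · have h3 := orderOf_dvd_natCard (⟨x, hx⟩ : Cfsg.oddCore G)
        rw [Subgroup.orderOf_mk, h] at h3
        exact absurd h3 hodd.not_two_dvd_nat
    have hoC' := hoC
    rw [← F.range_eq] at hoC'
    obtain ⟨σ, rfl⟩ := hoC'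
    refine hsq _ ho ?_
    rw [← map_mul]
    suffices σ * σ = 1 by rw [this, map_one]
    refine sq_eq_one_of_comm_flips σ fun q hq => ?_
    have hm : F.φ σ * F.φ q * (F.φ σ)⁻¹ * (F.φ q)⁻¹ ∈ Cfsg.oddCore G := by
      rw [mul_assoc (F.φ σ), mul_assoc (F.φ σ)]
      exact mul_mem ho (hnorm.conj_mem _ (inv_mem ho) _)
    have hflip : σ * q * σ⁻¹ * q⁻¹ ∈ pairPerm.ker := by
      rw [MonoidHom.mem_ker] at hq ⊢
      simp [hq]
    have h1 := hsq _ hm (by
      rw [← map_inv, ← map_inv, ← map_mul, ← map_mul, ← map_mul, ← map_mul,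
        mul_self_of_mem_ker hflip, map_one])
    rw [← map_inv, ← map_inv, ← map_mul, ← map_mul, ← map_mul] at h1
    have h2 : σ * q * σ⁻¹ * q⁻¹ = 1 := F.inj (h1.trans (map_one _).symm)
    exact mul_inv_eq_iff_eq_mul.1 (mul_inv_eq_one.1 h2)
  let f : ↥(Cfsg.oddCore G) →* ↥(Cfsg.oddCore G) :=
    ((MulAut.conj z).toMonoidHom.comp (Cfsg.oddCore G).subtype).codRestrict _
      fun o => hnorm.conj_mem _ o.2 z
  have hf : MonoidHom.FixedPointFree f := fun o ho => Subtype.ext (htriv o o.2 (by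
    have h : z * (o : G) * z⁻¹ = o := congrArg Subtype.val ho
    exact (mul_inv_eq_iff_eq_mul.1 h).symm))
  have hinv : Function.Involutive f := fun o => Subtype.ext (by
    show z * (z * (o : G) * z⁻¹) * z⁻¹ = o
    rw [show z * (z * (o : G) * z⁻¹) * z⁻¹ = (z * z) * o * (z * z)⁻¹ by group, F.z_sq]
    group)
  exact ⟨⟨fun a b => (hf.commute_all_of_involutive hinv a b).eq⟩⟩

end Frame

end CfsgLib.AltTwelveCentraliser
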