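import Cfsg.Agent.AltTwelveCentraliser.CaseLabels

/-!
Computed facts about the labels.
-/

set_option autoImplicit false
set_option maxRecDepth 100000

namespace CfsgLib.AltTwelveCentraliser

theorem labA_aC : ((List.range 64).all fun i => Nat.beq (labA (aC i)) (labI mAlt i)) = true := by
  decide +kernel

theorem labT_aC : ((List.range 64).all fun i => Nat.beq (labT (aC i)) (labI mSp i)) = true := by
  decide +kernel

theorem labA_inv : (invList.all fun x => conjList.any fun g =>
    memN (mulP (mulP g.1 x) g.2) aList &&
      Nat.beq (labA x) (labA (mulP (mulP g.1 x) g.2))) = true := by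
  decide +kernel

theorem labT_inv : (invList.all fun x => conjList.any fun g =>
    memN (mulP (mulP g.1 x) g.2) aList &&
      Nat.beq (labT x) (labT (mulP (mulP g.1 x) g.2))) = true := by
  decide +kernel

theorem covers_alt : ((List.range 64).all fun i =>
    Nat.beq i 0 || Frame.covers labA mAlt [2, 6] i) = true := by
  decide +kernel

theorem covers_sp : ((List.range 64).all fun i =>
    Nat.beq i 0 || Frame.covers labT mSp [5, 22, 26] i) = true := by
  decide +kernel

theorem covers_sp_one : ((List.range 64).all fun i =>
    !(Nat.beq (labT (aC i)) 1) || Frame.covers labT mSp [22] i) = true := by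
  decide +kernel

end CfsgLib.AltTwelveCentraliser
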