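import Cfsg.Agent.AltTwelveCentraliser.SylowChecks
import Mathlib.Algebra.BigOperators.Group.Finset.Defs

/-!
Which unions of orbits can be the conjugates of the involution inside the subgroup of order 64.
-/

set_option autoImplicit false
set_option maxRecDepth 100000

namespace CfsgLib.AltTwelveCentraliser

/-- Whether a bit is set. -/
def bitOn (m i : ℕ) : Bool := Nat.beq (Nat.land (Nat.shiftRight m i) 1) 1

/-- The ways of writing `y` as a sum of two marked indices. -/
def cnt2 (m y : ℕ) : ℕ :=
  ((Finset.range 64).filter fun w => bitOn m w && bitOn m (Nat.xor y w)).card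

/-- The ways of writing `y` as a sum of three marked indices. -/
def cnt3 (m y : ℕ) : ℕ :=
  ∑ w ∈ Finset.range 64, bif bitOn m w then cnt2 m (Nat.xor y w) else 0

/-- The mask of a list of indices. -/
def maskL : List ℕ → ℕ
  | [] => 0
  | i :: l => Nat.lor (Nat.pow 2 i) (maskL l)

/-- The masks of the unions of orbits from the given list. -/
def unionMasks : List (List ℕ) → List ℕ
  | [] => [Nat.pow 2 21]
  | o :: l => let r := unionMasks l; r ++ r.map (Nat.lor (maskL o))

/-- The isolated case. -/
abbrev mIso : ℕ := 2097152

/-- The seven conjugates. -/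
abbrev mSp : ℕ := 281479273779468

/-- The twenty-seven conjugates. -/
abbrev mAlt : ℕ := 17213020425657778176

/-- The second form of seven conjugates. -/
abbrev mSp' : ℕ := 9007337278799872

/-- The second form of twenty-seven conjugates. -/
abbrev mAlt' : ℕ := 17204294567652757772

/-- Whether a mask looks like a union of classes of an orbit. -/
def regularMask (m : ℕ) : Bool :=
  (orbList.all fun o => !(bitOn m (o.headD 0)) || Nat.beq (cnt2 m (o.headD 0)) (cnt2 m 21)) &&
    (orbList.all fun o => !(bitOn m (o.headD 0)) || Nat.beq (cnt3 m (o.headD 0)) (cnt3 m 21))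

theorem masks_regular : ((unionMasks orbList).all fun m =>
    !(regularMask m) || memN m [mIso, mSp, mAlt, mSp', mAlt']) = true := by
  decide +kernel

theorem orb_cover : ((List.range 64).all fun i => Nat.beq i 0 || Nat.beq i 21 ||
    (orbList.any fun o => memN i o) || (rootList.any fun r => memN i r.1)) = true := by
  decide +kernel

theorem orb_lt : (orbList.all fun o => o.all (fun i => Nat.blt i 64) && !o.isEmpty) = true := by
  decide +kernel

theorem orb_conj : (orbList.all fun o => o.all fun j => normList.any fun g =>
    Nat.beq (mulP (mulP g.1 (aC (o.headD 0))) g.2) (aC j)) = true := by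
  decide +kernel

theorem root_conj : (rootList.all fun r => r.1.all fun j => normList.any fun g =>
    Nat.beq (mulP (mulP g.1 (aC r.2.1)) g.2) (aC j)) = true := by
  decide +kernel

theorem root_central : (rootList.all fun r => Nat.blt r.2.1 64 && memN r.2.2 sList &&
    Nat.beq (mulP r.2.2 r.2.2) (aC r.2.1) && sList.all fun c => commC c (aC r.2.1)) = true := by
  decide +kernel

theorem al_central : (sList.all fun c => commC c alC) = true := by
  decide +kernel

end CfsgLib.AltTwelveCentraliser
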