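import Cfsg.Agent.AltTwelveCentraliser.Control

/-!
Frames moved by conjugation and by the odd automorphism of the model exchanging the last two points.
-/

set_option autoImplicit false

namespace CfsgLib.AltTwelveCentraliser

attribute [local irreducible] mulP pack nib okC enc

open Equiv

variable {G : Type*} [Group G] {z : G}

/-- The exchange of the last two points. -/
def tP : Perm (Fin 12) := Equiv.swap 10 11

theorem enc_tP : enc tP = 0xab9876543210 := by decide +kernel

theorem tP_mul_self : tP * tP = 1 := Equiv.swap_mul_self _ _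

theorem tP_comm_alP : tP * alP = alP * tP := by decide +kernel

theorem conj_tP_mem {σ : Perm (Fin 12)} (hσ : σ ∈ Cen) : tP * σ * tP ∈ Cen := by
  refine ⟨?_, mem_centralizer_alP.2 ?_⟩
  · show Perm.sign (tP * σ * tP) = 1
    rw [map_mul, map_mul, show Perm.sign σ = 1 from hσ.1, mul_one, ← map_mul, tP_mul_self, map_one]
  · have h : σ * alP = alP * σ := mem_centralizer_alP.1 hσ.2
    exact (((show Commute tP alP from tP_comm_alP).mul_left h).mul_left tP_comm_alP).eq

/-- Conjugation by the exchange, on the model. -/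
def flipHom : ↥Cen →* ↥Cen where
  toFun σ := ⟨tP * σ * tP, conj_tP_mem σ.2⟩
  map_one' := Subtype.ext (by show tP * 1 * tP = 1; rw [mul_one, tP_mul_self])
  map_mul' σ τ := Subtype.ext (by
    show tP * ((σ : Perm (Fin 12)) * τ) * tP = tP * σ * tP * (tP * τ * tP)
    rw [show tP * (σ : Perm (Fin 12)) * tP * (tP * τ * tP) = tP * σ * (tP * tP) * τ * tP by group,
      tP_mul_self, mul_one]
    group)

theorem flipHom_flipHom (σ : ↥Cen) : flipHom (flipHom σ) = σ := Subtype.ext (by
  show tP * (tP * (σ : Perm (Fin 12)) * tP) * tP = σ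
  rw [show tP * (tP * (σ : Perm (Fin 12)) * tP) * tP = tP * tP * σ * (tP * tP) by group,
    tP_mul_self, one_mul, mul_one])

theorem enc_flipHom (σ : ↥Cen) :
    enc (flipHom σ : Perm (Fin 12)) = mulP (mulP 0xab9876543210 (enc σ)) 0xab9876543210 := by
  show enc (tP * (σ : Perm (Fin 12)) * tP) = _
  rw [enc_mul, enc_mul, enc_tP]

namespace Frame

/-- The frame twisted by the exchange. -/
noncomputable def flip (F : Frame z) : Frame z where
  φ := F.φ.comp flipHom
  inj := F.inj.comp fun a b h => by rw [← flipHom_flipHom a, h, flipHom_flipHom]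
  range_eq := by
    rw [MonoidHom.range_comp,
      MonoidHom.range_eq_top.2 (fun σ => ⟨flipHom σ, flipHom_flipHom σ⟩), ← MonoidHom.range_eq_map,
      F.range_eq]
  map_al := by
    rw [MonoidHom.comp_apply, show flipHom ⟨alP, alP_mem⟩ = ⟨alP, alP_mem⟩ from Subtype.ext (by
      show tP * alP * tP = alP
      rw [tP_comm_alP, mul_assoc, tP_mul_self, mul_one]), F.map_al]

theorem flip_el (F : Frame z) {c : ℕ} (hc : okC c = true) :
    F.flip.el c = F.el (mulP (mulP 0xab9876543210 c) 0xab9876543210) := by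
  show F.φ (flipHom (permC c)) = F.φ (permC _)
  have h := enc_flipHom (permC c)
  rw [enc_permC hc] at h
  rw [← h, permC_enc]

/-- The conjugate frame at a conjugate of `z`. -/
noncomputable def moveTo (F : Frame z) {z' : G} (n : G) (h : n * z * n⁻¹ = z') : Frame z' where
  φ := (MulAut.conj n).toMonoidHom.comp F.φ
  inj := (MulAut.conj n).injective.comp F.inj
  range_eq := by
    rw [MonoidHom.range_comp, F.range_eq]
    ext x
    simp only [Subgroup.mem_map, Subgroup.mem_centralizer_singleton_iff, MulEquiv.coe_toMonoidHom,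
      MulAut.conj_apply]
    constructor
    · rintro ⟨y, hy, rfl⟩
      rw [← h, conj_mul, conj_mul, hy]
    · intro hx
      refine ⟨n⁻¹ * x * n, ?_, by group⟩
      rw [show n⁻¹ * x * n * z = n⁻¹ * (x * (n * z * n⁻¹)) * n by group, h, hx, ← h]
      group
  map_al := by
    rw [MonoidHom.comp_apply, F.map_al]
    exact h

theorem moveTo_el (F : Frame z) {z' : G} (n : G) (h : n * z * n⁻¹ = z') (c : ℕ) :
    (F.moveTo n h).el c = n * F.el c * n⁻¹ := rfl

theorem isLabel_moveTo {F : Frame z} {lab : ℕ → ℕ} (hlab : F.IsLabel lab) {z' : G} (n : G)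
    (h : n * z * n⁻¹ = z') : (F.moveTo n h).IsLabel lab := by
  refine ⟨fun c hc hsq h0 => ?_, fun c d hc hc2 hd hd2 hcd => hlab.conj c d hc hc2 hd hd2 ?_⟩
  · refine IsConj.trans (isConj_iff.2 ⟨n⁻¹, ?_⟩)
      (IsConj.trans (hlab.zero c hc hsq h0) (isConj_iff.2 ⟨n, (F.moveTo_el n h c).symm⟩))
    rw [← h]; group
  · rw [F.moveTo_el n h, F.moveTo_el n h] at hcd
    exact (IsConj.trans (isConj_iff.2 ⟨n, rfl⟩) hcd).trans
      (isConj_iff.2 ⟨n⁻¹, by group⟩)

end Frame

end CfsgLib.AltTwelveCentraliser
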