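import Cfsg.Agent.AltTwelveCentraliser.Fusion
import Cfsg.Agent.AltTwelveCentraliser.MaskChecks
import Cfsg.Agent.AltTwelveCentraliser.Beta

/-!
The conjugates of the involution inside the elementary abelian subgroup: one, seven or
twenty-seven of them.
-/

set_option autoImplicit false

namespace CfsgLib.AltTwelveCentraliser

theorem bitOn_eq (m i : ℕ) : bitOn m i = Nat.testBit m i := by
  unfold bitOn
  rw [Bool.eq_iff_iff, Nat.beq_eq]
  show Nat.land (m >>> i) 1 = 1 ↔ _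
  rw [Nat.testBit_eq_decide_div_mod_eq, show Nat.land (m >>> i) 1 = (m >>> i) &&& 1 from rfl,
    Nat.and_one_is_mod, Nat.shiftRight_eq_div_pow]
  simp

theorem bitOn_maskL {l : List ℕ} {i : ℕ} : bitOn (maskL l) i = true ↔ i ∈ l := by
  induction l with
  | nil => simp [maskL, bitOn_eq]
  | cons a l ih =>
    rw [bitOn_eq] at ih ⊢
    rw [maskL, show ∀ x y, Nat.lor x y = x ||| y from fun _ _ => rfl, Nat.testBit_or]
    show (Nat.testBit (2 ^ a) i || _) = true ↔ _
    rw [Bool.or_eq_true, ih, Nat.testBit_two_pow, decide_eq_true_iff, List.mem_cons]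
    exact or_congr_left eq_comm

theorem exists_unionMask (P : ℕ → Prop) : ∀ l : List (List ℕ),
    (∀ o ∈ l, (∀ i ∈ o, P i) ∨ ∀ i ∈ o, ¬ P i) →
    ∃ m ∈ unionMasks l, ∀ i, bitOn m i = true ↔ i = 21 ∨ ∃ o ∈ l, i ∈ o ∧ P i := by
  intro l
  induction l with
  | nil =>
    intro _
    refine ⟨2 ^ 21, List.mem_singleton.2 rfl, fun i => ?_⟩
    rw [bitOn_eq, Nat.testBit_two_pow, decide_eq_true_iff]
    simp [eq_comm]
  | cons o l ih =>
    intro h
    obtain ⟨m, hm, hiff⟩ := ih fun o' ho' => h o' (List.mem_cons_of_mem _ ho')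
    rcases h o List.mem_cons_self with ho | ho
    · refine ⟨Nat.lor (maskL o) m, ?_, fun i => ?_⟩
      · exact List.mem_append.2 (Or.inr (List.mem_map.2 ⟨m, hm, rfl⟩))
      · rw [bitOn_eq, show Nat.lor (maskL o) m = maskL o ||| m from rfl, Nat.testBit_or,
          Bool.or_eq_true, ← bitOn_eq, ← bitOn_eq, bitOn_maskL, hiff]
        constructor
        · rintro (h1 | h1 | ⟨o', h1, h2⟩)
          · exact Or.inr ⟨o, List.mem_cons_self, h1, ho i h1⟩
          · exact Or.inl h1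
          · exact Or.inr ⟨o', List.mem_cons_of_mem _ h1, h2⟩
        · rintro (h1 | ⟨o', h1, h2, h3⟩)
          · exact Or.inr (Or.inl h1)
          · rcases List.mem_cons.1 h1 with rfl | h1
            · exact Or.inl h2
            · exact Or.inr (Or.inr ⟨o', h1, h2, h3⟩)
    · refine ⟨m, List.mem_append.2 (Or.inl hm), fun i => ?_⟩
      rw [hiff]
      constructor
      · rintro (h1 | ⟨o', h1, h2⟩)
        · exact Or.inl h1
        · exact Or.inr ⟨o', List.mem_cons_of_mem _ h1, h2⟩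
      · rintro (h1 | ⟨o', h1, h2, h3⟩)
        · exact Or.inl h1
        · rcases List.mem_cons.1 h1 with rfl | h1
          · exact absurd h3 (ho i h2)
          · exact Or.inr ⟨o', h1, h2, h3⟩

variable {G : Type*} [Group G] {z : G}

/-- The mask `m` marks the conjugates of `z` in the subgroup. -/
def Frame.Marks (F : Frame z) (m : ℕ) : Prop :=
  ∀ i < 64, bitOn m i = true ↔ IsConj z (F.a i)

namespace Frame

variable [Finite G] (F : Frame z) (S : Sylow 2 G)
  (hS : (S : Subgroup G) ≤ Subgroup.centralizer ({z} : Set G))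

omit [Finite G] in
/-- A normalising element permutes the indices. -/
theorem exists_index_perm {n : G} (hn : ∀ x ∈ F.elA, n * x * n⁻¹ ∈ F.elA) :
    ∃ σ : Equiv.Perm (Fin 64), (∀ i : Fin 64, F.a (σ i) = n * F.a i * n⁻¹) ∧
      ∀ i j : Fin 64, (σ ⟨Nat.xor i j, xor_lt i.2 j.2⟩ : ℕ) = Nat.xor (σ i) (σ j) := by
  choose f hf hfe using fun i : Fin 64 => hn (F.a i) ⟨i, i.2, rfl⟩
  have hinj : Function.Injective (fun i => (⟨f i, hf i⟩ : Fin 64)) := fun i j h => by
    have h' : f i = f j := congrArg Fin.val h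
    have : n * F.a i * n⁻¹ = n * F.a j * n⁻¹ := by rw [← hfe, ← hfe, h']
    exact Fin.ext (F.a_inj i.2 j.2 (mul_left_cancel (mul_right_cancel this)))
  refine ⟨Equiv.ofBijective _ ⟨hinj, Finite.surjective_of_injective hinj⟩, hfe, fun i j => ?_⟩
  refine F.a_inj (hf _) (xor_lt (hf i) (hf j)) ?_
  show F.a (f _) = F.a (Nat.xor (f i) (f j))
  rw [F.a_mul (hf i) (hf j), hfe, hfe, hfe]
  show n * F.a (Nat.xor i j) * n⁻¹ = _
  rw [F.a_mul i.2 j.2]
  group

variable {m : ℕ}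

omit [Finite G] in
theorem marks_perm (hm : F.Marks m) {n : G} {σ : Equiv.Perm (Fin 64)}
    (hσ : ∀ i : Fin 64, F.a (σ i) = n * F.a i * n⁻¹) (i : Fin 64) :
    bitOn m (σ i) = bitOn m i := by
  rw [Bool.eq_iff_iff, hm _ (σ i).2, hm _ i.2, hσ]
  exact ⟨fun h => h.trans (isConj_iff.2 ⟨n⁻¹, by group⟩),
    fun h => h.trans (isConj_iff.2 ⟨n, rfl⟩)⟩

theorem cnt2_perm (hm : F.Marks m) {n : G} {σ : Equiv.Perm (Fin 64)}
    (hσ : ∀ i : Fin 64, F.a (σ i) = n * F.a i * n⁻¹)
    (hlin : ∀ i j : Fin 64, (σ ⟨Nat.xor i j, xor_lt i.2 j.2⟩ : ℕ) = Nat.xor (σ i) (σ j))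
    (y : Fin 64) : cnt2 m (σ y) = cnt2 m y := by
  have hx : ∀ w : Fin 64, bitOn m (Nat.xor (σ y) (σ w)) = bitOn m (Nat.xor y w) := fun w => by
    rw [← hlin]
    exact F.marks_perm hm hσ ⟨Nat.xor y w, xor_lt y.2 w.2⟩
  symm
  unfold cnt2
  refine Finset.card_nbij' (fun w => if h : w < 64 then (σ ⟨w, h⟩ : ℕ) else 0)
    (fun w => if h : w < 64 then (σ.symm ⟨w, h⟩ : ℕ) else 0) ?_ ?_ ?_ ?_
  · intro w hw
    simp only [Finset.coe_filter, Finset.mem_range, Set.mem_ofPred_eq, Bool.and_eq_true] at hw ⊢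
    rw [dif_pos hw.1]
    exact ⟨Fin.is_lt _, by rw [F.marks_perm hm hσ]; exact hw.2.1,
      by rw [hx ⟨w, hw.1⟩]; exact hw.2.2⟩
  · intro w hw
    simp only [Finset.coe_filter, Finset.mem_range, Set.mem_ofPred_eq, Bool.and_eq_true] at hw ⊢
    rw [dif_pos hw.1]
    refine ⟨Fin.is_lt _, ?_, ?_⟩
    · rw [← F.marks_perm hm hσ, Equiv.apply_symm_apply]; exact hw.2.1
    · rw [← hx, Equiv.apply_symm_apply]; exact hw.2.2
  · intro w hw
    simp only [Finset.coe_filter, Finset.mem_range, Set.mem_ofPred_eq] at hw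
    simp [hw.1]
  · intro w hw
    simp only [Finset.coe_filter, Finset.mem_range, Set.mem_ofPred_eq] at hw
    simp [hw.1]

theorem cnt3_perm (hm : F.Marks m) {n : G} {σ : Equiv.Perm (Fin 64)}
    (hσ : ∀ i : Fin 64, F.a (σ i) = n * F.a i * n⁻¹)
    (hlin : ∀ i j : Fin 64, (σ ⟨Nat.xor i j, xor_lt i.2 j.2⟩ : ℕ) = Nat.xor (σ i) (σ j))
    (y : Fin 64) : cnt3 m (σ y) = cnt3 m y := by
  symm
  unfold cnt3
  rw [← Fin.sum_univ_eq_sum_range, ← Fin.sum_univ_eq_sum_range]
  refine Fintype.sum_equiv σ _ _ fun w => ?_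
  rw [F.marks_perm hm hσ, ← hlin,
    F.cnt2_perm hm hσ hlin ⟨Nat.xor y w, xor_lt y.2 w.2⟩]

include S hS in
theorem conj_z_invariant (hm : F.Marks m) {i : ℕ} (hi : i < 64) (hb : bitOn m i = true) :
    cnt2 m i = cnt2 m 21 ∧ cnt3 m i = cnt3 m 21 := by
  have h21 : F.a 21 = z := F.a_alI
  obtain ⟨n, hn, he⟩ := F.exists_normalising S hS F.z_mem_elA ⟨i, hi, rfl⟩ ((hm i hi).1 hb)
  obtain ⟨σ, hσ, hlin⟩ := F.exists_index_perm hn
  have hσi : σ ⟨21, by norm_num⟩ = ⟨i, hi⟩ :=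
    Fin.ext (F.a_inj (Fin.is_lt _) hi (by rw [hσ]; simp only [h21, he]))
  have h2 := F.cnt2_perm hm hσ hlin ⟨21, by norm_num⟩
  have h3 := F.cnt3_perm hm hσ hlin ⟨21, by norm_num⟩
  rw [hσi] at h2 h3
  exact ⟨h2, h3⟩

omit [Finite G] in
theorem conj_orbit {i j : ℕ} (hi : i < 64) (hj : j < 64)
    (h : (normList.any fun g => Nat.beq (mulP (mulP g.1 (aC i)) g.2) (aC j)) = true) :
    IsConj (F.a i) (F.a j) := by
  obtain ⟨g, hg, he⟩ := List.any_eq_true.1 h
  have ho := List.all_eq_true.1 normList_ok g hg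
  simp only [Bool.and_eq_true, Nat.beq_eq] at ho
  refine isConj_iff.2 ⟨F.el g.1, ?_⟩
  rw [a, a, ← Nat.beq_eq.mp he, F.el_conj ho.1.1.1 ho.1.1.2 (okC_aC hi) ho.1.2]

include S hS in
/-- A central square of the Sylow subgroup is not conjugate to `z`. -/
theorem not_conj_root {r : List ℕ × ℕ × ℕ} (hr : r ∈ rootList) : ¬ IsConj z (F.a r.2.1) := by
  have h := List.all_eq_true.1 root_central r hr
  simp only [Bool.and_eq_true, Nat.blt_eq, memN_iff, Nat.beq_eq, List.all_eq_true] at h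
  obtain ⟨⟨⟨hi, hy⟩, hsq⟩, hcen⟩ := h
  intro hconj
  obtain ⟨g, hg⟩ := isConj_iff.1 hconj
  obtain ⟨P, hP⟩ := F.exists_sylow_eq S hS
  let Cb : Subgroup G := Subgroup.centralizer ({F.a r.2.1} : Set G)
  have hPc : (P : Subgroup G) ≤ Cb := fun x hx => by
    rw [hP] at hx
    obtain ⟨c, hc, hok, rfl⟩ := F.mem_sylS.1 hx
    exact Subgroup.mem_centralizer_singleton_iff.2 ((F.el_comm_iff hok (okC_aC hi)).1 (hcen c hc))
  have hPz : ∀ x ∈ (P : Subgroup G), x * z = z * x := fun x hx => by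
    rw [hP] at hx
    exact Subgroup.mem_centralizer_singleton_iff.1 (F.sylS_le hx)
  have hgP : ((g • P : Sylow 2 G) : Subgroup G) ≤ Cb := by
    rintro _ ⟨x, hx, rfl⟩
    refine Subgroup.mem_centralizer_singleton_iff.2 ?_
    show g * x * g⁻¹ * F.a r.2.1 = F.a r.2.1 * (g * x * g⁻¹)
    rw [← hg, conj_mul, conj_mul, hPz x hx]
  obtain ⟨h, hh⟩ := MulAction.exists_smul_eq Cb ((g • P).subtype hgP) (P.subtype hPc)
  have hn : ∀ x ∈ (P : Subgroup G), ((h : G) * g)⁻¹ * x * ((h : G) * g) ∈ (P : Subgroup G) := by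
    intro x hx
    have hx' : (⟨x, hPc hx⟩ : Cb) ∈ ((P.subtype hPc : Sylow 2 Cb) : Subgroup Cb) := hx
    rw [← hh] at hx'
    obtain ⟨w, hw, hw'⟩ := hx'
    obtain ⟨y, hy, hy'⟩ := (hw : (w : G) ∈ ((g • P : Sylow 2 G) : Subgroup G))
    have e0 : (h : G) * (w : G) * (h : G)⁻¹ = x := congrArg Subtype.val hw'
    have ew : g * y * g⁻¹ = (w : G) := hy'
    rw [← ew] at e0
    rw [← e0, show ((h : G) * g)⁻¹ * ((h : G) * (g * y * g⁻¹) * (h : G)⁻¹) * ((h : G) * g) = y by
      group]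
    exact hy
  obtain ⟨σ, hσ, hσe⟩ := enc_sylSub_iff.1 hy
  have hyok : okC r.2.2 = true := hσe ▸ okC_enc hσ.1
  have hyP : F.el r.2.2 ∈ (P : Subgroup G) := by
    rw [hP]; exact F.mem_sylS.2 ⟨_, hy, hyok, rfl⟩
  have hmem := hn _ hyP
  rw [hP] at hmem
  obtain ⟨c, hc, hok, hce⟩ := F.mem_sylS.1 hmem
  have hsq' : F.el c * F.el c = z := by
    have hhb : (h : G) * F.a r.2.1 = F.a r.2.1 * (h : G) :=
      Subgroup.mem_centralizer_singleton_iff.1 h.2
    have hk : ((h : G) * g)⁻¹ * F.a r.2.1 * ((h : G) * g) = z := by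
      rw [show ((h : G) * g)⁻¹ * F.a r.2.1 * ((h : G) * g) =
        g⁻¹ * ((h : G)⁻¹ * (F.a r.2.1 * (h : G))) * g by group, ← hhb, inv_mul_cancel_left, ← hg]
      group
    rw [hce, show ((h : G) * g)⁻¹ * F.el r.2.2 * ((h : G) * g) *
        (((h : G) * g)⁻¹ * F.el r.2.2 * ((h : G) * g)) =
        ((h : G) * g)⁻¹ * (F.el r.2.2 * F.el r.2.2) * ((h : G) * g) by group,
      ← F.el_mul hyok hyok, hsq]
    exact hk
  have h1 := List.all_eq_true.1 sList_sq_ne c hc
  rw [Bool.not_eq_true', ← Bool.not_eq_true, Nat.beq_eq] at h1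
  exact h1 (F.el_inj (okC_mulP hok hok) okC_alC (by rw [F.el_mul hok hok, hsq', F.el_alC]))

include S hS in
/-- The five possibilities. -/
theorem exists_mask : ∃ m ∈ [mIso, mSp, mAlt, mSp', mAlt'], F.Marks m := by
  have hlt : ∀ o ∈ orbList, (∀ i ∈ o, i < 64) ∧ o.headD 0 ∈ o := fun o ho => by
    have h := List.all_eq_true.1 orb_lt o ho
    simp only [Bool.and_eq_true, List.all_eq_true, Nat.blt_eq, Bool.not_eq_true'] at h
    refine ⟨h.1, ?_⟩
    cases o with
    | nil => simp at h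
    | cons a l => simp
  have hconst : ∀ o ∈ orbList, (∀ i ∈ o, IsConj z (F.a i)) ∨ ∀ i ∈ o, ¬ IsConj z (F.a i) := by
    intro o ho
    have hc : ∀ j ∈ o, IsConj (F.a (o.headD 0)) (F.a j) := fun j hj =>
      F.conj_orbit ((hlt o ho).1 _ (hlt o ho).2) ((hlt o ho).1 j hj)
        (List.all_eq_true.1 (List.all_eq_true.1 orb_conj o ho) j hj)
    by_cases h : IsConj z (F.a (o.headD 0))
    · exact Or.inl fun i hi => h.trans (hc i hi)
    · exact Or.inr fun i hi h' => h (h'.trans (hc i hi).symm)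
  obtain ⟨m, hm, hiff⟩ := exists_unionMask (fun i => IsConj z (F.a i)) orbList hconst
  have hmarks : F.Marks m := fun i hi => by
    rw [hiff]
    constructor
    · rintro (rfl | ⟨o, _, _, h⟩)
      · rw [show F.a 21 = z from F.a_alI]
      · exact h
    · intro h
      have hc := List.all_eq_true.1 orb_cover i (List.mem_range.2 hi)
      simp only [Bool.or_eq_true, Nat.beq_eq, List.any_eq_true, memN_iff] at hc
      rcases hc with ((rfl | rfl) | ⟨o, ho, hio⟩) | ⟨r, hr, hir⟩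
      · rw [F.a_zero] at h
        exact absurd (isConj_one_left.1 h) F.z_ne_one
      · exact Or.inl rfl
      · exact Or.inr ⟨o, ho, hio, h⟩
      · have hr' := List.all_eq_true.1 root_central r hr
        simp only [Bool.and_eq_true, Nat.blt_eq] at hr'
        exact absurd (h.trans (F.conj_orbit hr'.1.1.1 hi
          (List.all_eq_true.1 (List.all_eq_true.1 root_conj r hr) i hir)).symm)
          (F.not_conj_root S hS hr)
  refine ⟨m, ?_, hmarks⟩
  have hreg : regularMask m = true := by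
    simp only [regularMask, Bool.and_eq_true, List.all_eq_true, Bool.or_eq_true,
      Bool.not_eq_true', Nat.beq_eq]
    refine ⟨fun o ho => ?_, fun o ho => ?_⟩
    · rcases Bool.eq_false_or_eq_true (bitOn m (o.headD 0)) with hb | hb
      · exact Or.inr (F.conj_z_invariant S hS hmarks ((hlt o ho).1 _ (hlt o ho).2) hb).1
      · exact Or.inl hb
    · rcases Bool.eq_false_or_eq_true (bitOn m (o.headD 0)) with hb | hb
      · exact Or.inr (F.conj_z_invariant S hS hmarks ((hlt o ho).1 _ (hlt o ho).2) hb).2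
      · exact Or.inl hb
  have h5 := List.all_eq_true.1 masks_regular m hm
  rw [hreg] at h5
  simpa [memN_iff] using h5

omit [Finite G] in
theorem twist_marks (hm : F.Marks m) {m' : ℕ}
    (h : ((List.range 64).all fun i => bitOn m' i == bitOn m (betaI i)) = true) :
    F.twist.Marks m' := by
  intro i hi
  have hb := List.all_eq_true.1 betaI_check i (List.mem_range.2 hi)
  simp only [Bool.and_eq_true, Nat.blt_eq] at hb
  have h1 := List.all_eq_true.1 h i (List.mem_range.2 hi)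
  simp only [beq_iff_eq] at h1
  rw [h1, hm _ hb.1, F.twist_a hi]

include F S hS in
/-- After a twist, there are three possibilities. -/
theorem exists_normal_form :
    ∃ F' : Frame z, F'.Marks mIso ∨ F'.Marks mSp ∨ F'.Marks mAlt := by
  obtain ⟨m, hm, hmk⟩ := F.exists_mask S hS
  simp only [List.mem_cons, List.not_mem_nil, or_false] at hm
  rcases hm with rfl | rfl | rfl | rfl | rfl
  · exact ⟨F, Or.inl hmk⟩
  · exact ⟨F, Or.inr (Or.inl hmk)⟩
  · exact ⟨F, Or.inr (Or.inr hmk)⟩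
  · exact ⟨F.twist, Or.inr (Or.inl (F.twist_marks hmk (by decide +kernel)))⟩
  · exact ⟨F.twist, Or.inr (Or.inr (F.twist_marks hmk (by decide +kernel)))⟩

end Frame

end CfsgLib.AltTwelveCentraliser
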