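import Cfsg.Agent.AltTwelveCentraliser.SpProduct
import Cfsg.Agent.AltTwelveCentraliser.GoodChecksSp
import Cfsg.Agent.AltTwelveCentraliser.LabelChecks
import Cfsg.Agent.TwoGroups.IsolatedZStar
import Mathlib.GroupTheory.SchurZassenhaus

/-!
With seven conjugates the group is `PSp₆(2)`.
-/

set_option autoImplicit false
set_option maxRecDepth 100000

namespace CfsgLib.AltTwelveCentraliser

open CfsgLib.SpSixMult (T dec dec_surjective dec_zero)

theorem product_transv_check : (dList.all fun c => !(commC c (aC 3)) || Nat.beq c (aC 3) ||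
    !(Nat.beq (labT (mulP c (aC 22))) 0)) = true := by
  decide +kernel

attribute [local irreducible] mulP pack nib okC enc

theorem exists_T_conj (A : SpK) : ∃ d, 1 ≤ d ∧ d < 64 ∧ A * T 4 * A⁻¹ = T d := by
  obtain ⟨d, hd, hde⟩ := dec_surjective (A.1.mulVec (dec 4))
  have hconj : A * T 4 * A⁻¹ = T d := by
    rw [T, Forms4.conj_spTransv, ← hde]
    rfl
  refine ⟨d, Nat.one_le_iff_ne_zero.2 fun h => ?_, hd, hconj⟩
  subst h
  have h4 : dec 4 ≠ 0 := fun h => absurd
    (SpSixMult.dec_injective (by norm_num) (by norm_num) (h.trans dec_zero.symm)) (by norm_num)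
  exact Forms4.mulVec_ne_zero A h4 (hde.symm.trans dec_zero)

namespace Frame

variable {G : Type*} [Group G] [Finite G] {z : G}

theorem el_aC (F : Frame z) (i : ℕ) : F.el (aC i) = F.a i := rfl

/-- The centraliser of a product of two commuting conjugates lies in the model. -/
theorem centralizer_product_le (F : Frame z) (S : Sylow 2 G)
    (hS : (S : Subgroup G) ≤ Subgroup.centralizer ({z} : Set G)) (hm : F.Marks mSp)
    {ρ : SpK →* G} (hρ4 : ρ (T 4) = z) (hX : F.IsControl ρ.range) :
    Subgroup.centralizer ({F.a 22} : Set G) ≤ ρ.range := by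
  have hlab := F.isLabel_of_check S hS hm labT_aC labT_inv
  obtain ⟨u, hu⟩ : ∃ u, u = F.a 22 := ⟨_, rfl⟩
  rw [← hu]
  have huu : u * u = 1 := hu ▸ F.a_sq (by norm_num)
  have hu1 : u ≠ 1 := fun h => by
    have := F.a_inj (i := 22) (j := 0) (by norm_num) (by norm_num) (by rw [← hu, h, F.a_zero])
    norm_num at this
  obtain ⟨β, hβ⟩ : ∃ β, β = F.a 3 := ⟨_, rfl⟩
  have hzu : z * u = β := by
    rw [hu, hβ, show (3 : ℕ) = Nat.xor 21 22 from rfl, F.a_mul (by norm_num) (by norm_num),
      show F.a 21 = z from F.a_alI]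
  have hzuc : z * u = u * z := by
    rw [hu]; exact (Subgroup.mem_centralizer_singleton_iff.1 (F.el_mem _)).symm
  have hβX : β ∈ ρ.range := hβ ▸ hX.le (F.el_mem _)
  have hzX : z ∈ ρ.range := ⟨T 4, hρ4⟩
  have hstab : ∀ k, (k * z * k⁻¹ = z ∨ k * z * k⁻¹ = β) → k ∈ ρ.range := fun k h =>
    hX.key k (by rcases h with h | h <;> rw [h] <;> assumption)
  -- conjugates of `z` commuting modulo `u`
  have hiso : ∀ k, k * u = u * k →
      (z * (k * z * k⁻¹) * (z * (k * z * k⁻¹)) = 1 ∨
        z * (k * z * k⁻¹) * (z * (k * z * k⁻¹)) = u) →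
      k * z * k⁻¹ = z ∨ k * z * k⁻¹ = β := by
    intro k hk hsq
    obtain ⟨v, hv⟩ : ∃ v, v = k * z * k⁻¹ := ⟨_, rfl⟩
    rw [← hv] at hsq ⊢
    have hvv : v * v = 1 := by rw [hv, conj_mul, F.z_sq]; group
    have hcomm : z * v = v * z := by
      rcases hsq with h | h
      · have h' := inv_eq_of_mul_eq_one_right h
        rw [mul_inv_rev, inv_eq_of_mul_eq_one_right hvv, inv_eq_of_mul_eq_one_right F.z_sq] at h'
        exact h'.symm
      · have hvz : v * z * v = β := by
          rw [← hzu, ← h, show z * (z * v * (z * v)) = z * z * (v * z * v) by group, F.z_sq, one_mul]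
        have hvX : v ∈ ρ.range := hX.key v (by
          rw [inv_eq_of_mul_eq_one_right hvv, hvz]; exact hβX)
        obtain ⟨A, hA⟩ := hX.key k (by rw [← hv]; exact hvX)
        obtain ⟨d, hd1, hd64, hd⟩ := exists_T_conj A
        have hvd : ρ (T d) = v := by rw [← hd, map_mul, map_mul, map_inv, hρ4, hA, hv]
        rcases T_pair ⟨hd1, hd64⟩ with hp | hp
        · have := congrArg ρ hp
          rw [map_mul, map_mul, map_one, hρ4, hvd, h] at this
          exact absurd this hu1
        · have := congrArg ρ hp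
          rw [map_mul, map_mul, map_mul, map_mul, hρ4, hvd, hvz] at this
          have hve : v = β := by
            calc v = z * z * v * (z * z) := by rw [F.z_sq, one_mul, mul_one]
              _ = z * (z * v * z) * z := by group
              _ = z * β * z := by rw [this]
              _ = β := by
                rw [← hzu, show z * (z * u) * z = z * z * (u * z) by group, F.z_sq, one_mul, hzuc]
          rw [hve, ← hzu, ← mul_assoc, F.z_sq, one_mul, mul_assoc, ← hzuc, ← mul_assoc, F.z_sq,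
            one_mul]
    by_cases hvz : v = z
    · exact Or.inl hvz
    have hzv : IsConj z v := isConj_iff.2 ⟨k, hv.symm⟩
    obtain ⟨c, hc, hok, hce⟩ := F.mem_dList hlab hcomm.symm hvz hzv
    refine Or.inr ?_
    have hvu : v * u = u * v := by
      have hku : k * u * k⁻¹ = u := by rw [hk, mul_inv_cancel_right]
      calc v * u = k * z * k⁻¹ * (k * u * k⁻¹) := by rw [hv, hku]
        _ = k * (z * u) * k⁻¹ := conj_mul
        _ = k * u * k⁻¹ * (k * z * k⁻¹) := by rw [hzuc, conj_mul]
        _ = u * v := by rw [hv, hku]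
    have hvβ : v * β = β * v := by
      rw [← hzu, ← mul_assoc, ← hcomm, mul_assoc, hvu, ← mul_assoc]
    have h := List.all_eq_true.1 product_transv_check c hc
    simp only [Bool.or_eq_true, Nat.beq_eq, Bool.not_eq_true'] at h
    have hcb : commC c (aC 3) = true :=
      (F.el_comm_iff hok (okC_aC (by norm_num))).2 (by rw [hce, F.el_aC, ← hβ]; exact hvβ)
    rcases h with (h | h) | h
    · rw [hcb] at h; exact absurd h (by simp)
    · rw [← hce, h, hβ]; rfl
    · exfalso
      rw [← Bool.not_eq_true, Nat.beq_eq] at h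
      refine h ?_
      have ok22 : okC (aC 22) = true := okC_aC (by norm_num)
      refine F.lab_zero_of_conj hlab (by decide +kernel) (okC_mulP hok ok22) ?_ ?_
      · refine F.el_inj (okC_mulP (okC_mulP hok ok22) (okC_mulP hok ok22)) okC_oneC ?_
        rw [F.el_mul (okC_mulP hok ok22) (okC_mulP hok ok22), F.el_mul hok ok22, hce, F.el_oneC,
          F.el_aC, ← hu, show v * u * (v * u) = v * (u * v) * u by group, ← hvu, ← mul_assoc, hvv,
          one_mul, huu]
      · rw [F.el_mul hok ok22, hce, F.el_aC, ← hu]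
        have hzβ : IsConj z β := hβ ▸ (hm 3 (by norm_num)).1 (by decide +kernel)
        refine hzβ.trans (isConj_iff.2 ⟨k, ?_⟩)
        rw [← hzu, ← conj_mul, ← hv, hk, mul_inv_cancel_right]
  -- the theorem of Glauberman in the quotient
  obtain ⟨K, hK⟩ : ∃ K : Subgroup G, K = Subgroup.centralizer ({u} : Set G) := ⟨_, rfl⟩
  rw [← hK]
  have huK : u ∈ K := hK ▸ Subgroup.mem_centralizer_singleton_iff.2 rfl
  have hzK : z ∈ K := hK ▸ Subgroup.mem_centralizer_singleton_iff.2 hzuc
  have hcomK : ∀ {k : G}, k ∈ K → k * u = u * k := fun h =>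
    Subgroup.mem_centralizer_singleton_iff.1 (hK ▸ h)
  obtain ⟨U, hU⟩ : ∃ U : Subgroup K, U = Subgroup.zpowers ⟨u, huK⟩ := ⟨_, rfl⟩
  have hucen : (⟨u, huK⟩ : K) ∈ Subgroup.center K :=
    Subgroup.mem_center_iff.2 fun k => Subtype.ext (hcomK k.2)
  haveI hUn : U.Normal := ⟨fun x hx k => by
    rw [hU] at hx ⊢
    have := Subgroup.zpowers_le.2 hucen hx
    rwa [Subgroup.mem_center_iff.1 this k, mul_inv_cancel_right]⟩
  have hu2 : orderOf (⟨u, huK⟩ : K) = 2 := by
    rw [Subgroup.orderOf_mk]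
    exact orderOf_eq_prime (by rw [pow_two]; exact huu) hu1
  have hUmem : ∀ {x : K}, x ∈ U ↔ (x : G) = 1 ∨ (x : G) = u := fun {x} => by
    rw [hU]
    constructor
    · intro h
      obtain ⟨i, rfl⟩ := Subgroup.mem_zpowers_iff.1 h
      have hsq : (⟨u, huK⟩ : K) ^ (2 : ℤ) = 1 := by
        rw [show (2 : ℤ) = ((2 : ℕ) : ℤ) from rfl, zpow_natCast, ← hu2, pow_orderOf_eq_one]
      rcases Int.even_or_odd' i with ⟨j, rfl | rfl⟩
      · left; rw [zpow_mul, hsq, one_zpow, OneMemClass.coe_one]
      · right; rw [zpow_add, zpow_mul, hsq, one_zpow, one_mul, zpow_one]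
    · rintro (h | h)
      · rw [show x = 1 from Subtype.ext h]; exact one_mem _
      · rw [show x = ⟨u, huK⟩ from Subtype.ext h]; exact Subgroup.mem_zpowers _
  let π := QuotientGroup.mk' U
  obtain ⟨z0, hz0⟩ : ∃ z0 : K, z0 = ⟨z, hzK⟩ := ⟨_, rfl⟩
  have hz0v : (z0 : G) = z := by rw [hz0]
  have hzbar : Cfsg.IsIsolatedInvolution (π z0) := by
    refine ⟨orderOf_eq_prime ?_ ?_, fun g hc => ?_⟩
    · rw [pow_two, ← map_mul, show z0 * z0 = 1 from Subtype.ext (by
        rw [Subgroup.coe_mul, hz0v]; exact F.z_sq), map_one]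
    · intro h
      rcases hUmem.1 ((QuotientGroup.eq_one_iff _).1 h) with h' | h'
      · exact F.z_ne_one (hz0v ▸ h')
      · rw [hz0v, hu] at h'
        have := F.a_inj (i := 21) (j := 22) (by norm_num) (by norm_num) (F.a_alI.trans h')
        norm_num at this
    · obtain ⟨k, rfl⟩ := QuotientGroup.mk'_surjective U g
      have hc' : (z0 * (k * z0 * k⁻¹)) * (z0 * (k * z0 * k⁻¹)) ∈ U := by
        refine (QuotientGroup.eq_one_iff _).1 ?_
        show π _ = 1
        have e1 : π (k * z0 * k⁻¹) * π (k * z0 * k⁻¹) = 1 := by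
          rw [← map_mul, show k * z0 * k⁻¹ * (k * z0 * k⁻¹) = 1 from Subtype.ext (by
            simp only [Subgroup.coe_mul, Subgroup.coe_inv, hz0v, OneMemClass.coe_one]
            rw [conj_mul, F.z_sq]; group), map_one]
        have e2 : π z0 * π z0 = 1 := by
          rw [← map_mul, show z0 * z0 = 1 from Subtype.ext (by
            rw [Subgroup.coe_mul, hz0v]; exact F.z_sq), map_one]
        have hc2 : π z0 * π (k * z0 * k⁻¹) = π (k * z0 * k⁻¹) * π z0 := by
          rw [map_mul, map_mul, map_inv]; exact hc.eq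
        rw [map_mul, map_mul, show π z0 * π (k * z0 * k⁻¹) * (π z0 * π (k * z0 * k⁻¹)) =
          π z0 * (π (k * z0 * k⁻¹) * π z0) * π (k * z0 * k⁻¹) by group, ← hc2, ← mul_assoc, e2,
          one_mul, e1]
      have h2 := hUmem.1 hc'
      simp only [Subgroup.coe_mul, Subgroup.coe_inv, hz0v] at h2
      rcases hiso k (hcomK k.2) h2 with h | h
      · rw [← map_inv, ← map_mul, ← map_mul]
        congr 1
        exact Subtype.ext (by simp only [Subgroup.coe_mul, Subgroup.coe_inv, hz0v]; exact h)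
      · rw [← map_inv, ← map_mul, ← map_mul]
        refine (QuotientGroup.eq.2 (hUmem.2 (Or.inr ?_)))
        simp only [Subgroup.coe_mul, Subgroup.coe_inv, hz0v]
        rw [h, ← hzu, mul_inv_rev, inv_eq_of_mul_eq_one_right huu,
          inv_eq_of_mul_eq_one_right F.z_sq, mul_assoc, F.z_sq, mul_one]
  obtain ⟨N, hN, hNodd, hNc⟩ := CfsgLib.ZStar.exists_oddNormal hzbar
  haveI := hN
  obtain ⟨P, hP⟩ : ∃ P : Subgroup K, P = N.comap π := ⟨_, rfl⟩
  haveI hPn : P.Normal := hP ▸ hN.comap π
  suffices hPU : P ≤ U by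
    intro k hk
    have h1 : z0 * ⟨k, hk⟩ * z0⁻¹ * (⟨k, hk⟩ : K)⁻¹ ∈ U := hPU (by
      rw [hP, Subgroup.mem_comap, map_mul, map_mul, map_mul, map_inv, map_inv]
      exact hNc _)
    have hzi : z⁻¹ = z := inv_eq_of_mul_eq_one_right F.z_sq
    have hk' : ∀ w, z * k * z⁻¹ * k⁻¹ = w → k * z * k⁻¹ = z * w := fun w hw => by
      rw [← hw, show z * (z * k * z⁻¹ * k⁻¹) = z * z * (k * z⁻¹ * k⁻¹) by group, F.z_sq, hzi,
        one_mul]
    refine hstab k ?_
    rcases hUmem.1 h1 with h | h <;> simp only [Subgroup.coe_mul, Subgroup.coe_inv, hz0v] at h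
    · exact Or.inl (by rw [hk' _ h, mul_one])
    · exact Or.inr (by rw [hk' _ h, hzu])
  -- the odd part of the preimage
  have hUP : U ≤ P := fun x hx => by
    rw [hP, Subgroup.mem_comap, show π x = 1 from (QuotientGroup.eq_one_iff x).2 hx]
    exact one_mem N
  have hU2 : Nat.card U = 2 := by rw [hU, Nat.card_zpowers, hu2]
  have hcard : Nat.card P = Nat.card N * 2 := by
    have h1 := Subgroup.card_eq_card_quotient_mul_card_subgroup (U.subgroupOf P)
    rw [Nat.card_congr (Subgroup.subgroupOfEquivOfLe hUP).toEquiv, hU2] at h1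
    rw [h1]
    congr 1
    have hmap : P.map π = N := by
      rw [hP, Subgroup.map_comap_eq_self_of_surjective (QuotientGroup.mk'_surjective U)]
    let g : P →* N := (π.comp P.subtype).codRestrict N fun x => by
      rw [← hmap]; exact ⟨x, x.2, rfl⟩
    have hker : g.ker = U.subgroupOf P := by
      ext x
      rw [MonoidHom.mem_ker, Subgroup.mem_subgroupOf, ← QuotientGroup.eq_one_iff (N := U)]
      exact ⟨fun h => congrArg Subtype.val h, fun h => Subtype.ext h⟩
    have hsur : Function.Surjective g := fun y => by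
      have hy : (y : K ⧸ U) ∈ P.map π := hmap.symm ▸ y.2
      obtain ⟨x, hx, hxy⟩ := hy
      exact ⟨⟨x, hx⟩, Subtype.ext hxy⟩
    rw [← hker]
    exact Nat.card_congr (QuotientGroup.quotientKerEquivOfSurjective g hsur).toEquiv
  haveI : (U.subgroupOf P).Normal := inferInstance
  have hindex : (U.subgroupOf P).index = Nat.card N := by
    have h1 := (U.subgroupOf P).card_mul_index
    rw [Nat.card_congr (Subgroup.subgroupOfEquivOfLe hUP).toEquiv, hU2, hcard] at h1
    omega
  obtain ⟨H, hH⟩ := Subgroup.exists_right_complement'_of_coprime (N := U.subgroupOf P) (by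
    rw [Nat.card_congr (Subgroup.subgroupOfEquivOfLe hUP).toEquiv, hU2, hindex]
    exact Nat.coprime_two_left.2 hNodd)
  have hHcard : Nat.card H = Nat.card N := by
    have h1 := hH.card_mul
    rw [Nat.card_congr (Subgroup.subgroupOfEquivOfLe hUP).toEquiv, hU2, hcard] at h1
    omega
  obtain ⟨Q, hQdef⟩ : ∃ Q : Subgroup G, Q = (H.map P.subtype).map K.subtype := ⟨_, rfl⟩
  have hQcard : Nat.card Q = Nat.card N := by
    rw [hQdef, Subgroup.card_map_of_injective K.subtype_injective,
      Subgroup.card_map_of_injective P.subtype_injective, hHcard]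
  have hQodd : Odd (Nat.card Q) := hQcard ▸ hNodd
  -- the complement consists of the elements of odd order
  have hchar : ∀ x : K, x ∈ P → Odd (orderOf x) → (x : G) ∈ Q := by
    intro x hx hodd
    obtain ⟨⟨a, b⟩, hab⟩ := (hH.2) ⟨x, hx⟩
    have hab' : ((a : P) : K) * ((b : P) : K) = x := congrArg Subtype.val hab
    rcases hUmem.1 (Subgroup.mem_subgroupOf.1 a.2) with ha | ha
    · rw [show ((a : P) : K) = 1 from Subtype.ext ha, one_mul] at hab'
      rw [hQdef, ← hab']
      exact ⟨_, ⟨_, b.2, rfl⟩, rfl⟩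
    · exfalso
      have hac : Commute ((a : P) : K) ((b : P) : K) := by
        refine (Subgroup.mem_center_iff.1 ?_ _).symm
        rw [show ((a : P) : K) = ⟨u, huK⟩ from Subtype.ext ha]
        exact hucen
      have hb : Odd (orderOf ((b : P) : K)) := by
        refine Odd.of_dvd_nat hNodd ?_
        rw [← hHcard, Subgroup.orderOf_coe, Subgroup.orderOf_coe]
        exact orderOf_dvd_natCard b
      rw [← hab', hac.orderOf_mul_eq_mul_orderOf_of_coprime (by
        rw [show ((a : P) : K) = ⟨u, huK⟩ from Subtype.ext ha, hu2]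
        exact Nat.coprime_two_left.2 hb),
        show ((a : P) : K) = ⟨u, huK⟩ from Subtype.ext ha, hu2] at hodd
      exact absurd (dvd_mul_right 2 _) hodd.not_two_dvd_nat
  have hQP : ∀ y ∈ Q, ∃ x : K, x ∈ P ∧ (x : G) = y ∧ Odd (orderOf x) := by
    intro y hy
    have hy2 := hy
    rw [hQdef] at hy2
    obtain ⟨x, ⟨p, _, rfl⟩, rfl⟩ := hy2
    refine ⟨_, p.2, rfl, Odd.of_dvd_nat hQodd ?_⟩
    have := orderOf_dvd_natCard (⟨_, hy⟩ : Q)
    rw [Subgroup.orderOf_mk] at this
    rwa [← Subgroup.orderOf_coe]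
  have hnormQ : ∀ q, q * u = u * q → ∀ y ∈ Q, q * y * q⁻¹ ∈ Q := by
    intro q hq y hy
    obtain ⟨x, hx, hxy, hodd⟩ := hQP y hy
    obtain ⟨qk, hqk⟩ : ∃ qk : K, (qk : G) = q :=
      ⟨⟨q, hK ▸ Subgroup.mem_centralizer_singleton_iff.2 hq⟩, rfl⟩
    have := hchar (qk * x * qk⁻¹) (hPn.conj_mem x hx qk) (by
      rw [show qk * x * qk⁻¹ = MulAut.conj qk x from rfl,
        MulEquiv.orderOf_eq]
      exact hodd)
    rw [← hqk, ← hxy]
    simpa using this
  have hcenQ : ∀ y ∈ Q, y * u = u * y := fun y hy => by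
    obtain ⟨x, -, hxy, -⟩ := hQP y hy
    rw [← hxy]; exact hcomK x.2
  -- every conjugate in the subgroup inverts it
  have hinv : ∀ i < 64, bitOn mSp i = true → ∀ y ∈ Q, F.a i * y * (F.a i)⁻¹ = y⁻¹ := by
    intro i hi hb
    obtain ⟨n, hn, hne⟩ := F.exists_normalising S hS F.z_mem_elA ⟨i, hi, rfl⟩ ((hm i hi).1 hb)
    obtain ⟨σ, hσ, -⟩ := F.exists_index_perm hn
    obtain ⟨j, hj⟩ : ∃ j, σ j = ⟨22, by norm_num⟩ := σ.surjective _
    have hju : n * F.a j * n⁻¹ = u := by rw [← hσ, hj, hu]
    have hje : (F.moveTo n hne).a j = u := hju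
    have h := (F.moveTo n hne).inverts j.2 hQodd (fun y hy => by rw [hje]; exact hcenQ y hy)
      (fun q hq y hy => hnormQ q (by rw [← hje]; exact hq) y hy)
    exact h
  have hQ1 : ∀ y ∈ Q, y = 1 := by
    intro y hy
    have step : ∀ i < 64, bitOn mSp i = true → ∀ (g : G) (w : G), w ∈ Q →
        g * F.a i * w * (g * F.a i)⁻¹ = g * w⁻¹ * g⁻¹ := fun i hi hb g w hw => by
      rw [← hinv i hi hb w hw]; group
    have hlist : ∀ i ∈ sevenList, i < 64 ∧ bitOn mSp i = true := by decide +kernel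
    have hprod : F.a 21 * F.a 2 * F.a 3 * F.a 8 * F.a 12 * F.a 32 * F.a 48 = 1 := by
      rw [← F.a_mul (by norm_num) (by norm_num), ← F.a_mul (by decide) (by norm_num),
        ← F.a_mul (by decide) (by norm_num), ← F.a_mul (by decide) (by norm_num),
        ← F.a_mul (by decide) (by norm_num), ← F.a_mul (by decide) (by norm_num),
        show Nat.xor (Nat.xor (Nat.xor (Nat.xor (Nat.xor (Nat.xor 21 2) 3) 8) 12) 32) 48 = 0
          from rfl, F.a_zero]
    have h := congrArg (fun g => g * y * g⁻¹) hprod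
    rw [step 48 (hlist 48 (by decide)).1 (hlist 48 (by decide)).2 _ y hy,
      step 32 (hlist 32 (by decide)).1 (hlist 32 (by decide)).2 _ _ (inv_mem hy), inv_inv,
      step 12 (hlist 12 (by decide)).1 (hlist 12 (by decide)).2 _ y hy,
      step 8 (hlist 8 (by decide)).1 (hlist 8 (by decide)).2 _ _ (inv_mem hy), inv_inv,
      step 3 (hlist 3 (by decide)).1 (hlist 3 (by decide)).2 _ y hy,
      step 2 (hlist 2 (by decide)).1 (hlist 2 (by decide)).2 _ _ (inv_mem hy), inv_inv,
      hinv 21 (by norm_num) (hlist 21 (by decide)).2 y hy, one_mul, inv_one, mul_one] at h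
    have h2 : orderOf y ∣ 2 := orderOf_dvd_of_pow_eq_one (by
      rw [pow_two]; exact inv_eq_iff_mul_eq_one.1 h)
    rcases (Nat.dvd_prime Nat.prime_two).1 h2 with h3 | h3
    · exact orderOf_eq_one_iff.1 h3
    · have h4 := orderOf_dvd_natCard (⟨y, hy⟩ : Q)
      rw [Subgroup.orderOf_mk, h3] at h4
      exact absurd h4 hQodd.not_two_dvd_nat
  -- conclusion
  intro x hx
  obtain ⟨⟨a, b⟩, hab⟩ := (hH.2) ⟨x, hx⟩
  have hb1 : ((b : P) : K) = 1 := by
    refine Subtype.ext (hQ1 _ ?_)
    rw [hQdef]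
    exact ⟨_, ⟨_, b.2, rfl⟩, rfl⟩
  have hab' : ((a : P) : K) * ((b : P) : K) = x := congrArg Subtype.val hab
  rw [hb1, mul_one] at hab'
  rw [← hab']
  exact Subgroup.mem_subgroupOf.1 a.2

/-- The group is `PSp₆(2)`. -/
theorem sp_conclusion (F : Frame z) (S : Sylow 2 G)
    (hS : (S : Subgroup G) ≤ Subgroup.centralizer ({z} : Set G)) (hm : F.Marks mSp) :
    ∃ (K : Type) (_ : Field K) (_ : Fintype K), Fintype.card K = 2 ∧
      Nonempty (G ≃* Cfsg.PSp 3 K) := by
  obtain ⟨F, f, hm, hf⟩ := F.exists_seventh S hS hm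
  obtain ⟨ρ, hinj, hC, hρ4, hmk⟩ := F.exists_sp_model hm hf
  have hX : F.IsControl ρ.range := F.isControl_of_marks S hS hC hm hmk
  have hlab := F.isLabel_of_check S hS hm labT_aC labT_inv
  have h22 := F.centralizer_product_le S hS hm hρ4 hX
  have hrep22 : ∀ r ∈ [22], r < 64 ∧ Subgroup.centralizer ({F.a r} : Set G) ≤ ρ.range :=
    fun r hr => by obtain rfl := List.mem_singleton.1 hr; exact ⟨by norm_num, h22⟩
  have hbase : ∀ bs : List ℕ, F.IsElem bs → baseT bs = true →
      ∀ k : G, (∀ b ∈ bs, k * F.el b = F.el b * k) → k ∈ ρ.range := by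
    intro bs hB hb k hk
    obtain ⟨b, hbm, hb1⟩ := List.any_eq_true.1 hb
    rw [Nat.ble_eq] at hb1
    obtain ⟨hok, hsq⟩ := hB.ok b hbm
    refine (?_ : Subgroup.centralizer ({F.el b} : Set G) ≤ ρ.range)
      (Subgroup.mem_centralizer_singleton_iff.2 (hk b hbm))
    rcases Nat.le_one_iff_eq_zero_or_eq_one.1 hb1 with h | h
    · exact hX.centralizer_le (hC (F.el_mem b)) (hlab.zero b hok hsq h)
    · obtain ⟨g, hg, i, hi, he⟩ := F.exists_conj_elA (F.el_mem b)
        (by rw [← F.el_mul hok hok, hsq, F.el_oneC])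
      have hi1 : labT (aC i) = 1 := by
        rw [← h]
        exact hlab.conj _ _ (okC_aC hi)
          (by rw [mulP_aC hi hi, show Nat.xor i i = 0 from Nat.xor_self i, aC_zero]) hok hsq
          (isConj_iff.2 ⟨g⁻¹, by rw [F.el_aC, he]; group⟩)
      have hc := List.all_eq_true.1 covers_sp_one i (List.mem_range.2 hi)
      simp only [hi1, Bool.or_eq_true, Bool.not_eq_true', Bool.eq_false_iff, ne_eq, Nat.beq_eq,
        not_true, false_or] at hc
      have hle := F.centralizer_a_le_of_covers hX hlab hm hrep22 S hS hi hc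
      rw [he] at hle
      have := centralizer_conj_le (inv_mem (hC hg)) hle
      rwa [show g⁻¹ * (g * F.el b * g⁻¹) * g⁻¹⁻¹ = F.el b by group] at this
  have hreps : ∀ r ∈ [5, 22, 26], r < 64 ∧ Subgroup.centralizer ({F.a r} : Set G) ≤ ρ.range := by
    intro r hr
    simp only [List.mem_cons, List.not_mem_nil, or_false] at hr
    rcases hr with rfl | rfl | rfl
    · exact ⟨by norm_num,
        centralizer_le_of_goodStart hX hlab hbase (by norm_num) good_sp_five⟩
    · exact ⟨by norm_num, h22⟩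
    · exact ⟨by norm_num,
        centralizer_le_of_goodStart hX hlab hbase (by norm_num) good_sp_twentysix⟩
  have htop : ρ.range = ⊤ := by
    refine hX.eq_top S hS (fun i hi hi0 => ?_) (j := 5) (by norm_num) (by norm_num) ?_
    · have hc := List.all_eq_true.1 covers_sp i (List.mem_range.2 hi)
      simp only [Bool.or_eq_true, Nat.beq_eq, hi0, false_or] at hc
      exact F.centralizer_a_le_of_covers hX hlab hm hreps S hS hi hc
    · intro h
      have := (hm 5 (by norm_num)).2 h
      revert this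
      decide +kernel
  obtain ⟨e⟩ := psp_of_spK
  exact ⟨SpSixMult.K, inferInstance, inferInstance, ZMod.card 2,
    ⟨(((MulEquiv.ofBijective ρ ⟨hinj, MonoidHom.range_eq_top.1 htop⟩).symm).trans e)⟩⟩

end Frame

end CfsgLib.AltTwelveCentraliser
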