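import Cfsg.Agent.AltTwelveCentraliser.CaseLabels
import Cfsg.Agent.AltTwelveCentraliser.DataSp

/-!
Computed facts for the case of seven conjugates.
-/

set_option autoImplicit false
set_option maxRecDepth 100000

namespace CfsgLib.AltTwelveCentraliser

/-- The marked index at a position. -/
def sev (i : ℕ) : ℕ := sevenList.getD i 0

/-- An entry of a list. -/
def ent (p : List ℕ) (i : ℕ) : ℕ := p.getD i 0

/-- Composition of permutations of the seven positions. -/
def cmp (p q : List ℕ) : List ℕ := (List.range 7).map fun i => ent p (ent q i)

/-- Equality of lists of numbers. -/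
def eqL : List ℕ → List ℕ → Bool
  | [], [] => true
  | a :: l, b :: m => Nat.beq a b && eqL l m
  | _, _ => false

/-- Whether the permutation is induced from the centraliser. -/
def inStab (p : List ℕ) : Bool := stabList.any fun k => eqL k.1 p

/-- The exchange of the positions 1 and 2. -/
def tauP : List ℕ := [0, 2, 1, 3, 4, 5, 6]

/-- The conditions on an exchange of the positions 0 and 5. -/
def exchOK (p : List ℕ) : Bool :=
  (stabList.all fun k => !(Nat.beq (ent k.1 5) 5) ||
    stabList.any fun k' => eqL (cmp p k.1) (cmp k'.1 p)) &&
  stabList.all fun k => Nat.beq (ent k.1 5) 5 || stabList.all fun k2 =>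
    !(Nat.beq (ent k2.1 (ent p (ent k.1 5))) 5) || inStab (cmp p (cmp k2.1 (cmp p (cmp k.1 p))))

/-- The five free values of an exchange. -/
def freeVals : List ℕ := [1, 2, 3, 4, 6]

theorem seven_marks : ((List.range 64).all fun i => bitOn mSp i == memN i sevenList) = true := by
  decide +kernel

theorem exch_cases : (freeVals.all fun a => freeVals.all fun b => Nat.beq a b ||
    freeVals.all fun c => memN c [a, b] || freeVals.all fun d => memN d [a, b, c] ||
      freeVals.all fun e => memN e [a, b, c, d] || !(exchOK [5, a, b, c, d, 0, e]) ||
        exchangeList.any (eqL [5, a, b, c, d, 0, e]) ||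
        exchangeList.any (eqL (cmp tauP (cmp [5, a, b, c, d, 0, e] tauP)))) = true := by
  decide +kernel

theorem stabList_ok : (stabList.all fun k =>
    okC k.2.1 && okC k.2.2 && Nat.beq (mulP k.2.1 k.2.2) oneC && Nat.beq (k.1.length) 7 &&
      (List.range 7).all fun i => Nat.blt (ent k.1 i) 7 &&
        Nat.beq (mulP k.2.1 (aC (sev i))) (mulP (aC (sev (ent k.1 i))) k.2.1)) = true := by
  decide +kernel

theorem stab_normal : (stabList.all fun k => (List.range 64).all fun i =>
    memN (mulP (mulP k.2.1 (aC i)) k.2.2) aList) = true := by
  decide +kernel

theorem stab_transitive : ((List.range 7).all fun i => Nat.beq i 0 ||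
    stabList.any fun k => Nat.beq (ent k.1 i) 5) = true := by
  decide +kernel

/-- Whether the place `x` shows that the code does not take `a` to `b`. -/
def notMoveAt (a b k c x : ℕ) : Bool :=
  Nat.blt (nib a x) (2 * k) && !(Nat.beq (nib c (nib a x)) (nib b (nib c x)))

/-- Pruning for the elements permuting the seven marked elements. -/
def pruneSeven (k c : ℕ) : Bool :=
  sevenList.any fun i => sevenList.all fun j =>
    (List.range (2 * k)).any (notMoveAt (aC i) (aC j) k c)

theorem stab_scan : scan pruneSeven (fun c =>
    !(sevenList.all fun i => sevenList.any fun j => Nat.beq (mulP c (aC i)) (mulP (aC j) c)) ||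
    stabList.any fun k => (List.range 7).all fun i =>
      Nat.beq (mulP c (aC (sev i))) (mulP (aC (sev (ent k.1 i))) c)) 6 0 0 = true := by
  decide +kernel

/-- The exchange of the last two points, which is odd. -/
abbrev tC : ℕ := 0xab9876543210

/-- The index of the conjugate by the exchange. -/
def tauI (i : ℕ) : ℕ := bif Nat.beq (Nat.mod (Nat.div i 2) 2) 1 then Nat.xor i 1 else i

theorem tauI_check : ((List.range 64).all fun i => Nat.blt (tauI i) 64 &&
    Nat.beq (mulP (mulP tC (aC i)) tC) (aC (tauI i)) &&
    bitOn mSp i == bitOn mSp (tauI i)) = true := by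
  decide +kernel

theorem tauI_seven : ((List.range 7).all fun i =>
    Nat.beq (tauI (sev i)) (sev (ent tauP i))) = true := by
  decide +kernel

/-- The codes of the generators `b` and `d`. -/
abbrev bC : ℕ := 0xba9876325410

/-- The code of the generator `d`. -/
abbrev dC : ℕ := 0xba7698543210

/-- The code at the position `i` read in the frame moved by `p`. -/
def moved (p : List ℕ) (i : ℕ) : ℕ :=
  bif Nat.beq (ent p 0) i then aC (sev 0) else
  bif Nat.beq (ent p 1) i then aC (sev 1) else
  bif Nat.beq (ent p 2) i then aC (sev 2) else
  bif Nat.beq (ent p 3) i then aC (sev 3) else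
  bif Nat.beq (ent p 4) i then aC (sev 4) else
  bif Nat.beq (ent p 5) i then aC (sev 5) else aC (sev 6)

theorem exists_f_check : (exchangeList.all fun p => dList.all fun d =>
    (commC d (moved p 1) || commC d (moved p 2) || commC d (moved p 3) ||
      !(commC d (moved p 0)) || !(commC d (moved p 6))) ||
    dList.any fun f => !(commC f (moved p 0)) && !(commC f (moved p 6)) && !(commC f (moved p 1)) &&
      commC f (moved p 3) && commC f d && commC f (moved p 2)) = true := by
  decide +kernel

theorem flip_choice : (dList.all fun w => dList.all fun f => commC f w ||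
    dList.all fun y => commC y w || commC f y != commC f (mulP (mulP w y) w)) = true := by
  decide +kernel

theorem braid_check : (dList.all fun x => dList.all fun y => commC x y ||
    Nat.beq (mulP (mulP x y) x) (mulP (mulP y x) y)) = true := by
  decide +kernel

theorem dList_complete : (invList.all fun c =>
    !(Nat.beq (labT c) 0) || Nat.beq c alC || memN c dList) = true := by
  decide +kernel

theorem dList_ok : (dList.all fun c => memN c invList && Nat.beq (labT c) 0) = true := by
  decide +kernel

/-- The six generators inside the centraliser, by position. -/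
def genC (i : ℕ) : ℕ :=
  [aC 32, bC, aC 8, dC, aC 2, oneC, aC 3].getD i oneC

/-- The product of a word in the six generators. -/
def wordC : List ℕ → ℕ
  | [] => oneC
  | i :: l => mulP (genC i) (wordC l)

theorem alWord_eq : wordC alWord = alC := by decide +kernel

theorem flipWords_eq : ((List.range 32).all fun bits =>
    Nat.beq (flipAll.getD bits 0)
      (((List.range 5).filter fun i => bitOn bits i).foldl
        (fun r i => mulP r (wordC (flipWords.getD i []))) oneC)) = true := by
  decide +kernel

/-- Pruning for the elements fixing all pairs. -/
def pruneFix (k c : ℕ) : Bool :=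
  (List.range k).any fun i => !(Nat.beq (Nat.div (nib c (2 * i)) 2) i)

theorem fix_scan : scan pruneFix (fun c =>
    ((List.range 6).any fun i => !(Nat.beq (Nat.div (nib c (2 * i)) 2) i)) || memN c flipAll)
      6 0 0 = true := by
  decide +kernel

theorem gen_pairs : ((List.range 5).all fun i => (List.range 6).all fun j =>
    Nat.beq (Nat.div (nib (genC i) (2 * j)) 2)
      (bif Nat.beq j i then i + 1 else bif Nat.beq j (i + 1) then i else j)) = true := by
  decide +kernel

theorem gen_ok : ((List.range 7).all fun i => okC (genC i) &&
    (Nat.beq i 5 || Nat.beq (labT (genC i)) 0)) = true := by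
  decide +kernel

theorem gen_rel : ((List.range 7).all fun i => (List.range 7).all fun j =>
    Nat.beq i 5 || Nat.beq j 5 ||
    (bif memN (10 * i + j) [1, 10, 12, 21, 23, 32, 34, 43, 36, 63] then
      !(commC (genC i) (genC j)) &&
        Nat.beq (mulP (mulP (genC i) (genC j)) (genC i))
          (mulP (mulP (genC j) (genC i)) (genC j))
    else commC (genC i) (genC j))) = true := by
  decide +kernel

theorem sev_nodup : ((List.range 7).all fun i => (List.range 7).all fun j =>
    Nat.beq i j || !(Nat.beq (sev i) (sev j))) = true := by
  decide +kernel

end CfsgLib.AltTwelveCentraliser
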