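import Cfsg.Agent.AltTwelveCentraliser.DataTransv
import Cfsg.Agent.AltTwelveCentraliser.DataSp
import Cfsg.Agent.CosetEnum.Hom
import Cfsg.Agent.CosetEnum.WE7A.Bound
import Cfsg.Agent.CosetEnum.WE7B.Bound
import Cfsg.Agent.CosetEnum.WE7C.Bound
import Cfsg.Agent.CosetEnum.WE7D.Bound
import Cfsg.Agent.CosetEnum.WE7E.Bound
import Cfsg.Agent.CosetEnum.WE7F.Bound
import Cfsg.Agent.CosetEnum.WE7G.Bound
import Cfsg.Agent.SpSixMult.Natural

/-!
The Coxeter group of type E7 maps onto `Sp₆(2)` with a kernel of order at most two.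
-/

set_option autoImplicit false
set_option maxRecDepth 100000

namespace CfsgLib.AltTwelveCentraliser

open CfsgLib.SpSixMult
open CfsgLib.CosetEnum hiding T

/-- The symplectic group of degree six over two elements. -/
abbrev SpK : Type := Matrix.symplecticGroup (Fin 3) SpSixMult.K

theorem we7_card_le : Finite WE7.setup.Grp ∧ Nat.card WE7.setup.Grp ≤ 2903040 := by
  have h1 := WE7G.bound 1 ⟨WE7.setup.finite_letSub_nil, WE7.setup.card_letSub_nil⟩
  have h2 := WE7F.bound _ h1
  have h3 := WE7E.bound _ h2
  have h4 := WE7D.bound _ h3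
  have h5 := WE7C.bound _ h4
  have h6 := WE7B.bound _ h5
  have h7 := WE7A.bound _ h6
  have htop : WE7.setup.letSub WE7A.enum.L = ⊤ := WE7.setup.letSub_all _ (by
    intro x hx
    have hx' : x < 7 := hx
    interval_cases x <;> decide +kernel)
  rw [htop] at h7
  haveI := h7.1
  refine ⟨Finite.of_equiv _ Subgroup.topEquiv.toEquiv, ?_⟩
  rw [← Nat.card_congr (Subgroup.topEquiv (G := WE7.setup.Grp)).toEquiv]
  exact h7.2.trans (by decide +kernel)

/-- The vector of a letter. -/
def vecOf (i : ℕ) : ℕ := genVecs.getD i 0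

theorem word_checks : (WE7.words.all fun w => (List.range 64).all fun x =>
    Nat.beq (tvs (w.map vecOf) x) x) = true := by
  decide +kernel

theorem transv_checks : ((List.range 63).all fun c => (transvWords.getD c []).all (fun i => Nat.blt i 7) &&
    (List.range 64).all fun x =>
      Nat.beq (tvs ((transvWords.getD c []).map vecOf) x) (tv (c + 1) x)) = true := by
  decide +kernel

theorem sq_checks : ((List.range 7).all fun i => (List.range 64).all fun x =>
    Nat.beq (tvs [vecOf i, vecOf i] x) x) = true := by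
  decide +kernel

theorem al_check : ((List.range 64).all fun x =>
    Nat.beq (tvs (alWord.map vecOf) x) (tv 4 x)) = true := by
  decide +kernel

theorem pair_checks : ((List.range 63).all fun d =>
    (List.range 64).all (fun x => Nat.beq (tvs [4, d + 1, 4, d + 1] x) x) ||
      (List.range 64).all fun x => Nat.beq (tvs [4, d + 1, 4] x) (tvs [d + 1, 4, d + 1] x))
    = true := by
  decide +kernel

theorem prodw_vec (w : List ℕ) : prodw (fun i => T (vecOf i)) w = Ts (w.map vecOf) := by
  simp [prodw, Ts, List.map_map, Function.comp_def]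

theorem Ts_eq_of_check {u v : List ℕ} (h : ∀ x, x < 64 → tvs u x = tvs v x) : Ts u = Ts v :=
  ext_dec fun c _ hc => by rw [Ts_mulVec, Ts_mulVec, h c hc]

theorem T_mul_self (i : ℕ) (hi : i < 7) : T (vecOf i) * T (vecOf i) = 1 := by
  have h := List.all_eq_true.1 sq_checks i (List.mem_range.2 hi)
  simp only [List.all_eq_true, List.mem_range, Nat.beq_eq] at h
  simpa [Ts] using Ts_eq_of_check (u := [vecOf i, vecOf i]) (v := []) h

/-- The map onto the symplectic group. -/
theorem exists_onto : ∃ ψ : WE7.setup.Grp →* SpK,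
    (∀ i < 7, ψ (WE7.setup.g i) = T (vecOf i)) ∧ Function.Surjective ψ ∧ Nat.card ψ.ker ≤ 2 := by
  obtain ⟨ψ, hψ⟩ := WE7.setup.exists_hom (K := SpK) (fun i => T (vecOf i))
    (fun i hi => T_mul_self i hi) (fun w hw => by
      rw [prodw_vec]
      have h := List.all_eq_true.1 word_checks w hw
      simp only [List.all_eq_true, List.mem_range, Nat.beq_eq] at h
      exact (Ts_eq_of_check (v := []) h).trans rfl)
  have hgen : ∀ c, 1 ≤ c → c < 64 → T c ∈ ψ.range := by
    intro c h1 h2
    have h := List.all_eq_true.1 transv_checks (c - 1) (List.mem_range.2 (by omega))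
    rw [show c - 1 + 1 = c by omega] at h
    simp only [Bool.and_eq_true, List.all_eq_true, List.mem_range, Nat.beq_eq, Nat.blt_eq] at h
    refine ⟨prodw WE7.setup.g (transvWords.getD (c - 1) []), ?_⟩
    rw [WE7.setup.hom_prodw ψ hψ _ h.1, prodw_vec,
      Ts_eq_of_check (v := [c]) (fun x hx => h.2 x hx)]
    simp [Ts]
  have hsurj : Function.Surjective ψ := by
    rw [← MonoidHom.range_eq_top, eq_top_iff, ← Forms.transvGroup_eq_top, Forms.transvGroup,
      Subgroup.closure_le]
    rintro A ⟨w, -, c, rfl⟩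
    obtain ⟨d, hd, rfl⟩ := dec_surjective w
    have hone : ∀ u : SpSixMult.V, ∀ e : SpSixMult.K, (u = 0 ∨ e = 0) → Forms.spTransv u e = 1 :=
      fun u e h => Forms.sp_ext fun x => by
        rw [show (Forms.spTransv u e).1 = Cfsg.sympTransvection 3 u e from rfl,
          Forms.sympTransvection_mulVec, OneMemClass.coe_one, Matrix.one_mulVec]
        rcases h with rfl | rfl <;> simp
    rcases (show c = 0 ∨ c = 1 from (by decide : ∀ c : SpSixMult.K, c = 0 ∨ c = 1) c) with
      rfl | rfl
    · rw [hone _ _ (Or.inr rfl)]; exact one_mem _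
    rcases Nat.eq_zero_or_pos d with rfl | h0
    · rw [hone _ _ (Or.inl dec_zero)]; exact one_mem _
    · exact hgen d h0 hd
  refine ⟨ψ, hψ, hsurj, ?_⟩
  obtain ⟨hfin, hle⟩ := we7_card_le
  have hm := Subgroup.card_mul_index ψ.ker
  rw [Subgroup.index_ker, MonoidHom.range_eq_top.2 hsurj, Subgroup.card_top, card_sp] at hm
  rw [← hm] at hle
  omega

/-- A transvection of the group as a product of words. -/
theorem T_four : Ts (alWord.map vecOf) = T 4 := by
  have h := al_check
  simp only [List.all_eq_true, List.mem_range, Nat.beq_eq] at h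
  rw [Ts_eq_of_check (v := [4]) (fun x hx => h x hx)]
  simp [Ts]

/-- The product with the transvection of centre 4 has order at most three. -/
theorem T_pair {d : ℕ} (hd : 1 ≤ d ∧ d < 64) :
    T 4 * T d * (T 4 * T d) = 1 ∨ T 4 * T d * T 4 = T d * T 4 * T d := by
  have h := List.all_eq_true.1 pair_checks (d - 1) (List.mem_range.2 (by omega))
  rw [show d - 1 + 1 = d by omega] at h
  simp only [Bool.or_eq_true, List.all_eq_true, List.mem_range, Nat.beq_eq] at h
  rcases h with h | h
  · left
    simpa [Ts, mul_assoc] using Ts_eq_of_check (u := [4, d, 4, d]) (v := []) h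
  · right
    simpa [Ts, mul_assoc] using Ts_eq_of_check h

theorem center_spK : Subgroup.center SpK = ⊥ :=
  Subgroup.eq_bot_of_card_eq _ (by rw [Forms4.card_center_Sp (by norm_num), ZMod.card]; rfl)

theorem normal_spK {N : Subgroup SpK} (hN : N.Normal) : N = ⊤ ∨ N = ⊥ := by
  haveI := hN
  rcases Forms4.normal_eq_top_or_le_center (m := 3) (F := SpSixMult.K) (by norm_num)
    (Forms4.commutator_Sp_eq_top (Or.inl le_rfl)) N with h | h
  · exact Or.inl h
  · exact Or.inr (le_bot_iff.1 (h.trans center_spK.le))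

theorem psp_of_spK : Nonempty (SpK ≃* Cfsg.PSp 3 SpSixMult.K) :=
  ⟨(QuotientGroup.quotientBot.symm.trans
    (QuotientGroup.quotientMulEquivOfEq center_spK.symm))⟩

end CfsgLib.AltTwelveCentraliser
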