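import Cfsg.Agent.AltTwelveCentraliser.SpPattern

/-!
Seven conjugates of the involution satisfying the Coxeter relations of type E7.
-/

set_option autoImplicit false

namespace CfsgLib.AltTwelveCentraliser

attribute [local irreducible] mulP pack nib okC enc

namespace Frame

variable {G : Type*} [Group G] {z : G}

/-- Six generators in the centraliser and a seventh. -/
noncomputable def seq (F : Frame z) (f : G) (i : ℕ) : G := if i = 5 then f else F.el (genC i)

variable {F : Frame z}

theorem lab_zero_of_conj {lab : ℕ → ℕ} (hlab : F.IsLabel lab) (hal : lab alC = 0) {c : ℕ}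
    (hc : okC c = true) (hsq : mulP c c = oneC) (h : IsConj z (F.el c)) : lab c = 0 := by
  refine (hlab.conj c alC hc hsq okC_alC ?_ (by rw [F.el_alC]; exact h.symm)).trans hal
  exact F.el_inj (okC_mulP okC_alC okC_alC) okC_oneC
    (by rw [F.el_mul okC_alC okC_alC, F.el_alC, F.z_sq, F.el_oneC])

theorem mem_dList {z' : G} {F' : Frame z'} (hlab : F'.IsLabel labT) {g : G}
    (hg : g * z' = z' * g) (hne : g ≠ z') (hconj : IsConj z' g) :
    ∃ c ∈ dList, okC c = true ∧ F'.el c = g := by
  obtain ⟨m, hm⟩ := isConj_iff.1 hconj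
  have hg2 : g * g = 1 := by rw [← hm, conj_mul, F'.z_sq]; group
  have hg1 : g ≠ 1 := fun h => F'.z_ne_one (conj_eq_one_iff.1 (hm.trans h))
  obtain ⟨c, hc, hok, rfl⟩ :=
    F'.exists_code_involution (Subgroup.mem_centralizer_singleton_iff.2 hg) hg2 hg1
  have hsq : mulP c c = oneC := F'.el_inj (okC_mulP hok hok) okC_oneC
    (by rw [F'.el_mul hok hok, hg2, F'.el_oneC])
  have h0 := F'.lab_zero_of_conj hlab (by decide +kernel) hok hsq hconj
  have hd := List.all_eq_true.1 dList_complete c hc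
  simp only [h0, Nat.beq_eq, Bool.or_eq_true, memN_iff, Bool.not_eq_true', Bool.eq_false_iff,
    ne_eq, not_true, false_or] at hd
  rcases hd with rfl | hd
  · exact absurd F'.el_alC hne
  · exact ⟨c, hd, hok, rfl⟩

theorem dList_spec {z' : G} {F' : Frame z'} (hlab : F'.IsLabel labT) {c : ℕ} (hc : c ∈ dList) :
    okC c = true ∧ mulP c c = oneC ∧ IsConj z' (F'.el c) := by
  have h := List.all_eq_true.1 dList_ok c hc
  simp only [Bool.and_eq_true, memN_iff, Nat.beq_eq] at h
  have h2 := List.all_eq_true.1 invList_ok c h.1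
  simp only [Bool.and_eq_true, Nat.beq_eq] at h2
  exact ⟨h2.1.1, h2.1.2, hlab.zero c h2.1.1 h2.1.2 h.2⟩

theorem el_braid {z' : G} (F' : Frame z') {x y : ℕ} (hx : x ∈ dList) (hy : y ∈ dList)
    (hok : okC x = true ∧ okC y = true) (hne : F'.el x * F'.el y ≠ F'.el y * F'.el x) :
    F'.el x * F'.el y * F'.el x = F'.el y * F'.el x * F'.el y := by
  have h := List.all_eq_true.1 (List.all_eq_true.1 braid_check x hx) y hy
  simp only [Bool.or_eq_true, Nat.beq_eq] at h
  have hb := h.resolve_left fun hc => hne ((F'.el_comm_iff hok.1 hok.2).1 hc)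
  have := congrArg F'.el hb
  rwa [F'.el_mul (okC_mulP hok.1 hok.2) hok.1, F'.el_mul hok.1 hok.2,
    F'.el_mul (okC_mulP hok.2 hok.1) hok.2, F'.el_mul hok.2 hok.1] at this

theorem genC_six : genC 0 = aC (sev 5) ∧ genC 1 = bC ∧ genC 2 = aC (sev 3) ∧ genC 3 = dC ∧
    genC 4 = aC (sev 1) ∧ genC 6 = aC (sev 2) := ⟨rfl, rfl, rfl, rfl, rfl, rfl⟩

theorem gen_spec {i : ℕ} (hi : i < 7) (h5 : i ≠ 5) : okC (genC i) = true ∧ labT (genC i) = 0 := by
  have h := List.all_eq_true.1 gen_ok i (List.mem_range.2 hi)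
  simp only [Bool.and_eq_true, Bool.or_eq_true, Nat.beq_eq] at h
  exact ⟨h.1, h.2.resolve_left h5⟩

theorem gen_pair (F : Frame z) {i j : ℕ} (hi : i < 7) (hj : j < 7) (hi5 : i ≠ 5) (hj5 : j ≠ 5) :
    (10 * i + j ∈ [1, 10, 12, 21, 23, 32, 34, 43, 36, 63] ∧
        F.el (genC i) * F.el (genC j) * F.el (genC i) =
          F.el (genC j) * F.el (genC i) * F.el (genC j) ∧
        F.el (genC i) * F.el (genC j) ≠ F.el (genC j) * F.el (genC i)) ∨
      (10 * i + j ∉ [1, 10, 12, 21, 23, 32, 34, 43, 36, 63] ∧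
        F.el (genC i) * F.el (genC j) = F.el (genC j) * F.el (genC i)) := by
  have h := List.all_eq_true.1 (List.all_eq_true.1 gen_rel i (List.mem_range.2 hi)) j
    (List.mem_range.2 hj)
  simp only [Bool.or_eq_true, Nat.beq_eq, hi5, hj5, false_or] at h
  have hoi := (gen_spec hi hi5).1
  have hoj := (gen_spec hj hj5).1
  rcases Bool.eq_false_or_eq_true (memN (10 * i + j) [1, 10, 12, 21, 23, 32, 34, 43, 36, 63]) with
    hm | hm <;> rw [hm] at h
  · simp only [cond_true, Bool.and_eq_true, Bool.not_eq_true', Nat.beq_eq] at h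
    refine Or.inl ⟨memN_iff.1 hm, ?_, fun hc => ?_⟩
    · have := congrArg F.el h.2
      rwa [F.el_mul (okC_mulP hoi hoj) hoi, F.el_mul hoi hoj, F.el_mul (okC_mulP hoj hoi) hoj,
        F.el_mul hoj hoi] at this
    · rw [(F.el_comm_iff hoi hoj).2 hc] at h; exact Bool.noConfusion h.1
  · refine Or.inr ⟨fun hc => ?_, (F.el_comm_iff hoi hoj).1 h⟩
    rw [memN_iff.2 hc] at hm; exact Bool.noConfusion hm

variable [Finite G]

/-- The relations to be satisfied by the seventh generator. -/
structure IsSeventh (F : Frame z) (f : G) : Prop where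
  conj : IsConj z f
  comm : ∀ i ∈ [0, 1, 2, 3, 6], f * F.el (genC i) = F.el (genC i) * f
  braid : f * F.el (genC 4) * f = F.el (genC 4) * f * F.el (genC 4)
  braid_z : f * z * f = z * f * z
  braid_a' : f * F.a (sev 6) * f = F.a (sev 6) * f * F.a (sev 6)
  ne_z : f * z ≠ z * f

set_option maxHeartbeats 800000 in
/-- After a twist, a seventh generator exists. -/
theorem exists_seventh (S : Sylow 2 G) (hS : (S : Subgroup G) ≤ Subgroup.centralizer ({z} : Set G))
    (hm : F.Marks mSp) : ∃ (F' : Frame z) (f : G), F'.Marks mSp ∧ F'.IsSeventh f := by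
  obtain ⟨F, hm, n, p, hp, hpe⟩ := F.exists_exchange S hS hm
  have hlab : F.IsLabel labT := F.isLabel_of_check S hS hm labT_aC labT_inv
  have hmark : ∀ i < 7, IsConj z (F.a (sev i)) := fun i hi =>
    (hm _ (sev_lt i)).1 (by interval_cases i <;> decide +kernel)
  have hp0 : ent p 0 = 5 := by
    have : ∀ q ∈ exchangeList, ent q 0 = 5 := by decide
    exact this p hpe
  have hn0 : n * z * n⁻¹ = F.a (sev 5) := by
    have := hp.act 0 (by norm_num)
    rwa [F.sev_zero, hp0] at this
  obtain ⟨F1, hF1⟩ : ∃ F1, F1 = F.moveTo n hn0 := ⟨_, rfl⟩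
  have hlab1 : F1.IsLabel labT := hF1 ▸ F.isLabel_moveTo hlab n hn0
  -- the known elements in the new frame
  have hmoved : ∀ j < 7, okC (moved p j) = true ∧ F1.el (moved p j) = F.a (sev j) := by
    have hkey : ∀ i < 7, okC (aC (sev i)) = true ∧
        F1.el (aC (sev i)) = F.a (sev (ent p i)) := fun i hi =>
      ⟨okC_aC (sev_lt i), by rw [hF1, F.moveTo_el]; exact hp.act i hi⟩
    intro j hj
    have hsur : ∀ q ∈ exchangeList, ∀ j < 7,
        ∃ i < 7, ent q i = j ∧ moved q j = aC (sev i) := by decide +kernel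
    obtain ⟨i, hi, hij, hmv⟩ := hsur p hpe j hj
    rw [hmv]
    exact ⟨(hkey i hi).1, (hkey i hi).2.trans (by rw [hij])⟩
  obtain ⟨g0, g1, g2, g3, g4, g6⟩ := genC_six
  have hcA : ∀ i < 7, ∀ j < 7, F.a (sev i) * F.a (sev j) = F.a (sev j) * F.a (sev i) :=
    fun i _ j _ => F.a_comm (sev_lt i) (sev_lt j)
  have hd0 : F.el dC * F.a (sev 5) = F.a (sev 5) * F.el dC := by
    have := ((F.gen_pair (i := 3) (j := 0) (by norm_num) (by norm_num) (by norm_num)
      (by norm_num)).resolve_left (fun h => absurd h.1 (by decide))).2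
    rwa [g3, g0] at this
  have hdconj : IsConj z (F.el dC) := by
    have h := gen_spec (i := 3) (by norm_num) (by norm_num)
    rw [g3] at h
    refine hlab.zero _ h.1 ?_ h.2
    decide +kernel
  obtain ⟨d1, hd1, hd1ok, hd1e⟩ := F1.mem_dList hlab1 hd0 (fun h => by
    have := F.el_inj (by decide +kernel) (okC_aC (sev_lt 5)) h
    revert this; decide +kernel) ((hmark 5 (by norm_num)).symm.trans hdconj)
  have hdrel : ∀ j ∈ [1, 2, 3], F.el dC * F.a (sev j) ≠ F.a (sev j) * F.el dC := by
    intro j hj h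
    have := (F.el_comm_iff (by decide +kernel) (okC_aC (sev_lt j))).2 h
    fin_cases hj <;> revert this <;> decide +kernel
  have hdrel' : ∀ j ∈ [0, 6], F.el dC * F.a (sev j) = F.a (sev j) * F.el dC := by
    intro j hj
    refine (F.el_comm_iff (by decide +kernel) (okC_aC (sev_lt j))).1 ?_
    fin_cases hj <;> decide +kernel
  have hpat : commC d1 (moved p 1) = false ∧ commC d1 (moved p 2) = false ∧
      commC d1 (moved p 3) = false ∧ commC d1 (moved p 0) = true ∧
      commC d1 (moved p 6) = true := by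
    have hneg : ∀ j ∈ [1, 2, 3], commC d1 (moved p j) = false := fun j hj => by
      have hj7 : j < 7 := by fin_cases hj <;> norm_num
      rw [← Bool.not_eq_true]
      intro h
      have := (F1.el_comm_iff hd1ok (hmoved j hj7).1).1 h
      rw [hd1e, (hmoved j hj7).2] at this
      exact hdrel j hj this
    have hpos : ∀ j ∈ [0, 6], commC d1 (moved p j) = true := fun j hj => by
      have hj7 : j < 7 := by fin_cases hj <;> norm_num
      refine (F1.el_comm_iff hd1ok (hmoved j hj7).1).2 ?_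
      rw [hd1e, (hmoved j hj7).2]
      exact hdrel' j hj
    exact ⟨hneg 1 (by simp), hneg 2 (by simp), hneg 3 (by simp), hpos 0 (by simp), hpos 6 (by simp)⟩
  have hex := List.all_eq_true.1 (List.all_eq_true.1 exists_f_check p hpe) d1 hd1
  obtain ⟨p1, p2, p3, p0, p6⟩ := hpat
  rw [p1, p2, p3, p0, p6] at hex
  simp only [Bool.not_true, Bool.or_false, Bool.false_or, List.any_eq_true, Bool.and_eq_true,
    Bool.not_eq_true'] at hex
  obtain ⟨fc, hfc, ⟨⟨⟨⟨hf0, hf6⟩, hf1⟩, hf3⟩, hfd⟩, hf2⟩ := hex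
  obtain ⟨hfok, -, hfconj⟩ := F1.dList_spec hlab1 hfc
  obtain ⟨f, hf⟩ : ∃ f, f = F1.el fc := ⟨_, rfl⟩
  have hfj : ∀ j < 7, (commC fc (moved p j) = true ↔ f * F.a (sev j) = F.a (sev j) * f) :=
    fun j hj => by
      rw [F1.el_comm_iff hfok (hmoved j hj).1, ← hf, (hmoved j hj).2]
  have hfa : f * F.a (sev 5) = F.a (sev 5) * f := by
    rw [hf]; exact Subgroup.mem_centralizer_singleton_iff.1 (F1.el_mem fc)
  have hfd' : f * F.el dC = F.el dC * f := by
    rw [hf, ← hd1e]; exact (F1.el_comm_iff hfok hd1ok).1 hfd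
  have hne : ∀ j ∈ [0, 1, 6], f * F.a (sev j) ≠ F.a (sev j) * f := by
    intro j hj h
    fin_cases hj
    · rw [(hfj 0 (by norm_num)).2 h] at hf0; exact Bool.noConfusion hf0
    · rw [(hfj 1 (by norm_num)).2 h] at hf1; exact Bool.noConfusion hf1
    · rw [(hfj 6 (by norm_num)).2 h] at hf6; exact Bool.noConfusion hf6
  have hz5 : IsConj (F.a (sev 5)) f := hf ▸ hfconj
  have hfz : IsConj z f := (hmark 5 (by norm_num)).trans hz5
  have hinA : ∀ j < 7, j ≠ 5 → ∃ c ∈ dList, okC c = true ∧ F1.el c = F.a (sev j) := fun j hj h5 =>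
    F1.mem_dList hlab1 (hcA j hj 5 (by norm_num))
      (fun h => h5 (sev_inj hj (by norm_num) (F.a_inj (sev_lt _) (sev_lt _) h)))
      ((hmark 5 (by norm_num)).symm.trans (hmark j hj))
  have hbr : ∀ j ∈ [0, 1, 6], f * F.a (sev j) * f = F.a (sev j) * f * F.a (sev j) := by
    intro j hj
    obtain ⟨c, hc, hok, hce⟩ := hinA j (by fin_cases hj <;> norm_num) (by fin_cases hj <;> norm_num)
    have := hne j hj
    rw [hf, ← hce] at this ⊢
    exact F1.el_braid hfc hc ⟨hfok, hok⟩ this
  -- the choice between `f` and its conjugate by the partner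
  obtain ⟨n2, hn2⟩ := isConj_iff.1 (hmark 2 (by norm_num))
  obtain ⟨F2, hF2⟩ : ∃ F2, F2 = F.moveTo n2 hn2 := ⟨_, rfl⟩
  have hlab2 : F2.IsLabel labT := hF2 ▸ F.isLabel_moveTo hlab n2 hn2
  have hfh : f * F.a (sev 2) = F.a (sev 2) * f := (hfj 2 (by norm_num)).1 hf2
  obtain ⟨f2, hf2m, hf2ok, hf2e⟩ := F2.mem_dList hlab2 hfh (fun h => hne 1 (by simp) (by
      rw [h]; exact hcA 2 (by norm_num) 1 (by norm_num)))
    ((hmark 2 (by norm_num)).symm.trans hfz)
  obtain ⟨w2, hw2m, hw2ok, hw2e⟩ := F2.mem_dList hlab2 (hcA 6 (by norm_num) 2 (by norm_num))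
    (fun h => absurd (sev_inj (by norm_num) (by norm_num)
      (F.a_inj (sev_lt _) (sev_lt _) h)) (by norm_num))
    ((hmark 2 (by norm_num)).symm.trans (hmark 6 (by norm_num)))
  have hbconj : IsConj z (F.el bC) := by
    have h := gen_spec (i := 1) (by norm_num) (by norm_num)
    rw [g1] at h
    refine hlab.zero _ h.1 ?_ h.2
    decide +kernel
  have hbh : F.el bC * F.a (sev 2) = F.a (sev 2) * F.el bC :=
    (F.el_comm_iff (by decide +kernel) (okC_aC (sev_lt 2))).1 (by decide +kernel)
  obtain ⟨b2, hb2m, hb2ok, hb2e⟩ := F2.mem_dList hlab2 hbh (fun h => by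
    have := F.el_inj (by decide +kernel) (okC_aC (sev_lt 2)) h
    revert this; decide +kernel) ((hmark 2 (by norm_num)).symm.trans hbconj)
  have hbw : F.el bC * F.a (sev 6) ≠ F.a (sev 6) * F.el bC := fun h => by
    have := (F.el_comm_iff (by decide +kernel) (okC_aC (sev_lt 6))).2 h
    revert this; decide +kernel
  have hflip := List.all_eq_true.1 (List.all_eq_true.1 flip_choice w2 hw2m) f2 hf2m
  have hfw : commC f2 w2 = false := by
    rw [← Bool.not_eq_true]
    intro h
    have := (F2.el_comm_iff hf2ok hw2ok).1 h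
    rw [hf2e, hw2e] at this
    exact hne 6 (by simp) this
  rw [hfw, Bool.false_or, List.all_eq_true] at hflip
  have hflip := hflip b2 hb2m
  have hbw2 : commC b2 w2 = false := by
    rw [← Bool.not_eq_true]
    intro h
    have := (F2.el_comm_iff hb2ok hw2ok).1 h
    rw [hb2e, hw2e] at this
    exact hbw this
  rw [hbw2, Bool.false_or] at hflip
  obtain ⟨w, hw⟩ : ∃ w, w = F.a (sev 6) := ⟨_, rfl⟩
  have hww : w * w = 1 := hw ▸ F.a_sq (sev_lt 6)
  have hchoice : f * F.el bC = F.el bC * f ∨ w * f * w * F.el bC = F.el bC * (w * f * w) := by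
    rcases Bool.eq_false_or_eq_true (commC f2 b2) with h | h
    · left
      have := (F2.el_comm_iff hf2ok hb2ok).1 h
      rwa [hf2e, hb2e] at this
    · right
      rw [h] at hflip
      have h' : commC f2 (mulP (mulP w2 b2) w2) = true := by simpa using hflip
      have := (F2.el_comm_iff hf2ok (okC_mulP (okC_mulP hw2ok hb2ok) hw2ok)).1 h'
      rw [F2.el_mul (okC_mulP hw2ok hb2ok) hw2ok, F2.el_mul hw2ok hb2ok, hf2e, hb2e, hw2e, ← hw]
        at this
      calc w * f * w * F.el bC = w * (f * (w * F.el bC * w)) * w := by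
            rw [show w * (f * (w * F.el bC * w)) * w = w * f * w * F.el bC * (w * w) by group, hww,
              mul_one]
        _ = w * (w * F.el bC * w * f) * w := by rw [this]
        _ = F.el bC * (w * f * w) := by
            rw [show w * (w * F.el bC * w * f) * w = w * w * (F.el bC * (w * f * w)) by group, hww,
              one_mul]
  have hwz : w * z = z * w := by
    rw [hw]; exact Subgroup.mem_centralizer_singleton_iff.1 (F.el_mem _)
  have hwA : ∀ j < 7, w * F.a (sev j) = F.a (sev j) * w := fun j hj =>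
    hw ▸ hcA 6 (by norm_num) j hj
  have hwd : w * F.el dC = F.el dC * w := hw ▸ (hdrel' 6 (by simp)).symm
  rcases hchoice with hb | hb
  · refine ⟨F, f, hm, hfz, ?_, ?_, ?_, hbr 6 (by simp), ?_⟩
    · intro i hi
      fin_cases hi
      · rw [g0]; exact hfa
      · rw [g1]; exact hb
      · rw [g2]; exact (hfj 3 (by norm_num)).1 hf3
      · rw [g3]; exact hfd'
      · rw [g6]; exact hfh
    · rw [g4]; exact hbr 1 (by simp)
    · have := hbr 0 (by simp)
      rwa [F.sev_zero] at this
    · have := hne 0 (by simp)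
      rwa [F.sev_zero] at this
  · have hwi : w⁻¹ = w := inv_eq_of_mul_eq_one_right hww
    have hconjw : ∀ x, w * x = x * w → w * f * w * x = w * (f * x) * w := fun x hx => by
      rw [mul_assoc (w * f), hx]; group
    have hconjw' : ∀ x, w * x = x * w → x * (w * f * w) = w * (x * f) * w := fun x hx => by
      rw [← mul_assoc x, ← mul_assoc x, ← hx]; group
    have hmove : ∀ x, w * x = x * w → f * x = x * f → w * f * w * x = x * (w * f * w) :=
      fun x h1 h2 => by rw [hconjw x h1, hconjw' x h1, h2]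
    have hbraid : ∀ x, w * x = x * w → f * x * f = x * f * x →
        w * f * w * x * (w * f * w) = x * (w * f * w) * x := fun x h1 h2 => by
      rw [hconjw x h1, hconjw' x h1, mul_assoc (w * (x * f)) w x, h1,
        show w * (f * x) * w * (w * f * w) = w * (f * x * (w * w) * f) * w by group, hww, mul_one,
        h2, ← mul_assoc (w * (x * f)), ← mul_assoc w]
    refine ⟨F, w * f * w, hm, ?_, ?_, ?_, hbraid z hwz ?_, ?_, ?_⟩
    · exact hfz.trans (isConj_iff.2 ⟨w, by rw [hwi]⟩)
    · intro i hi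
      fin_cases hi
      · rw [g0]; exact hmove _ (hwA 5 (by norm_num)) hfa
      · rw [g1]; exact hb
      · rw [g2]; exact hmove _ (hwA 3 (by norm_num)) ((hfj 3 (by norm_num)).1 hf3)
      · rw [g3]; exact hmove _ hwd hfd'
      · rw [g6]; exact hmove _ (hwA 2 (by norm_num)) hfh
    · rw [g4]; exact hbraid _ (hwA 1 (by norm_num)) (hbr 1 (by simp))
    · have := hbr 0 (by simp)
      rwa [F.sev_zero] at this
    · exact hw ▸ hbraid w rfl (hw.symm ▸ hbr 6 (by simp))
    · intro h
      rw [hconjw z hwz, hconjw' z hwz] at h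
      refine hne 0 (by simp) ?_
      rw [F.sev_zero]
      exact mul_left_cancel (mul_right_cancel h)

end Frame

end CfsgLib.AltTwelveCentraliser
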