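import Cfsg.Agent.AltTwelveCentraliser.SpGenerators
import Cfsg.Agent.AltTwelveCentraliser.SpCover
import Cfsg.Agent.AltTwelveCentraliser.Beta
import Cfsg.Agent.AltTwelveCentraliser.CoxHom
import Mathlib.GroupTheory.Perm.ClosureSwap

/-!
The seven generators generate a subgroup `Sp₆(2)` containing the centraliser.
-/

set_option autoImplicit false

namespace CfsgLib.AltTwelveCentraliser

attribute [local irreducible] mulP pack nib okC enc

open CfsgLib.CosetEnum hiding T
open CfsgLib.SpSixMult (Ts T)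

variable {G : Type*} [Group G] [Finite G] {z : G}

theorem braid_conj {X : Subgroup G} {x y : G} (hx : x ∈ X) (hy : y ∈ X) (hxx : x * x = 1)
    (hyy : y * y = 1) (h : x * y * x = y * x * y) : ∃ m ∈ X, m * x * m⁻¹ = y := by
  refine ⟨x * y, mul_mem hx hy, ?_⟩
  rw [h, mul_inv_rev, inv_eq_of_mul_eq_one_right hxx, inv_eq_of_mul_eq_one_right hyy,
    show y * x * y * (y * x) = y * (x * (y * y) * x) by group, hyy, mul_one, hxx, mul_one]

namespace Frame

variable {F : Frame z}

theorem el_sq_of_ok {c : ℕ} (hc : okC c = true) (hsq : mulP c c = oneC) : F.el c * F.el c = 1 := by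
  rw [← F.el_mul hc hc, hsq, F.el_oneC]

theorem genC_sq {i : ℕ} (hi : i < 7) (h5 : i ≠ 5) : F.el (genC i) * F.el (genC i) = 1 := by
  refine F.el_sq_of_ok (gen_spec hi h5).1 ?_
  interval_cases i <;> first | exact absurd rfl h5 | decide +kernel

theorem seventh_sq {f : G} (hf : F.IsSeventh f) : f * f = 1 := by
  obtain ⟨m, hm⟩ := isConj_iff.1 hf.conj
  rw [← hm, conj_mul, F.z_sq]; group

theorem seq_sq {f : G} (hf : F.IsSeventh f) {i : ℕ} (hi : i < 7) : F.seq f i * F.seq f i = 1 := by
  unfold seq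
  split
  · exact F.seventh_sq hf
  · exact F.genC_sq hi (by assumption)

/-- The three kinds of relation. -/
theorem seq_rel {f : G} (hf : F.IsSeventh f) {i j : ℕ} (hi : i < 7) (hj : j < 7) :
    (10 * i + j ∈ [1, 10, 12, 21, 23, 32, 34, 43, 36, 63, 45, 54] ∧
      F.seq f i * F.seq f j * F.seq f i = F.seq f j * F.seq f i * F.seq f j) ∨
    (10 * i + j ∉ [1, 10, 12, 21, 23, 32, 34, 43, 36, 63, 45, 54] ∧
      F.seq f i * F.seq f j = F.seq f j * F.seq f i) := by
  by_cases hi5 : i = 5
  · subst hi5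
    by_cases hj5 : j = 5
    · subst hj5; exact Or.inr ⟨by decide, rfl⟩
    simp only [seq, if_true, if_neg hj5]
    by_cases hj4 : j = 4
    · subst hj4; exact Or.inl ⟨by decide, hf.braid⟩
    · refine Or.inr ⟨by interval_cases j <;> first | contradiction | decide, hf.comm j ?_⟩
      interval_cases j <;> first | contradiction | decide
  by_cases hj5 : j = 5
  · subst hj5
    simp only [seq, if_neg hi5, if_true]
    by_cases hi4 : i = 4
    · subst hi4; exact Or.inl ⟨by decide, hf.braid.symm⟩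
    · refine Or.inr ⟨by interval_cases i <;> first | contradiction | decide, (hf.comm i ?_).symm⟩
      interval_cases i <;> first | contradiction | decide
  simp only [seq, if_neg hi5, if_neg hj5]
  rcases F.gen_pair hi hj hi5 hj5 with ⟨h1, h2, -⟩ | ⟨h1, h2⟩
  · exact Or.inl ⟨by simp only [List.mem_cons, List.not_mem_nil, or_false] at h1 ⊢; omega, h2⟩
  · exact Or.inr ⟨by simp only [List.mem_cons, List.not_mem_nil, or_false] at h1 ⊢; omega, h2⟩

theorem seq_words {f : G} (hf : F.IsSeventh f) :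
    ∀ w ∈ WE7.words, prodw (F.seq f) w = 1 := by
  intro w hw
  have hshape : ∀ w ∈ WE7.words, ∃ i < 7, ∃ j < 7, w = [i, i] ∨
      (w = [i, j, i, j] ∧ 10 * i + j ∉ [1, 10, 12, 21, 23, 32, 34, 43, 36, 63, 45, 54]) ∨
      (w = [i, j, i, j, i, j] ∧ 10 * i + j ∈ [1, 10, 12, 21, 23, 32, 34, 43, 36, 63, 45, 54]) := by
    decide +kernel
  obtain ⟨i, hi, j, hj, rfl | ⟨rfl, hn⟩ | ⟨rfl, hn⟩⟩ := hshape w hw
  · simp [prodw, F.seq_sq hf hi]
  · have h := (F.seq_rel hf hi hj).resolve_left fun h => hn h.1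
    simp only [prodw, List.map_cons, List.map_nil, List.prod_cons, List.prod_nil, mul_one]
    rw [show F.seq f i * (F.seq f j * (F.seq f i * F.seq f j)) =
        F.seq f i * F.seq f j * F.seq f i * F.seq f j by group, h.2, mul_assoc (F.seq f j),
      F.seq_sq hf hi, mul_one, F.seq_sq hf hj]
  · have h := (F.seq_rel hf hi hj).resolve_right fun h => h.1 hn
    simp only [prodw, List.map_cons, List.map_nil, List.prod_cons, List.prod_nil, mul_one]
    rw [show F.seq f i * (F.seq f j * (F.seq f i * (F.seq f j * (F.seq f i * F.seq f j)))) =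
      F.seq f i * F.seq f j * F.seq f i * (F.seq f j * F.seq f i * F.seq f j) by group, ← h.2,
      show F.seq f i * F.seq f j * F.seq f i * (F.seq f i * F.seq f j * F.seq f i) =
        F.seq f i * F.seq f j * (F.seq f i * F.seq f i) * F.seq f j * F.seq f i by group,
      F.seq_sq hf hi, mul_one, mul_assoc (F.seq f i), F.seq_sq hf hj, mul_one, F.seq_sq hf hi]

theorem okC_wordC : ∀ w : List ℕ, (∀ i ∈ w, i < 7 ∧ i ≠ 5) → okC (wordC w) = true
  | [], _ => okC_oneC
  | i :: w, h => okC_mulP (gen_spec (h i List.mem_cons_self).1 (h i List.mem_cons_self).2).1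
      (okC_wordC w fun j hj => h j (List.mem_cons_of_mem _ hj))

theorem el_wordC {f : G} : ∀ w : List ℕ, (∀ i ∈ w, i < 7 ∧ i ≠ 5) →
    F.el (wordC w) = prodw (F.seq f) w
  | [], _ => F.el_oneC
  | i :: w, h => by
    show F.el (mulP (genC i) (wordC w)) = _
    rw [F.el_mul (gen_spec (h i List.mem_cons_self).1 (h i List.mem_cons_self).2).1
      (okC_wordC w fun j hj => h j (List.mem_cons_of_mem _ hj)),
      el_wordC w fun j hj => h j (List.mem_cons_of_mem _ hj), prodw_cons, seq,
      if_neg (h i List.mem_cons_self).2]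

theorem alWord_lt : ∀ i ∈ alWord, i < 7 ∧ i ≠ 5 := by decide +kernel

theorem centralizer_le_of_gens {X : Subgroup G}
    (h : ∀ i, i < 7 → i ≠ 5 → F.el (genC i) ∈ X) :
    Subgroup.centralizer ({z} : Set G) ≤ X := by
  obtain ⟨H, hH⟩ : ∃ H : Subgroup ↥Cen, H = X.comap F.φ := ⟨_, rfl⟩
  have hmem : ∀ c, F.el c ∈ X → permC c ∈ H := fun c hc => by rw [hH]; exact hc
  have hword : ∀ w : List ℕ, (∀ i ∈ w, i < 7 ∧ i ≠ 5) → F.el (wordC w) ∈ X := by
    intro w
    induction w with
    | nil => intro _; rw [show wordC [] = oneC from rfl, F.el_oneC]; exact one_mem _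
    | cons i w ih =>
      intro hw
      show F.el (mulP (genC i) (wordC w)) ∈ X
      rw [F.el_mul (gen_spec (hw i List.mem_cons_self).1 (hw i List.mem_cons_self).2).1
        (okC_wordC w fun j hj => hw j (List.mem_cons_of_mem _ hj))]
      exact mul_mem (h i (hw i List.mem_cons_self).1 (hw i List.mem_cons_self).2)
        (ih fun j hj => hw j (List.mem_cons_of_mem _ hj))
  have hker : ∀ q ∈ pairPerm.ker, q ∈ H := by
    intro q hq
    have hpairs : ∀ i : Fin 6, nib (enc (q : Equiv.Perm (Fin 12))) (2 * i) / 2 = i := fun i => by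
      have h1 := congrArg Fin.val
        (DFunLike.congr_fun (show pairPerm q = 1 from hq) i)
      rw [show nib (enc (q : Equiv.Perm (Fin 12))) (2 * i) =
        ((q : Equiv.Perm (Fin 12)) ⟨2 * i, by omega⟩ : ℕ) from nib_enc _ ⟨2 * i, by omega⟩]
      exact h1
    have hs := scan_sound q.2 ?_ fix_scan
    · have hfl : enc (q : Equiv.Perm (Fin 12)) ∈ flipAll := by
        simp only [Bool.or_eq_true, List.any_eq_true, List.mem_range, memN_iff, Bool.not_eq_true',
          Bool.eq_false_iff, ne_eq, Nat.beq_eq] at hs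
        rcases hs with ⟨i, hi, h2⟩ | hs
        · exact absurd (hpairs ⟨i, hi⟩) h2
        · exact hs
      obtain ⟨b, hb, hbe⟩ := List.getElem_of_mem hfl
      have hb32 : b < 32 := lt_of_lt_of_eq hb (by decide +kernel)
      have hfw := List.all_eq_true.1 flipWords_eq b (List.mem_range.2 hb32)
      rw [Nat.beq_eq, List.getD_eq_getElem _ _ hb, hbe] at hfw
      have hwords : ∀ i < 5, ∀ j ∈ flipWords.getD i [], j < 7 ∧ j ≠ 5 := by decide +kernel
      have hfold : ∀ (l : List ℕ), (∀ i ∈ l, i < 5) → ∀ r, okC r = true → F.el r ∈ X →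
          okC (l.foldl (fun r i => mulP r (wordC (flipWords.getD i []))) r) = true ∧
          F.el (l.foldl (fun r i => mulP r (wordC (flipWords.getD i []))) r) ∈ X := by
        intro l
        induction l with
        | nil => intro _ r h1 h2; exact ⟨h1, h2⟩
        | cons i l ih =>
          intro hl r h1 h2
          have hw := hwords i (hl i List.mem_cons_self)
          exact ih (fun j hj => hl j (List.mem_cons_of_mem _ hj)) _
            (okC_mulP h1 (okC_wordC _ hw))
            (by rw [F.el_mul h1 (okC_wordC _ hw)]; exact mul_mem h2 (hword _ hw))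
      have := (hfold ((List.range 5).filter fun i => bitOn b i)
        (fun i hi => List.mem_range.1 (List.mem_filter.1 hi).1) oneC okC_oneC
        (F.el_oneC ▸ one_mem _)).2
      rw [← hfw] at this
      have := hmem _ this
      rwa [permC_enc] at this
    · intro k hk
      refine List.any_eq_false.2 fun i hi => ?_
      have hi' : i < k := List.mem_range.1 hi
      rw [nib_preC _ (by omega : 2 * i < 12), if_pos (by omega)]
      have h1 := hpairs ⟨i, by omega⟩
      rw [show nib (enc (q : Equiv.Perm (Fin 12))) (2 * i) =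
        ((q : Equiv.Perm (Fin 12)) ⟨2 * i, by omega⟩ : ℕ) from nib_enc _ ⟨2 * i, by omega⟩] at h1
      simp only [img, dif_pos (show 2 * i < 12 by omega), Bool.not_eq_true, Bool.not_eq_false',
        Nat.beq_eq]
      exact h1
  have hsurj : H.map pairPerm = ⊤ := by
    rw [eq_top_iff]
    intro π _
    have hπ : π ∈ Submonoid.closure
        (Set.range fun i : Fin 5 => Equiv.swap i.castSucc i.succ) := by
      rw [Equiv.Perm.mclosure_swap_castSucc_succ]; trivial
    induction hπ using Submonoid.closure_induction with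
    | mem x hx =>
      obtain ⟨i, rfl⟩ := hx
      obtain ⟨k, hk7, hk5, hk⟩ : ∃ k < 7, k ≠ 5 ∧ k = (i : ℕ) :=
        ⟨i, by omega, by omega, rfl⟩
      refine ⟨permC (genC k), hmem _ (h k hk7 hk5), Equiv.ext fun j => Fin.ext ?_⟩
      show ((permC (genC k) : Equiv.Perm (Fin 12)) ⟨2 * j, _⟩ : ℕ) / 2 = _
      rw [← nib_enc, enc_permC (gen_spec hk7 hk5).1]
      have hg := List.all_eq_true.1 (List.all_eq_true.1 gen_pairs k
        (List.mem_range.2 (by omega))) j (List.mem_range.2 j.2)
      rw [Nat.beq_eq] at hg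
      show nib (genC k) (2 * (j : ℕ)) / 2 = _
      rw [show nib (genC k) (2 * (j : ℕ)) / 2 = Nat.div (nib (genC k) (2 * (j : ℕ))) 2 from rfl, hg,
        hk]
      clear hg
      subst hk
      exact (show ∀ i : Fin 5, ∀ j : Fin 6,
        (bif Nat.beq (j : ℕ) i then (i : ℕ) + 1 else bif Nat.beq (j : ℕ) ((i : ℕ) + 1) then (i : ℕ)
          else j) = ((Equiv.swap i.castSucc i.succ j : Fin 6) : ℕ) by decide +kernel) i j
    | one => exact one_mem _
    | mul a b _ _ ha hb => exact mul_mem (ha trivial) (hb trivial)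
  intro g hg
  rw [← F.range_eq] at hg
  obtain ⟨σ, rfl⟩ := hg
  obtain ⟨τ, hτ, hτe⟩ : pairPerm σ ∈ H.map pairPerm := by rw [hsurj]; trivial
  have hq : τ⁻¹ * σ ∈ H := hker _ (by rw [MonoidHom.mem_ker, map_mul, map_inv, hτe]; group)
  have : σ ∈ H := by
    have h2 := mul_mem hτ hq
    rwa [mul_inv_cancel_left] at h2
  rw [hH] at this
  exact this

/-- A subgroup `Sp₆(2)` containing the centraliser. -/
theorem exists_sp_model (hm : F.Marks mSp) {f : G} (hf : F.IsSeventh f) :
    ∃ ρ : SpK →* G, Function.Injective ρ ∧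
      Subgroup.centralizer ({z} : Set G) ≤ ρ.range ∧ ρ (T 4) = z ∧
      ∀ i < 64, bitOn mSp i = true → ∃ y ∈ ρ.range, y * z * y⁻¹ = F.a i := by
  obtain ⟨χ, hχ⟩ := exists_hom_we7 (F.seq f) (fun i hi => F.seq_sq hf hi) (F.seq_words hf)
  obtain ⟨ψ, hψ, hsurj, hker⟩ := exists_onto
  haveI : Finite WE7.setup.Grp := we7_card_le.1
  have hgX : ∀ i, i < 7 → F.seq f i ∈ χ.range := fun i hi => ⟨_, hχ i hi⟩
  have hfX : f ∈ χ.range := by
    have := hgX 5 (by norm_num)
    rwa [seq, if_pos rfl] at this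
  have hgen : ∀ i, i < 7 → i ≠ 5 → F.el (genC i) ∈ χ.range := fun i hi h5 => by
    have := hgX i hi
    rwa [seq, if_neg h5] at this
  have hCX : Subgroup.centralizer ({z} : Set G) ≤ χ.range := F.centralizer_le_of_gens hgen
  have hzX : z ∈ χ.range := hCX (Subgroup.mem_centralizer_singleton_iff.2 rfl)
  have hkk : ψ.ker ≤ χ.ker := by
    intro k hk
    have hcen : ∀ w, w * k = k * w := fun w => by
      by_cases hk1 : k = 1
      · rw [hk1, one_mul, mul_one]
      have hck : w * k * w⁻¹ ∈ ψ.ker := (MonoidHom.normal_ker ψ).conj_mem k hk w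
      have : Fintype ψ.ker := Fintype.ofFinite _
      by_contra hne
      have h1 : (⟨w * k * w⁻¹, hck⟩ : ψ.ker) ≠ ⟨k, hk⟩ := fun e =>
        hne (mul_inv_eq_iff_eq_mul.1 (congrArg Subtype.val e))
      have h2 : (⟨w * k * w⁻¹, hck⟩ : ψ.ker) ≠ 1 := fun e =>
        hk1 (conj_eq_one_iff.1 (congrArg Subtype.val e))
      have h3 : (⟨k, hk⟩ : ψ.ker) ≠ 1 := fun e => hk1 (congrArg Subtype.val e)
      rw [Nat.card_eq_fintype_card] at hker
      classical
      have := Finset.card_le_univ
        ({⟨w * k * w⁻¹, hck⟩, ⟨k, hk⟩, 1} : Finset ψ.ker)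
      rw [Finset.card_eq_three.2 ⟨_, _, _, h1, h2, h3, rfl⟩] at this
      omega
    have hcX : ∀ x ∈ χ.range, x * χ k = χ k * x := by
      rintro _ ⟨w, rfl⟩
      rw [← map_mul, ← map_mul, hcen]
    have hkC : χ k ∈ Subgroup.centralizer ({z} : Set G) :=
      Subgroup.mem_centralizer_singleton_iff.2 (hcX z hzX).symm
    obtain ⟨σ, hσ⟩ : χ k ∈ F.φ.range := F.range_eq.symm ▸ hkC
    have hσc : σ ∈ Subgroup.center ↥Cen := Subgroup.mem_center_iff.2 fun τ => F.inj (by
      rw [map_mul, map_mul, hσ]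
      exact hcX _ (hCX (F.range_eq ▸ MonoidHom.mem_range.2 ⟨τ, rfl⟩)))
    rcases center_model hσc with h | h
    · rw [MonoidHom.mem_ker, ← hσ, h, map_one]
    · refine absurd (hcX f hfX) ?_
      rw [← hσ, h, F.map_al]
      exact hf.ne_z
  obtain ⟨ρ, hρdef⟩ : ∃ ρ, ρ = ψ.liftOfSurjective hsurj ⟨χ, hkk⟩ := ⟨_, rfl⟩
  have hρ : ∀ w, ρ (ψ w) = χ w := fun w => by
    rw [hρdef]; exact MonoidHom.liftOfRightInverse_comp_apply ψ _ _ ⟨χ, hkk⟩ w
  have hρr : ρ.range = χ.range := by
    ext x
    constructor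
    · rintro ⟨A, rfl⟩
      obtain ⟨w, rfl⟩ := hsurj A
      exact ⟨w, (hρ w).symm⟩
    · rintro ⟨w, rfl⟩
      exact ⟨ψ w, hρ w⟩
  have hρ4 : ρ (T 4) = z := by
    have h7 : ∀ x ∈ alWord, x < 7 := fun x hx => (alWord_lt x hx).1
    rw [← T_four, ← prodw_vec,
      ← WE7.setup.hom_prodw ψ hψ alWord h7, hρ, hom_we7_prod χ hχ alWord h7]
    show prodw (F.seq f) alWord = z
    rw [← F.el_wordC alWord alWord_lt, alWord_eq, F.el_alC]
  refine ⟨ρ, ?_, hρr ▸ hCX, hρ4, ?_⟩
  · rw [← MonoidHom.ker_eq_bot_iff]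
    refine (normal_spK (MonoidHom.normal_ker ρ)).resolve_left fun h => F.z_ne_one ?_
    rw [← hρ4]
    exact MonoidHom.mem_ker.1 (h ▸ Subgroup.mem_top _)
  -- the marked elements are conjugate within the image
  rw [hρr]
  have hff := F.seventh_sq hf
  have step : ∀ {x y : G}, (∃ m ∈ χ.range, m * z * m⁻¹ = x) → x ∈ χ.range → y ∈ χ.range →
      x * x = 1 → y * y = 1 → x * y * x = y * x * y → ∃ m ∈ χ.range, m * z * m⁻¹ = y := by
    rintro x y ⟨m, hm, hme⟩ hx hy hxx hyy hxy
    obtain ⟨m', hm', hme'⟩ := braid_conj hx hy hxx hyy hxy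
    exact ⟨m' * m, mul_mem hm' hm, by rw [← hme', ← hme]; group⟩
  have sq := fun {i : ℕ} (hi : i < 7) (h5 : i ≠ 5) => F.genC_sq hi h5
  have rel : ∀ {i j : ℕ}, i < 7 → j < 7 → i ≠ 5 → j ≠ 5 →
      10 * i + j ∈ [1, 10, 12, 21, 23, 32, 34, 43, 36, 63] →
      F.el (genC i) * F.el (genC j) * F.el (genC i) =
        F.el (genC j) * F.el (genC i) * F.el (genC j) := fun hi hj h5 h5' hm' =>
    ((F.gen_pair hi hj h5 h5').resolve_right fun h => h.1 hm').2.1
  have kf : ∃ m ∈ χ.range, m * z * m⁻¹ = f :=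
    step ⟨1, one_mem _, by group⟩ hzX hfX F.z_sq hff hf.braid_z.symm
  have k4 := step kf hfX (hgen 4 (by norm_num) (by norm_num)) hff
    (sq (by norm_num) (by norm_num)) hf.braid
  have k3 := step k4 (hgen 4 (by norm_num) (by norm_num)) (hgen 3 (by norm_num) (by norm_num))
    (sq (by norm_num) (by norm_num)) (sq (by norm_num) (by norm_num))
    (rel (by norm_num) (by norm_num) (by norm_num) (by norm_num) (by decide))
  have k6 := step k3 (hgen 3 (by norm_num) (by norm_num)) (hgen 6 (by norm_num) (by norm_num))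
    (sq (by norm_num) (by norm_num)) (sq (by norm_num) (by norm_num))
    (rel (by norm_num) (by norm_num) (by norm_num) (by norm_num) (by decide))
  have k2 := step k3 (hgen 3 (by norm_num) (by norm_num)) (hgen 2 (by norm_num) (by norm_num))
    (sq (by norm_num) (by norm_num)) (sq (by norm_num) (by norm_num))
    (rel (by norm_num) (by norm_num) (by norm_num) (by norm_num) (by decide))
  have k1 := step k2 (hgen 2 (by norm_num) (by norm_num)) (hgen 1 (by norm_num) (by norm_num))
    (sq (by norm_num) (by norm_num)) (sq (by norm_num) (by norm_num))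
    (rel (by norm_num) (by norm_num) (by norm_num) (by norm_num) (by decide))
  have k0 := step k1 (hgen 1 (by norm_num) (by norm_num)) (hgen 0 (by norm_num) (by norm_num))
    (sq (by norm_num) (by norm_num)) (sq (by norm_num) (by norm_num))
    (rel (by norm_num) (by norm_num) (by norm_num) (by norm_num) (by decide))
  have k12 : ∃ m ∈ χ.range, m * z * m⁻¹ = F.a (sev 4) := by
    refine step k3 (hgen 3 (by norm_num) (by norm_num))
      (hCX (F.el_mem _)) (sq (by norm_num) (by norm_num)) (F.a_sq (sev_lt 4)) ?_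
    have h : mulP (mulP (genC 3) (aC (sev 4))) (genC 3) =
        mulP (mulP (aC (sev 4)) (genC 3)) (aC (sev 4)) := by decide +kernel
    have h' := congrArg F.el h
    have o1 := (gen_spec (i := 3) (by norm_num) (by norm_num)).1
    have o2 := okC_aC (sev_lt 4)
    rwa [F.el_mul (okC_mulP o1 o2) o1, F.el_mul o1 o2, F.el_mul (okC_mulP o2 o1) o2,
      F.el_mul o2 o1] at h'
  have k48 : ∃ m ∈ χ.range, m * z * m⁻¹ = F.a (sev 6) :=
    step kf hfX (hCX (F.el_mem _)) hff (F.a_sq (sev_lt 6)) hf.braid_a'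
  intro i hi hb
  have h := List.all_eq_true.1 seven_marks i (List.mem_range.2 hi)
  rw [beq_iff_eq, hb, eq_comm, memN_iff] at h
  obtain ⟨g0, -, g2, -, g4, g6⟩ := genC_six
  obtain ⟨j, hj, rfl⟩ := mem_sevenList.1 h
  interval_cases j
  · exact ⟨1, one_mem _, by rw [F.sev_zero]; group⟩
  · rw [g4] at k4; exact k4
  · rw [g6] at k6; exact k6
  · rw [g2] at k2; exact k2
  · exact k12
  · rw [g0] at k0; exact k0
  · exact k48

end Frame

end CfsgLib.AltTwelveCentraliser
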