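import Cfsg.Agent.AltTwelveCentraliser.SpChecks
import Cfsg.Agent.AltTwelveCentraliser.LabelChecks
import Cfsg.Agent.AltTwelveCentraliser.Moves

/-!
An element of the normaliser of the subgroup of order 64 exchanging the involution with a second
conjugate; up to the odd automorphism of the model its action is one of four permutations.
-/

set_option autoImplicit false

namespace CfsgLib.AltTwelveCentraliser

attribute [local irreducible] mulP pack nib okC enc

theorem sev_lt (i : ℕ) : sev i < 64 := by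
  unfold sev
  rcases lt_or_ge i 7 with h | h
  · interval_cases i <;> decide
  · rw [List.getD_eq_default _ _ (by simpa [sevenList] using h)]; norm_num

theorem mem_sevenList {j : ℕ} : j ∈ sevenList ↔ ∃ i < 7, sev i = j := by
  constructor
  · intro h
    obtain ⟨i, hi, he⟩ := List.getElem_of_mem h
    exact ⟨i, by simpa [sevenList] using hi, by rw [sev, List.getD_eq_getElem _ _ hi, he]⟩
  · rintro ⟨i, hi, rfl⟩
    interval_cases i <;> decide

theorem sev_inj {i j : ℕ} (hi : i < 7) (hj : j < 7) (h : sev i = sev j) : i = j := by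
  have := List.all_eq_true.1 (List.all_eq_true.1 sev_nodup i (List.mem_range.2 hi)) j
    (List.mem_range.2 hj)
  simpa [Nat.beq_eq, h, Bool.eq_false_iff] using this

theorem eqL_iff : ∀ {a b : List ℕ}, eqL a b = true ↔ a = b
  | [], [] => by simp [eqL]
  | [], _ :: _ => by simp [eqL]
  | _ :: _, [] => by simp [eqL]
  | x :: a, y :: b => by simp [eqL, eqL_iff (a := a) (b := b), Nat.beq_eq]

theorem ent_cmp {p q : List ℕ} {i : ℕ} (hi : i < 7) : ent (cmp p q) i = ent p (ent q i) := by
  simp [cmp, ent, List.getD_eq_getElem?_getD, hi]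

theorem length_cmp (p q : List ℕ) : (cmp p q).length = 7 := by simp [cmp]

namespace Frame

variable {G : Type*} [Group G] {z : G}

/-- The element acts by the permutation on the seven marked elements. -/
structure IsAct (F : Frame z) (g : G) (p : List ℕ) : Prop where
  len : p.length = 7
  lt : ∀ i < 7, ent p i < 7
  act : ∀ i < 7, g * F.a (sev i) * g⁻¹ = F.a (sev (ent p i))

variable {F : Frame z}

theorem IsAct.mul {g h : G} {p q : List ℕ} (hp : F.IsAct g p) (hq : F.IsAct h q) :
    F.IsAct (g * h) (cmp p q) := by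
  refine ⟨length_cmp p q, fun i hi => ?_, fun i hi => ?_⟩
  · rw [ent_cmp hi]; exact hp.lt _ (hq.lt i hi)
  · rw [ent_cmp hi, ← hp.act _ (hq.lt i hi), ← hq.act i hi]; group

theorem IsAct.unique {g : G} {p q : List ℕ} (hp : F.IsAct g p) (hq : F.IsAct g q) : p = q := by
  refine List.ext_getElem (hp.len.trans hq.len.symm) fun i h1 h2 => ?_
  have hi : i < 7 := hp.len ▸ h1
  have h := F.a_inj (sev_lt _) (sev_lt _) ((hp.act i hi).symm.trans (hq.act i hi))
  have := sev_inj (hp.lt i hi) (hq.lt i hi) h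
  rwa [ent, ent, List.getD_eq_getElem _ _ h1, List.getD_eq_getElem _ _ h2] at this

theorem sev_zero : F.a (sev 0) = z := F.a_alI

theorem isAct_stab {k : List ℕ × ℕ × ℕ} (hk : k ∈ stabList) : F.IsAct (F.el k.2.1) k.1 := by
  have h := List.all_eq_true.1 stabList_ok k hk
  simp only [Bool.and_eq_true, List.all_eq_true, List.mem_range, Nat.beq_eq, Nat.blt_eq] at h
  obtain ⟨⟨⟨⟨hok, -⟩, -⟩, hlen⟩, hact⟩ := h
  refine ⟨hlen, fun i hi => (hact i hi).1, fun i hi => ?_⟩
  have h2 := congrArg F.el (hact i hi).2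
  rw [F.el_mul hok (okC_aC (sev_lt i)), F.el_mul (okC_aC (sev_lt _)) hok] at h2
  rw [a, a, h2, mul_inv_cancel_right]

/-- An element of the centraliser permuting the seven acts by a listed permutation. -/
theorem exists_stab {g : G} (hg : g ∈ Subgroup.centralizer ({z} : Set G)) {p : List ℕ}
    (hp : F.IsAct g p) : inStab p = true := by
  obtain ⟨c, hc, rfl⟩ := F.exists_code hg
  obtain ⟨σ, hσ, rfl⟩ := exists_perm hc
  have hcode : ∀ i < 7, mulP (enc σ) (aC (sev i)) = mulP (aC (sev (ent p i))) (enc σ) := by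
    intro i hi
    refine F.el_inj (okC_mulP hc (okC_aC (sev_lt i))) (okC_mulP (okC_aC (sev_lt _)) hc) ?_
    rw [F.el_mul hc (okC_aC (sev_lt i)), F.el_mul (okC_aC (sev_lt _)) hc]
    have := hp.act i hi
    rw [mul_inv_eq_iff_eq_mul] at this
    exact this
  have hs := scan_sound hσ ?_ stab_scan
  · have hall : (sevenList.all fun i => sevenList.any fun j =>
        Nat.beq (mulP (enc σ) (aC i)) (mulP (aC j) (enc σ))) = true := by
      simp only [List.all_eq_true, List.any_eq_true, Nat.beq_eq]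
      intro i hi
      obtain ⟨k, hk, rfl⟩ := mem_sevenList.1 hi
      exact ⟨_, mem_sevenList.2 ⟨_, hp.lt k hk, rfl⟩, hcode k hk⟩
    rw [hall] at hs
    simp only [Bool.not_true, Bool.false_or, List.any_eq_true, List.all_eq_true, List.mem_range,
      Nat.beq_eq] at hs
    obtain ⟨k, hk, hke⟩ := hs
    have h1 : F.IsAct (F.el (enc σ)) k.1 := by
      have h := List.all_eq_true.1 stabList_ok k hk
      simp only [Bool.and_eq_true, List.all_eq_true, List.mem_range, Nat.beq_eq, Nat.blt_eq] at h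
      refine ⟨h.1.2, fun i hi => (h.2 i hi).1, fun i hi => ?_⟩
      have h2 := congrArg F.el (hke i hi)
      rw [F.el_mul hc (okC_aC (sev_lt i)), F.el_mul (okC_aC (sev_lt _)) hc] at h2
      rw [a, a, h2, mul_inv_cancel_right]
    exact List.any_eq_true.2 ⟨k, hk, eqL_iff.2 (h1.unique hp)⟩
  · intro k hk
    refine List.any_eq_false.2 fun i hi => ?_
    rw [Bool.not_eq_true, List.all_eq_false]
    obtain ⟨t, ht, rfl⟩ := mem_sevenList.1 hi
    refine ⟨sev (ent p t), mem_sevenList.2 ⟨_, hp.lt t ht, rfl⟩, ?_⟩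
    rw [Bool.not_eq_true, List.any_eq_false]
    intro x hx
    have hx2 : x < 2 * k := List.mem_range.1 hx
    obtain ⟨u, hu, hue⟩ := exists_perm (okC_aC (sev_lt t))
    obtain ⟨v, hv, hve⟩ := exists_perm (okC_aC (sev_lt (ent p t)))
    have hrel : σ * u = v * σ := enc_injective (by
      rw [enc_mul, enc_mul, hue, hve]; exact hcode t ht)
    rw [← hue, ← hve, Bool.not_eq_true]
    unfold notMoveAt
    have hu' : nib (enc u) x = (u ⟨x, by omega⟩ : ℕ) := nib_enc u ⟨x, by omega⟩
    rw [hu', nib_preC σ (by omega : x < 12), if_pos hx2]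
    by_cases hb : (u ⟨x, by omega⟩ : ℕ) < 2 * k
    · rw [nib_preC σ (Fin.is_lt _), if_pos hb]
      have : img σ (u ⟨x, by omega⟩ : ℕ) = nib (enc v) (img σ x) := by
        simp only [img, dif_pos (show x < 12 by omega), Fin.is_lt, dite_true, Fin.eta]
        rw [nib_enc]
        exact congrArg Fin.val (DFunLike.congr_fun hrel (⟨x, by omega⟩ : Fin 12))
      simp [this]
    · simp [Nat.blt_eq, hb]

variable [Finite G]

theorem exists_act (hm : F.Marks mSp) {n : G} (hn : ∀ x ∈ F.elA, n * x * n⁻¹ ∈ F.elA) :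
    ∃ p, F.IsAct n p := by
  have hseven : ∀ j < 64, (bitOn mSp j = true ↔ j ∈ sevenList) := fun j hj => by
    have := List.all_eq_true.1 seven_marks j (List.mem_range.2 hj)
    rw [beq_iff_eq] at this
    rw [this, memN_iff]
  have key : ∀ i : Fin 7, ∃ k : Fin 7, n * F.a (sev i) * n⁻¹ = F.a (sev k) := by
    intro i
    obtain ⟨j, hj, he⟩ := hn _ ⟨sev i, sev_lt i, rfl⟩
    have hz : IsConj z (F.a j) :=
      ((hm _ (sev_lt i)).1 ((hseven _ (sev_lt i)).2 (mem_sevenList.2 ⟨i, i.2, rfl⟩))).trans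
        (isConj_iff.2 ⟨n, he.symm⟩)
    obtain ⟨k, hk, rfl⟩ := mem_sevenList.1 ((hseven j hj).1 ((hm j hj).2 hz))
    exact ⟨⟨k, hk⟩, he.symm⟩
  choose f hf using key
  refine ⟨List.ofFn fun i => (f i : ℕ), List.length_ofFn, fun i hi => ?_, fun i hi => ?_⟩
  · rw [ent, List.getD_eq_getElem _ _ (by simpa using hi), List.getElem_ofFn]; exact Fin.is_lt _
  · rw [ent, List.getD_eq_getElem _ _ (by simpa using hi), List.getElem_ofFn]
    exact hf ⟨i, hi⟩

theorem marks_flip (hm : F.Marks mSp) : F.flip.Marks mSp := by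
  intro i hi
  have h := List.all_eq_true.1 tauI_check i (List.mem_range.2 hi)
  simp only [Bool.and_eq_true, Nat.blt_eq, Nat.beq_eq, beq_iff_eq] at h
  rw [h.2, hm _ h.1.1]
  show _ ↔ IsConj z (F.flip.el (aC i))
  rw [F.flip_el (okC_aC hi), h.1.2]
  rfl

theorem flip_a {i : ℕ} (hi : i < 64) : F.flip.a i = F.a (tauI i) := by
  have h := List.all_eq_true.1 tauI_check i (List.mem_range.2 hi)
  simp only [Bool.and_eq_true, Nat.beq_eq] at h
  rw [a, a, F.flip_el (okC_aC hi), h.1.2]

omit [Finite G] in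
theorem stab_normalises {k : List ℕ × ℕ × ℕ} (hk : k ∈ stabList) :
    ∀ y ∈ F.elA, F.el k.2.1 * y * (F.el k.2.1)⁻¹ ∈ F.elA := by
  rintro _ ⟨i, hi, rfl⟩
  have h := List.all_eq_true.1 (List.all_eq_true.1 stab_normal k hk) i (List.mem_range.2 hi)
  obtain ⟨j, hj, he⟩ := mem_aList.1 (memN_iff.1 h)
  have ho := List.all_eq_true.1 stabList_ok k hk
  simp only [Bool.and_eq_true, Nat.beq_eq] at ho
  exact ⟨j, hj, by rw [a, a, he, F.el_conj ho.1.1.1.1 ho.1.1.1.2 (okC_aC hi) ho.1.1.2]⟩

omit [Finite G] in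
theorem conj_inv_mem [Finite G] {g : G} (hg : ∀ y ∈ F.elA, g * y * g⁻¹ ∈ F.elA) {x : G}
    (hx : x ∈ F.elA) : ∃ y ∈ F.elA, g * y * g⁻¹ = x := by
  have hle : F.elA.map (MulAut.conj g).toMonoidHom ≤ F.elA := by
    rintro _ ⟨y, hy, rfl⟩
    exact hg y hy
  have heq := Subgroup.eq_of_le_of_card_ge hle
    (le_of_eq (Subgroup.card_map_of_injective (MulAut.conj g).injective).symm)
  rw [← heq] at hx
  obtain ⟨y, hy, rfl⟩ := hx
  exact ⟨y, hy, rfl⟩

omit [Finite G] in
theorem exchOK_of_isAct {n : G} {p : List ℕ} (hp : F.IsAct n p) (hp0 : ent p 0 = 5)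
    (hp5 : ent p 5 = 0) : exchOK p = true := by
  have hn0 : n * z * n⁻¹ = F.a (sev 5) := by
    have := hp.act 0 (by norm_num)
    rwa [F.sev_zero, hp0] at this
  have hn5 : n * F.a (sev 5) * n⁻¹ = z := by rw [hp.act 5 (by norm_num), hp5, F.sev_zero]
  have hk0 : ∀ k ∈ stabList, F.el k.2.1 * z * (F.el k.2.1)⁻¹ = z := fun k _ => by
    rw [Subgroup.mem_centralizer_singleton_iff.1 (F.el_mem k.2.1), mul_inv_cancel_right]
  simp only [exchOK, Bool.and_eq_true, List.all_eq_true, Bool.or_eq_true, Bool.not_eq_true']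
  refine ⟨fun k hk => ?_, fun k hk => ?_⟩
  · rcases Bool.eq_false_or_eq_true (Nat.beq (ent k.1 5) 5) with h5 | h5
    · refine Or.inr (List.any_eq_true.2 ?_)
      rw [Nat.beq_eq] at h5
      have hk' := F.isAct_stab hk
      have hfix : F.el k.2.1 * F.a (sev 5) * (F.el k.2.1)⁻¹ = F.a (sev 5) := by
        rw [hk'.act 5 (by norm_num), h5]
      obtain ⟨g, hg⟩ : ∃ g, g = n * F.el k.2.1 * n⁻¹ := ⟨_, rfl⟩
      have hgz : g ∈ Subgroup.centralizer ({z} : Set G) := by
        rw [Subgroup.mem_centralizer_singleton_iff, ← mul_inv_eq_iff_eq_mul, hg,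
          show n * F.el k.2.1 * n⁻¹ * z * (n * F.el k.2.1 * n⁻¹)⁻¹ =
            n * (F.el k.2.1 * (n⁻¹ * z * n) * (F.el k.2.1)⁻¹) * n⁻¹ by group,
          show n⁻¹ * z * n = F.a (sev 5) by
            calc n⁻¹ * z * n = n⁻¹ * (n * F.a (sev 5) * n⁻¹) * n := by rw [hn5]
              _ = F.a (sev 5) := by group, hfix, hn5]
      have hinj : Function.Injective
          (fun i : Fin 7 => (⟨ent p i, hp.lt i i.2⟩ : Fin 7)) := fun i j h => by
        have h' : ent p i = ent p j := congrArg Fin.val h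
        exact Fin.ext (sev_inj i.2 j.2 (F.a_inj (sev_lt _) (sev_lt _) (mul_left_cancel
          (mul_right_cancel (((hp.act i i.2).trans (by rw [h'])).trans (hp.act j j.2).symm)))))
      choose q hq using fun j : Fin 7 => Finite.surjective_of_injective hinj j
      have hq' : ∀ j : Fin 7, ent p (q j) = j := fun j => congrArg Fin.val (hq j)
      have hgact : F.IsAct g (List.ofFn fun j : Fin 7 => ent p (ent k.1 (q j))) := by
        refine ⟨List.length_ofFn, fun i hi => ?_, fun i hi => ?_⟩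
        · rw [ent, List.getD_eq_getElem _ _ (by simpa using hi), List.getElem_ofFn]
          exact hp.lt _ (hk'.lt _ (Fin.is_lt _))
        · rw [ent, List.getD_eq_getElem _ _ (by simpa using hi), List.getElem_ofFn]
          have e1 := hp.act _ (q ⟨i, hi⟩).2
          rw [hq'] at e1
          rw [← e1, hg, ← hp.act _ (hk'.lt _ (Fin.is_lt _)), ← hk'.act _ (Fin.is_lt _)]
          group
      obtain ⟨k', hk'', hke⟩ := List.any_eq_true.1 (F.exists_stab hgz hgact)
      refine ⟨k', hk'', eqL_iff.2 ((hp.mul hk').unique ?_)⟩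
      have := hgact.mul hp
      rw [← eqL_iff.1 hke, hg, show n * F.el k.2.1 * n⁻¹ * n = n * F.el k.2.1 by group] at this
      exact this
    · exact Or.inl h5
  · rcases Bool.eq_false_or_eq_true (Nat.beq (ent k.1 5) 5) with h5 | h5
    · exact Or.inl h5
    refine Or.inr fun k2 hk2 => ?_
    rcases Bool.eq_false_or_eq_true (Nat.beq (ent k2.1 (ent p (ent k.1 5))) 5) with h2 | h2
    · refine Or.inr ?_
      rw [Nat.beq_eq] at h2
      have hk' := F.isAct_stab hk
      have hk2' := F.isAct_stab hk2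
      refine F.exists_stab (g := n * (F.el k2.2.1 * (n * (F.el k.2.1 * n)))) ?_
        (hp.mul (hk2'.mul (hp.mul (hk'.mul hp))))
      rw [Subgroup.mem_centralizer_singleton_iff, ← mul_inv_eq_iff_eq_mul,
        show n * (F.el k2.2.1 * (n * (F.el k.2.1 * n))) * z *
          (n * (F.el k2.2.1 * (n * (F.el k.2.1 * n))))⁻¹ =
          n * (F.el k2.2.1 * (n * (F.el k.2.1 * (n * z * n⁻¹) * (F.el k.2.1)⁻¹) * n⁻¹) *
            (F.el k2.2.1)⁻¹) * n⁻¹ by group,
        hn0, hk'.act 5 (by norm_num), hp.act _ (hk'.lt 5 (by norm_num)),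
        hk2'.act _ (hp.lt _ (hk'.lt 5 (by norm_num))), h2, hn5]
    · exact Or.inl h2

/-- An element exchanges `z` and the sixth marked element. -/
theorem exists_exchange (S : Sylow 2 G) (hS : (S : Subgroup G) ≤ Subgroup.centralizer ({z} : Set G))
    (hm : F.Marks mSp) :
    ∃ F' : Frame z, F'.Marks mSp ∧ ∃ n p, F'.IsAct n p ∧ p ∈ exchangeList := by
  have hconj : IsConj z (F.a (sev 5)) := (hm _ (sev_lt 5)).1 (by decide +kernel)
  obtain ⟨n1, hn1, he1⟩ := F.exists_normalising S hS F.z_mem_elA ⟨_, sev_lt 5, rfl⟩ hconj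
  obtain ⟨p1, hp1⟩ := F.exists_act hm hn1
  have hp10 : ent p1 0 = 5 := sev_inj (hp1.lt 0 (by norm_num)) (by norm_num)
    (F.a_inj (sev_lt _) (sev_lt _) (by rw [← hp1.act 0 (by norm_num), F.sev_zero, he1]))
  -- the position going to the first
  obtain ⟨i1, hi1, hi1e⟩ : ∃ i < 7, ent p1 i = 0 := by
    have hinj : Function.Injective
        (fun i : Fin 7 => (⟨ent p1 i, hp1.lt i i.2⟩ : Fin 7)) := fun i j h => by
      have h' : ent p1 i = ent p1 j := congrArg Fin.val h
      have := F.a_inj (sev_lt _) (sev_lt _) (mul_left_cancel (mul_right_cancel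
        (((hp1.act i i.2).trans (by rw [h'])).trans (hp1.act j j.2).symm)))
      exact Fin.ext (sev_inj i.2 j.2 this)
    obtain ⟨i, hi⟩ := Finite.surjective_of_injective hinj ⟨0, by norm_num⟩
    exact ⟨i, i.2, congrArg Fin.val hi⟩
  have hi10 : i1 ≠ 0 := fun h => by rw [h, hp10] at hi1e; exact absurd hi1e (by norm_num)
  have ht := List.all_eq_true.1 stab_transitive i1 (List.mem_range.2 hi1)
  simp only [Bool.or_eq_true, Nat.beq_eq, List.any_eq_true] at ht
  obtain ⟨k, hk, hki⟩ := ht.resolve_left hi10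
  have hk' := F.isAct_stab hk
  -- `n = n1 k⁻¹` exchanges
  obtain ⟨p, hp⟩ : ∃ p, F.IsAct (n1 * (F.el k.2.1)⁻¹) p := by
    refine F.exists_act hm fun x hx => ?_
    have hkA : ∀ y ∈ F.elA, F.el k.2.1 * y * (F.el k.2.1)⁻¹ ∈ F.elA :=
      F.stab_normalises hk
    obtain ⟨y, hy, hyx⟩ := F.conj_inv_mem hkA hx
    rw [← hyx, show n1 * (F.el k.2.1)⁻¹ * (F.el k.2.1 * y * (F.el k.2.1)⁻¹) *
      (n1 * (F.el k.2.1)⁻¹)⁻¹ = n1 * y * n1⁻¹ by group]
    exact hn1 y hy
  have hk0 : ent k.1 0 = 0 := sev_inj (hk'.lt 0 (by norm_num)) (by norm_num)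
    (F.a_inj (sev_lt _) (sev_lt _) (by
      rw [← hk'.act 0 (by norm_num), F.sev_zero,
        Subgroup.mem_centralizer_singleton_iff.1 (F.el_mem k.2.1), mul_inv_cancel_right]))
  have hcomp : cmp p k.1 = p1 := by
    have h := hp.mul hk'
    rw [show n1 * (F.el k.2.1)⁻¹ * F.el k.2.1 = n1 by group] at h
    exact h.unique hp1
  have hp0 : ent p 0 = 5 := by
    rw [← hp10, ← hcomp, ent_cmp (by norm_num), hk0]
  have hp5 : ent p 5 = 0 := by
    rw [← hi1e, ← hcomp, ent_cmp hi1, hki]
  have hok := F.exchOK_of_isAct hp hp0 hp5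
  obtain ⟨p', hp'⟩ : ∃ p' : List ℕ, p' = p := ⟨p, rfl⟩
  have hlist : p = [5, ent p 1, ent p 2, ent p 3, ent p 4, 0, ent p 6] := by
    refine List.ext_getElem (by rw [hp.len]; rfl) fun i h1 h2 => ?_
    have hi : i < 7 := hp.len ▸ h1
    have he : p[i] = ent p i := (List.getD_eq_getElem _ _ h1).symm
    interval_cases i <;> simp [he, hp0, hp5]
  have hinj : ∀ i j, i < 7 → j < 7 → ent p i = ent p j → i = j := fun i j hi hj h =>
    sev_inj hi hj (F.a_inj (sev_lt _) (sev_lt _) (mul_left_cancel (mul_right_cancel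
      (((hp.act i hi).trans (by rw [h])).trans (hp.act j hj).symm))))
  have hfree : ∀ i, i < 7 → i ≠ 0 → i ≠ 5 → ent p i ∈ freeVals := fun i hi h0 h5 => by
    have h1 : ent p i ≠ 5 := fun h => h0 (hinj i 0 hi (by norm_num) (h.trans hp0.symm))
    have h2 : ent p i ≠ 0 := fun h => h5 (hinj i 5 hi (by norm_num) (h.trans hp5.symm))
    have h3 := hp.lt i hi
    simp only [freeVals, List.mem_cons, List.not_mem_nil, or_false]
    omega
  have hne : ∀ i j, i < 7 → j < 7 → i ≠ j → ent p i ≠ ent p j := fun i j hi hj hij h =>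
    hij (hinj i j hi hj h)
  have hc := exch_cases
  simp only [List.all_eq_true, Bool.or_eq_true, Nat.beq_eq, memN_iff, List.mem_cons,
    List.not_mem_nil, or_false, Bool.not_eq_true'] at hc
  have hc1 := (hc _ (hfree 1 (by norm_num) (by norm_num) (by norm_num)) _
    (hfree 2 (by norm_num) (by norm_num) (by norm_num))).resolve_left
    (hne 1 2 (by norm_num) (by norm_num) (by norm_num))
  have hc2 := (hc1 _ (hfree 3 (by norm_num) (by norm_num) (by norm_num))).resolve_left
    (fun h => h.elim (hne 3 1 (by norm_num) (by norm_num) (by norm_num))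
      (hne 3 2 (by norm_num) (by norm_num) (by norm_num)))
  have hc3 := (hc2 _ (hfree 4 (by norm_num) (by norm_num) (by norm_num))).resolve_left
    (fun h => h.elim (hne 4 1 (by norm_num) (by norm_num) (by norm_num))
      (fun h => h.elim (hne 4 2 (by norm_num) (by norm_num) (by norm_num))
        (hne 4 3 (by norm_num) (by norm_num) (by norm_num))))
  have hc4 := hc3 _ (hfree 6 (by norm_num) (by norm_num) (by norm_num))
  rw [← hlist, hok] at hc4
  rcases hc4 with ((h | h) | h) | h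
  · exfalso
    rcases h with h | h | h | h
    · exact hne 6 1 (by norm_num) (by norm_num) (by norm_num) h
    · exact hne 6 2 (by norm_num) (by norm_num) (by norm_num) h
    · exact hne 6 3 (by norm_num) (by norm_num) (by norm_num) h
    · exact hne 6 4 (by norm_num) (by norm_num) (by norm_num) h
  · exact absurd h (by decide)
  · obtain ⟨q, hq, hqe⟩ := List.any_eq_true.1 h
    exact ⟨F, hm, _, p, hp, eqL_iff.1 hqe ▸ hq⟩
  · obtain ⟨q, hq, hqe⟩ := List.any_eq_true.1 h
    refine ⟨F.flip, F.marks_flip hm, n1 * (F.el k.2.1)⁻¹, cmp tauP (cmp p tauP), ?_,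
      eqL_iff.1 hqe ▸ hq⟩
    have htau : ∀ i < 7, ent tauP i < 7 ∧ tauI (sev i) = sev (ent tauP i) := fun i hi => by
      refine ⟨by interval_cases i <;> decide, ?_⟩
      exact Nat.beq_eq.mp (List.all_eq_true.1 tauI_seven i (List.mem_range.2 hi))
    refine ⟨length_cmp _ _, fun i hi => ?_, fun i hi => ?_⟩
    · rw [ent_cmp hi, ent_cmp hi]
      exact (htau _ (hp.lt _ (htau i hi).1)).1
    · have hj := hp.lt _ (htau i hi).1
      have htt : ∀ x < 64, tauI (tauI x) = x := by decide +kernel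
      rw [ent_cmp hi, ent_cmp hi, F.flip_a (sev_lt i), F.flip_a (sev_lt _), (htau i hi).2,
        hp.act _ (htau i hi).1, ← (htau _ hj).2, htt _ (sev_lt _)]

end Frame

end CfsgLib.AltTwelveCentraliser
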