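import Cfsg.Agent.AltTwelveCentraliser.SpModel
import Cfsg.Agent.AltTwelveCentraliser.Flips
import Mathlib.GroupTheory.FixedPointFree

/-!
An odd subgroup normalised by the centraliser of `z` and an element labelled one, centralising
that element, is inverted by `z`.
-/

set_option autoImplicit false
set_option maxRecDepth 100000

namespace CfsgLib.AltTwelveCentraliser

/-- The exchanges inside the pairs of the first and of the second block. -/
def blockFlips : List ℕ := [0xba9876542301, 0xba9867453210]

/-- The eighth power is trivial. -/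
def eighthOne (c : ℕ) : Bool :=
  let s := mulP c c
  let t := mulP s s
  Nat.beq (mulP t t) oneC

theorem blockFlips_comm : (blockFlips.all fun q => (List.range 64).all fun j =>
    commC q (aC j)) = true := by
  decide +kernel

theorem blockFlips_scan : scan (pruneBy fun k c i => blockFlips.any fun q => notCommAt q k c i)
    (fun c => !(blockFlips.all fun q => commC c q) || eighthOne c) 6 0 0 = true := by
  decide +kernel

theorem blockFlips_ok : (blockFlips.all fun q => okC q && (List.range 6).all fun i =>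
    Nat.beq (Nat.div (nib q (2 * i)) 2) i) = true := by
  decide +kernel

attribute [local irreducible] mulP pack nib okC enc

namespace Frame

variable {G : Type*} [Group G] [Finite G] {z : G}

theorem odd_eq_one (F : Frame z) {j : ℕ} (hj : j < 64) {Q : Subgroup G}
    (hodd : Odd (Nat.card Q))
    (hnorm : ∀ q : G, q * z = z * q → q * F.a j = F.a j * q → ∀ x ∈ Q, q * x * q⁻¹ ∈ Q)
    {x : G} (hx : x ∈ Q) (hxz : x * z = z * x) (hxj : x * F.a j = F.a j * x) : x = 1 := by
  obtain ⟨σ, hσ⟩ : x ∈ F.φ.range :=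
    F.range_eq.symm ▸ Subgroup.mem_centralizer_singleton_iff.2 hxz
  have hinv : ∀ y ∈ Q, y * y = 1 → y = 1 := by
    intro y hy hyy
    rcases (Nat.dvd_prime Nat.prime_two).1
      (orderOf_dvd_of_pow_eq_one (x := y) (n := 2) (by rw [pow_two]; exact hyy)) with h | h
    · exact orderOf_eq_one_iff.1 h
    · have h3 := orderOf_dvd_natCard (⟨y, hy⟩ : Q)
      rw [Subgroup.orderOf_mk, h] at h3
      exact absurd h3 hodd.not_two_dvd_nat
  have hok : okC (enc (σ : Equiv.Perm (Fin 12))) = true := okC_coe σ
  have hel : F.el (enc (σ : Equiv.Perm (Fin 12))) = x := by rw [el, permC_enc, hσ]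
  have hcomm : ∀ q ∈ blockFlips,
      commC (enc (σ : Equiv.Perm (Fin 12))) q = true := by
    intro q hq
    have hqj : commC q (aC j) = true :=
      List.all_eq_true.1 (List.all_eq_true.1 blockFlips_comm q hq) j (List.mem_range.2 hj)
    have h := List.all_eq_true.1 blockFlips_ok q hq
    simp only [Bool.and_eq_true, List.all_eq_true, List.mem_range, Nat.beq_eq] at h
    have hker : permC q ∈ pairPerm.ker := MonoidHom.mem_ker.2 (Equiv.ext fun i => Fin.ext (by
      show ((permC q : Equiv.Perm (Fin 12)) ⟨2 * i, _⟩ : ℕ) / 2 = i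
      rw [← nib_enc, enc_permC h.1]
      exact h.2 i i.2))
    have hm : σ * permC q * σ⁻¹ * (permC q)⁻¹ ∈ pairPerm.ker := by
      rw [MonoidHom.mem_ker] at hker ⊢
      simp [hker]
    have hsq := mul_self_of_mem_ker hm
    have hqz : F.el q * z = z * F.el q := Subgroup.mem_centralizer_singleton_iff.1 (F.el_mem q)
    have hqa : F.el q * F.a j = F.a j * F.el q := (F.el_comm_iff h.1 (okC_aC hj)).1 hqj
    have hQ : x * F.el q * x⁻¹ * (F.el q)⁻¹ ∈ Q := by
      rw [mul_assoc x, mul_assoc x]
      exact mul_mem hx (hnorm _ hqz hqa _ (inv_mem hx))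
    have hone := hinv _ hQ (by
      rw [← hσ, el, ← map_inv, ← map_inv, ← map_mul, ← map_mul, ← map_mul, ← map_mul, hsq, map_one])
    refine (F.el_comm_iff hok h.1).2 ?_
    rw [hel]
    exact mul_inv_eq_iff_eq_mul.1 (mul_inv_eq_one.1 hone)
  have hleaf := scan_sound σ.2 ?_ blockFlips_scan
  · have hall : (blockFlips.all fun q => commC (enc (σ : Equiv.Perm (Fin 12))) q) = true :=
      List.all_eq_true.2 hcomm
    rw [hall] at hleaf
    simp only [Bool.not_true, Bool.false_or, eighthOne, Nat.beq_eq] at hleaf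
    have h8 := congrArg F.el hleaf
    rw [F.el_oneC, F.el_mul (okC_mulP (okC_mulP hok hok) (okC_mulP hok hok))
      (okC_mulP (okC_mulP hok hok) (okC_mulP hok hok)), F.el_mul (okC_mulP hok hok)
      (okC_mulP hok hok), F.el_mul hok hok, hel] at h8
    have h4 := hinv _ (mul_mem (mul_mem hx hx) (mul_mem hx hx)) h8
    exact hinv _ hx (hinv _ (mul_mem hx hx) h4)
  · intro k hk
    refine pruneBy_false fun i hi => List.any_eq_false.2 fun q hq => ?_
    have hqok := List.all_eq_true.1 blockFlips_ok q hq
    simp only [Bool.and_eq_true] at hqok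
    obtain ⟨τ, hτ, hτe⟩ := exists_perm hqok.1
    have hc := commC_iff.1 (hcomm q hq)
    rw [← hτe] at hc
    rw [← hτe, notCommAt_false (enc_injective (by rw [enc_mul, enc_mul, hc])) hk hi]
    simp

/-- With the same hypotheses `z` inverts the subgroup. -/
theorem inverts (F : Frame z) {j : ℕ} (hj : j < 64) {Q : Subgroup G}
    (hodd : Odd (Nat.card Q)) (hcen : ∀ x ∈ Q, x * F.a j = F.a j * x)
    (hnorm : ∀ q : G, q * F.a j = F.a j * q → ∀ x ∈ Q, q * x * q⁻¹ ∈ Q) :
    ∀ x ∈ Q, z * x * z⁻¹ = x⁻¹ := by
  have hzj : z * F.a j = F.a j * z := (Subgroup.mem_centralizer_singleton_iff.1 (F.el_mem _)).symm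
  let f : ↥Q →* ↥Q :=
    ((MulAut.conj z).toMonoidHom.comp Q.subtype).codRestrict _ fun x => hnorm z hzj _ x.2
  have hf : MonoidHom.FixedPointFree f := fun x hx => Subtype.ext (F.odd_eq_one hj hodd
    (fun q _ hq => hnorm q hq) x.2 (by
      have h : z * (x : G) * z⁻¹ = x := congrArg Subtype.val hx
      exact (mul_inv_eq_iff_eq_mul.1 h).symm) (hcen _ x.2))
  have hinv : Function.Involutive f := fun x => Subtype.ext (by
    show z * (z * (x : G) * z⁻¹) * z⁻¹ = x
    rw [show z * (z * (x : G) * z⁻¹) * z⁻¹ = (z * z) * x * (z * z)⁻¹ by group, F.z_sq]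
    group)
  intro x hx
  exact congrArg Subtype.val (congrFun (hf.coe_eq_inv_of_involutive hinv) ⟨x, hx⟩)

end Frame

end CfsgLib.AltTwelveCentraliser
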