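import Cfsg.Agent.AltTwelveCentraliser.Checks
import Cfsg.Agent.AltTwelveCentraliser.DataSylow

/-!
Computed facts about the Sylow 2-subgroup of the model.
-/

set_option autoImplicit false
set_option maxRecDepth 100000

namespace CfsgLib.AltTwelveCentraliser

/-- Whether the place `i` leaves its quadruple or moves the last quadruple. -/
def offBlock (c i : ℕ) : Bool :=
  !(Nat.beq (Nat.div (nib c i) 4) (Nat.div (nib c (Nat.mul 4 (Nat.div i 4))) 4)) ||
    (Nat.beq (Nat.div i 4) 2 && !(Nat.beq (Nat.div (nib c i) 4) 2))

/-- Whether a code respects the quadruples. -/
def inS (c : ℕ) : Bool := (List.range 12).all fun i => !(offBlock c i)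

/-- Whether a list of at most 64 commuting involutions, closed under products, can extend to 64
elements by the candidates. -/
def hasBig : ℕ → List ℕ → List ℕ → Bool
  | 0, _, _ => true
  | f + 1, bs, cand => !(Nat.blt (Nat.add bs.length cand.length) 64) &&
      (Nat.ble 64 bs.length ||
        match cand with
        | [] => false
        | w :: t =>
          (let nb := bs.map (mulP w)
           hasBig f (bs ++ nb) (t.filter fun y => commC w y && !(memN y nb))) ||
            hasBig f bs t)

theorem sList_scan : scan (pruneBy fun k c i =>
    Nat.blt (Nat.mul 4 (Nat.div i 4)) (Nat.mul 2 k) && offBlock c i)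
      (fun c => !(inS c) || memN c sList) 6 0 0 = true := by
  decide +kernel

theorem sList_ok : (sList.all fun c => okC c && inS c &&
    (!(Nat.beq (mulP c c) oneC) || Nat.beq c oneC || memN c sInvList)) = true := by
  decide +kernel

theorem sList_nodup : sList.length = 512 ∧ sList.Nodup := by decide +kernel

theorem sList_sq_ne : (sList.all fun c => !(Nat.beq (mulP c c) alC)) = true := by decide +kernel

theorem aC_inS : ((List.range 64).all fun i => inS (aC i)) = true := by decide +kernel

/-- No involution of the Sylow subgroup outside the given subgroup lies in such a subgroup. -/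
theorem unique_check : (sInvList.all fun x => memN x aList ||
    !(hasBig 200 [oneC, x] (sInvList.filter fun y => commC x y && !(Nat.beq x y)))) = true := by
  decide +kernel

end CfsgLib.AltTwelveCentraliser
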