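import Cfsg.Agent.AltTwelveCentraliser.SylowChecks

/-!
A Sylow 2-subgroup of the model and its only elementary abelian subgroup of order 64.
-/

set_option autoImplicit false
set_option maxRecDepth 100000

namespace CfsgLib.AltTwelveCentraliser

open Equiv

theorem offBlock_enc_false {σ : Perm (Fin 12)} {i : Fin 12} :
    offBlock (enc σ) i = false ↔
      (σ i : ℕ) / 4 = (σ ⟨4 * ((i : ℕ) / 4), by omega⟩ : ℕ) / 4 ∧
        ((i : ℕ) / 4 = 2 → (σ i : ℕ) / 4 = 2) := by
  have h : nib (enc σ) (4 * ((i : ℕ) / 4)) = (σ ⟨4 * ((i : ℕ) / 4), by omega⟩ : ℕ) :=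
    nib_enc σ ⟨_, by omega⟩
  unfold offBlock
  simp only [Nat.mul_eq]
  rw [nib_enc]
  simp only [show Nat.div (i : ℕ) 4 = (i : ℕ) / 4 from rfl, h]
  simp [Nat.beq_eq, Bool.or_eq_false_iff]
  exact Iff.rfl

theorem inS_enc_iff {σ : Perm (Fin 12)} :
    inS (enc σ) = true ↔ ∀ i : Fin 12, offBlock (enc σ) i = false := by
  simp only [inS, List.all_eq_true, List.mem_range, Bool.not_eq_true']
  exact ⟨fun h i => h i i.2, fun h i hi => h ⟨i, hi⟩⟩

theorem inS_mul {σ τ : Perm (Fin 12)} (hσ : inS (enc σ) = true) (hτ : inS (enc τ) = true) :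
    inS (enc (σ * τ)) = true := by
  rw [inS_enc_iff] at hσ hτ ⊢
  intro i
  rw [offBlock_enc_false]
  obtain ⟨t1, t2⟩ := offBlock_enc_false.1 (hτ i)
  have key : ∀ x y : Fin 12, (x : ℕ) / 4 = (y : ℕ) / 4 → (σ x : ℕ) / 4 = (σ y : ℕ) / 4 := by
    intro x y h
    rw [(offBlock_enc_false.1 (hσ x)).1, (offBlock_enc_false.1 (hσ y)).1]
    simp only [h]
  refine ⟨key _ _ t1, fun h => ?_⟩
  exact (offBlock_enc_false.1 (hσ (τ i))).2 (t2 h)

theorem mem_sList {σ : Perm (Fin 12)} (hσ : σ ∈ Cen) (h : inS (enc σ) = true) :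
    enc σ ∈ sList := by
  have hs := scan_sound hσ ?_ sList_scan
  · rw [h] at hs
    exact memN_iff.1 (by simpa using hs)
  · intro k hk
    refine pruneBy_false fun i hi => ?_
    have hi12 : i < 12 := by omega
    by_cases hb : 4 * (i / 4) < 2 * k
    · have e : offBlock (preC σ k) i = offBlock (enc σ) i := by
        have e1 : nib (preC σ k) i = nib (enc σ) i := by
          rw [nib_preC σ hi12, if_pos hi, nib_enc σ ⟨i, hi12⟩]; simp [img, hi12]
        have e2 : nib (preC σ k) (Nat.mul 4 (Nat.div i 4)) =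
            nib (enc σ) (Nat.mul 4 (Nat.div i 4)) := by
          show nib (preC σ k) (4 * (i / 4)) = nib (enc σ) (4 * (i / 4))
          rw [nib_preC σ (show 4 * (i / 4) < 12 by omega), if_pos hb]
          rw [nib_enc σ ⟨4 * (i / 4), by omega⟩]
          simp [img, show 4 * (i / 4) < 12 by omega]
        simp only [offBlock, e1, e2]
      rw [e, inS_enc_iff.1 h ⟨i, hi12⟩, Bool.and_false]
    · simp only [Bool.and_eq_false_iff]
      exact Or.inl (by rw [← Bool.not_eq_true, Nat.blt_eq]; exact hb)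

/-- The Sylow 2-subgroup of the model. -/
def sylSub : Subgroup (Perm (Fin 12)) where
  carrier := {σ | σ ∈ Cen ∧ inS (enc σ) = true}
  mul_mem' := fun ⟨a, b⟩ ⟨c, d⟩ => ⟨mul_mem a c, inS_mul b d⟩
  one_mem' := ⟨one_mem _, by decide +kernel⟩
  inv_mem' := by
    rintro σ ⟨h1, h2⟩
    refine ⟨inv_mem h1, ?_⟩
    have hp : ∀ n : ℕ, inS (enc (σ ^ n)) = true := fun n => by
      induction n with
      | zero => rw [pow_zero]; decide +kernel
      | succ n ih => rw [pow_succ]; exact inS_mul ih h2
    rw [inv_eq_of_mul_eq_one_right (show σ * σ ^ (orderOf σ - 1) = 1 by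
      rw [← pow_succ', Nat.sub_add_cancel (orderOf_pos σ), pow_orderOf_eq_one])]
    exact hp _

theorem mem_sylSub {σ : Perm (Fin 12)} : σ ∈ sylSub ↔ σ ∈ Cen ∧ inS (enc σ) = true := Iff.rfl

theorem enc_sylSub_iff {c : ℕ} : c ∈ sList ↔ ∃ σ ∈ sylSub, enc σ = c := by
  constructor
  · intro hc
    have h := List.all_eq_true.1 sList_ok c hc
    simp only [Bool.and_eq_true] at h
    obtain ⟨σ, hσ, rfl⟩ := exists_perm h.1.1
    exact ⟨σ, ⟨hσ, h.1.2⟩, rfl⟩
  · rintro ⟨σ, hσ, rfl⟩
    exact mem_sList hσ.1 hσ.2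

theorem card_sylSub : Nat.card sylSub = 512 := by
  have key : ∀ l : List ℕ, l.length = 512 → l.Nodup → (∀ c, c ∈ l ↔ ∃ σ ∈ sylSub, enc σ = c) →
      Nat.card sylSub = 512 := fun l hlen hnd hl => by
    have himg : enc '' (sylSub : Set (Perm (Fin 12))) = ↑l.toFinset := Set.ext fun c => by
      simp only [Set.mem_image, SetLike.mem_coe, List.coe_toFinset, Set.mem_ofPred_eq]
      exact (hl c).symm
    have := Set.ncard_image_of_injective (sylSub : Set (Perm (Fin 12))) enc_injective
    rw [himg, Set.ncard_coe_finset, List.toFinset_card_of_nodup hnd, hlen] at this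
    rw [this, ← Nat.card_coe_set_eq]
    rfl
  exact key sList sList_nodup.1 sList_nodup.2 fun c => enc_sylSub_iff

theorem hasBig_sound (E : Finset ℕ) (hE : E.card = 64)
    (hmul : ∀ a ∈ E, ∀ b ∈ E, mulP a b ∈ E) (hcomm : ∀ a ∈ E, ∀ b ∈ E, commC a b = true)
    (hone : ∀ a ∈ E, mulP a oneC = a) :
    ∀ f bs cand, oneC ∈ bs → (∀ b ∈ bs, b ∈ E) → (∀ e ∈ E, e ∈ bs ∨ e ∈ cand) →
      hasBig f bs cand = true := by
  intro f
  induction f with
  | zero => intro _ _ _ _ _; rfl
  | succ f ih =>
    intro bs cand h1 hbs hcov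
    have hsub : E ⊆ (bs ++ cand).toFinset := fun e he => by
      simpa using hcov e he
    have hlen : 64 ≤ bs.length + cand.length := by
      rw [← hE, ← List.length_append]
      exact (Finset.card_le_card hsub).trans (List.toFinset_card_le _)
    simp only [hasBig, Bool.and_eq_true, Bool.or_eq_true, Bool.not_eq_true']
    refine ⟨by rw [← Bool.not_eq_true, Nat.blt_eq, Nat.add_eq]; omega, ?_⟩
    cases cand with
    | nil => left; rw [Nat.ble_eq]; simpa using hlen
    | cons w t =>
      right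
      simp only [Bool.or_eq_true]
      by_cases hw : w ∈ E
      · left
        refine ih _ _ (List.mem_append.2 (Or.inl h1)) ?_ ?_
        · intro b hb
          rcases List.mem_append.1 hb with hb | hb
          · exact hbs b hb
          · obtain ⟨x, hx, rfl⟩ := List.mem_map.1 hb
            exact hmul w hw x (hbs x hx)
        · intro e he
          by_cases hn : e ∈ bs.map (mulP w)
          · exact Or.inl (List.mem_append.2 (Or.inr hn))
          rcases hcov e he with h | h
          · exact Or.inl (List.mem_append.2 (Or.inl h))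
          · rcases List.mem_cons.1 h with rfl | h
            · exact absurd (List.mem_map.2 ⟨oneC, h1, hone e hw⟩) hn
            · refine Or.inr (List.mem_filter.2 ⟨h, ?_⟩)
              rw [hcomm w hw e he]
              simpa [← Bool.not_eq_true, memN_iff] using hn
      · right
        refine ih _ _ h1 hbs fun e he => ?_
        rcases hcov e he with h | h
        · exact Or.inl h
        · rcases List.mem_cons.1 h with rfl | h
          · exact absurd he hw
          · exact Or.inr h

end CfsgLib.AltTwelveCentraliser
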